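import Mathlib
import Cfsg.Agent.GH3.Defs
import Cfsg.Agent.GH3.TriA
import Cfsg.Agent.Inv.DDEss
import Cfsg.Agent.NF.MA
import Cfsg.Agent.GT.SchurZassenhaus
import Cfsg.Agent.GT.CoprimeBasic

/-! Critical subgroups: generation of the normaliser by triples. See `stubs/Cfsg/Agent/GH/PLAN.md`. -/

set_option autoImplicit false
set_option linter.unusedSectionVars false
set_option linter.unusedVariables false

namespace Cfsg.Agent.GH3

open Cfsg.Agent.Inv.Fz Cfsg.Agent.NE Subgroup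
open scoped commutatorElement

variable {G : Type*} [Group G] [Finite G] {S P R K L N T V A B U : Subgroup G} {x s g b : G} {n : ℕ}

namespace CrA

theorem cn (hg : g ∈ normalizer (R : Set G)) {r : G} (hr : r ∈ R) : g * r * g⁻¹ ∈ R :=
  (mem_normalizer_iff.1 hg r).1 hr

theorem mem_I : g ∈ R ⊔ centralizer (R : Set G) ↔ ∃ a ∈ R, ∃ c, Cz c R ∧ g = a * c := by
  rw [mem_sup_iff_of_le_normalizer (le_normalizer.trans (normalizer_le_normalizer_centralizer R))]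
  exact ⟨fun ⟨a, ha, c, hc, e⟩ => ⟨a, ha, c, fun r hr => (hc r hr).symm, e⟩,
    fun ⟨a, ha, c, hc, e⟩ => ⟨a, ha, c, fun r hr => (hc r hr).symm, e⟩⟩

theorem I_le : R ⊔ centralizer (R : Set G) ≤ normalizer (R : Set G) :=
  sup_le le_normalizer (centralizer_le_normalizer _)

theorem norm_I : normalizer (R : Set G) ≤ normalizer ((R ⊔ centralizer (R : Set G) : Subgroup G) : Set G) :=
  fun g hg => cj_eq_iff.1 (by rw [cj_sup, cj_centralizer, cj_eq_iff.2 hg])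

theorem cz_I (h : Cz g R) : g ∈ R ⊔ centralizer (R : Set G) := mem_sup_right fun r hr => (h r hr).symm

theorem comm_I (hg : g ∈ R ⊔ centralizer (R : Set G)) {r : G} (hr : r ∈ R) : ⁅g, r⁆ ∈ phi R := by
  obtain ⟨a, ha, c, hc, rfl⟩ := mem_I.1 hg
  have : ⁅a * c, r⁆ = ⁅a, r⁆ := by
    simp only [commutatorElement_def]
    rw [mul_assoc a c r, hc r hr]; group
  rw [this]; exact comm_mem_phi ha hr

theorem mem_R (h : Crit S R) (hg : g ∈ S) (hI : g ∈ R ⊔ centralizer (R : Set G)) : g ∈ R := by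
  obtain ⟨a, ha, c, hc, rfl⟩ := mem_I.1 hI
  exact mul_mem ha (h.cent c (by simpa using mul_mem (inv_mem (h.le ha)) hg) hc)

theorem lift_le {I M : Subgroup G} (h : Fus.LiftSPE 2 A I M) (hI : A ≤ normalizer (I : Set G)) (h1 : M ≤ K)
    (h2 : K < A) : Fus.LiftSPE 2 A I K := by
  have := normal_subgroupOf_of_le_normalizer hI
  refine (Fus.strEmb_map_iff (h.le.trans h1) h2.le).1
    (((Fus.strEmb_map_iff h.le h.lt.le).2 h).of_le (map_mono (subgroupOf_mono A h1)) fun e => h2.2 fun g hg => ?_)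
  have h3 : QuotientGroup.mk' (I.subgroupOf A) ⟨g, hg⟩ ∈
      (K.subgroupOf A).map (QuotientGroup.mk' (I.subgroupOf A)) := e ▸ mem_top _
  rwa [← mem_comap, comap_map_eq, QuotientGroup.ker_mk', sup_eq_left.2 (subgroupOf_mono A (h.le.trans h1))] at h3

/-- The elements of `N(R)` that act trivially on `R / Φ(R)`. -/
def stab (R : Subgroup G) : Subgroup G where
  carrier := {g | g ∈ normalizer (R : Set G) ∧ ∀ r ∈ R, ⁅g, r⁆ ∈ phi R}
  one_mem' := ⟨one_mem _, fun r _ => by simp⟩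
  mul_mem' := by
    rintro a b ⟨ha, ha'⟩ ⟨hb, hb'⟩
    refine ⟨mul_mem ha hb, fun r hr => ?_⟩
    have : ⁅a * b, r⁆ = a * ⁅b, r⁆ * a⁻¹ * ⁅a, r⁆ := by simp only [commutatorElement_def]; group
    rw [this]
    exact mul_mem (cn (norm_phi ha) (hb' r hr)) (ha' r hr)
  inv_mem' := by
    rintro a ⟨ha, ha'⟩
    refine ⟨inv_mem ha, fun r hr => ?_⟩
    have : ⁅a⁻¹, r⁆ = a⁻¹ * ⁅a, r⁆⁻¹ * a⁻¹⁻¹ := by simp only [commutatorElement_def]; group
    rw [this]
    exact cn (norm_phi (inv_mem ha)) (inv_mem (ha' r hr))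

theorem norm_stab : normalizer (R : Set G) ≤ normalizer (stab R : Set G) := fun g hg =>
  mem_normalizer_of_conj_mem fun a ha => ⟨mul_mem (mul_mem hg ha.1) (inv_mem hg), fun r hr => by
    have : ⁅g * a * g⁻¹, r⁆ = g * ⁅a, g⁻¹ * r * g⁻¹⁻¹⁆ * g⁻¹ := by simp only [commutatorElement_def]; group
    rw [this]
    exact cn (norm_phi hg) (ha.2 _ (cn (inv_mem hg) hr))⟩

/-- An automorphism of odd order of an elementary abelian group of order at most 16 that is inverted by an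
involution has order dividing 15. -/
theorem pow15 {V : Type*} [Group V] [Finite V] (h2 : ∀ v : V, v * v = 1) (hc : Nat.card V ≤ 16) {σ α : MulAut V}
    (hσ : σ * σ = 1) (ho : Odd (orderOf α)) (hi : σ * α * σ⁻¹ = α⁻¹) : α ^ 15 = 1 := by
  rw [← orderOf_dvd_iff_pow_eq_one, Nat.dvd_iff_prime_pow_dvd_dvd]
  intro p k hp hk
  rcases k with _ | k
  · simp
  have p2 : p ≠ 2 := by
    rintro rfl
    exact (Nat.not_even_iff_odd.2 ho) (even_iff_two_dvd.2 ((dvd_pow_self 2 k.succ_ne_zero).trans hk))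
  have hβ := orderOf_pow_orderOf_div (orderOf_pos α).ne' hk
  set β := α ^ (orderOf α / p ^ (k + 1)) with hb
  have hβi : σ * β * σ⁻¹ = β⁻¹ := by rw [hb, ← conj_pow, hi, inv_pow]
  let H := V ⋊[MonoidHom.id (MulAut V)] MulAut V
  have : Finite H := Finite.of_equiv _ SemidirectProduct.equivProd.symm
  let W : Subgroup H := (SemidirectProduct.inl : V →* H).range
  have e2 : NF.E2 W := by
    rintro _ ⟨v, rfl⟩
    rw [← map_mul, h2, map_one]
  have hn : ∀ γ : MulAut V, (SemidirectProduct.inr γ : H) ∈ normalizer (W : Set H) := fun γ =>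
    mem_normalizer_of_conj_mem (by
      rintro _ ⟨v, rfl⟩
      exact ⟨γ v, by rw [← map_inv]; exact SemidirectProduct.inl_aut (φ := MonoidHom.id (MulAut V)) γ v⟩)
  have ox : orderOf (SemidirectProduct.inr β : H) = p ^ (k + 1) := by
    rw [orderOf_injective _ SemidirectProduct.inr_injective, hβ]
  have ff : zpowers (SemidirectProduct.inr β : H) ⊓ centralizer (W : Set H) = ⊥ := by
    rw [eq_bot_iff]
    rintro _ ⟨⟨j, rfl⟩, hz⟩
    have : β ^ j = 1 := by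
      ext v
      have h1 : (SemidirectProduct.inl v : H) * SemidirectProduct.inr β ^ j =
        SemidirectProduct.inr β ^ j * SemidirectProduct.inl v := hz (SemidirectProduct.inl v) ⟨v, rfl⟩
      have h3 := SemidirectProduct.inl_aut (φ := MonoidHom.id (MulAut V)) (β ^ j) v
      rw [map_inv, map_zpow SemidirectProduct.inr, ← h1, mul_inv_cancel_right] at h3
      exact SemidirectProduct.inl_injective h3
    show (SemidirectProduct.inr β : H) ^ j ∈ ⊥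
    rw [← map_zpow, this, map_one]; exact one_mem _
  have nc : (SemidirectProduct.inr β : H) ∉ centralizer (W : Set H) := fun hz => by
    have h1 : (SemidirectProduct.inr β : H) ∈ (⊥ : Subgroup H) := ff ▸ ⟨mem_zpowers _, hz⟩
    rw [mem_bot.1 h1, orderOf_one] at ox
    exact (Nat.one_lt_pow k.succ_ne_zero hp.one_lt).ne ox
  have t2 : (SemidirectProduct.inr σ : H) * SemidirectProduct.inr σ = 1 := by rw [← map_mul, hσ, map_one]
  have cW : Nat.card W ≤ 16 := by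
    rw [← Nat.card_congr (MonoidHom.ofInjective SemidirectProduct.inl_injective).toEquiv]; exact hc
  have sq := NF.MA.card_le_sq e2 (hn σ) t2
  have h5 := NF.inv_card e2 (hn σ) (hn β) t2 (ox ▸ (hp.odd_of_ne_two p2).pow)
    (by rw [← map_inv, ← map_mul, ← map_mul, hβi, map_inv]) (by nlinarith) nc
  have h6 := NF.ord_of_card e2 (hn β) ff hp p2 ox (h5.imp_right And.left)
  rw [← ox]
  rcases h6 with e | e
  · rw [e]; norm_num
  · rw [e.1]; norm_num

end CrA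

open CrA

theorem Crit.ess (h : Crit S R) (hS : IsSylIn 2 S ⊤) : Inv.DD.Ess S R := by
  have hi : ¬ 2 ∣ S.index := by simpa using hS.not_dvd_relIndex
  have hFN : (groupFusionSystem S).IsFullyNormalized R :=
    (FusionSystem.isFullyNormalized_group_iff hS.isPGroup hi).2 ⟨h.le, h.syl.not_dvd_relIndex⟩
  have hC := ((FusionSystem.isSaturated_group hS.isPGroup hi).fullyCentralized hS.isPGroup hFN).isCentric
    fun y hy => h.cent y hy.1 fun r hr => (hy.2 r hr).symm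
  refine Inv.DD.ess_of_isEssential hS.toSylowTop (FusionSystem.isEssential_iff.2 ⟨hC, hFN, ?_⟩)
    fun e => h.ne (le_of_eq e.symm)
  obtain ⟨M, hM⟩ := h.se
  have hm : ∀ K, centralizer (R : Set G) ≤ K → ∀ g ∈ normalizer (R : Set G),
      Fus.cAut R g ∈ autInducedBy K R ↔ g ∈ K := fun K hK g hg => by
    rw [Fus.cAut_mem_autInducedBy_iff hg]
    exact ⟨fun ⟨k, hk, e⟩ => by simpa using mul_mem hk.1 (hK e), fun e => ⟨g, ⟨e, hg⟩, by simp⟩⟩
  have hM' := hm M (le_sup_right.trans hM.le)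
  have hI : ∀ g ∈ normalizer (R : Set G), Fus.cAut R g ∈ Inn R ↔ g ∈ R ⊔ centralizer (R : Set G) := fun g hg => by
    rw [Fus.inn_eq_autInducedBy, Fus.cAut_mem_autInducedBy_iff hg]
    refine ⟨fun ⟨k, hk, e⟩ => by simpa using mul_mem (mem_sup_left hk.1) (mem_sup_right e), fun e => ?_⟩
    obtain ⟨a, ha, c, hc, rfl⟩ := mem_I.1 e
    exact ⟨a, ⟨ha, le_normalizer ha⟩, fun r hr => by simpa using (hc r hr).symm⟩
  have hp : ∀ g ∈ normalizer (R : Set G), Fus.cAut R g ^ 2 = Fus.cAut R (g ^ 2) := fun g hg => by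
    rw [pow_two, pow_two, Fus.cAut_mul hg hg]
  show ∃ H, Fus.LiftSPE 2 ((groupFusionSystem S).autGroup R) (Inn R) H
  rw [FusionSystem.autGroup_group h.le]
  refine ⟨autInducedBy M R, Fus.inn_le_autInducedBy (le_sup_left.trans hM.le),
    lt_of_le_of_ne (Fus.autInducedBy_mono le_top) fun e => hM.lt.2 fun g hg => ?_, ?_, fun γ hγ α hα h1 h2 h3 => ?_⟩
  · exact (hM' g hg).1 (e ▸ Fus.cAut_mem_autInducedBy ⟨mem_top g, hg⟩)
  · obtain ⟨x, hx, h1, h2⟩ := hM.ex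
    have hn := hM.lt.le hx
    exact ⟨_, (hM' x hn).2 hx, (hI x hn).not.2 h1, by rw [hp x hn]; exact (hI _ (pow_mem hn 2)).2 h2⟩
  · obtain ⟨g, hg, rfl⟩ := Fus.mem_autInducedBy_iff_cAut.1 hγ
    obtain ⟨x, hx, rfl⟩ := Fus.mem_autInducedBy_iff_cAut.1 hα
    rw [hp x hx.2, hI _ (pow_mem hx.2 2)] at h2
    rw [← Fus.cAut_inv hg.2, ← Fus.cAut_mul hg.2 hx.2, ← Fus.cAut_mul (mul_mem hg.2 hx.2) (inv_mem hg.2),
      hM' _ (mul_mem (mul_mem hg.2 hx.2) (inv_mem hg.2))] at h3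
    exact (hM' g hg.2).2 (hM.mem_of_conj g hg.2 x hx.1 ((hI x hx.2).not.1 h1) h2 h3)

/-- A 2-subgroup of `R C(R)` lies in `R`. -/
theorem Crit.two_le (h : Crit S R) (hS : IsPGroup 2 S) (hK : IsPGroup 2 K) (hle : K ≤ R ⊔ centralizer (R : Set G)) :
    K ≤ R := by
  obtain ⟨g, hg, e⟩ := h.syl.exists_cj_le hK (hle.trans I_le)
  intro k hk
  have := cn (inv_mem hg) (mem_R h (cj_le_iff.1 e k hk).1 (cn (norm_I hg) (hle hk)))
  simpa [mul_assoc] using this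

/-- An element of `N(R)` that acts trivially on `R / Φ(R)` lies in `R C(R)`. -/
theorem Crit.mem_of_phi (h : Crit S R) (hS : IsPGroup 2 S) (hg : g ∈ normalizer (R : Set G))
    (h1 : ∀ r ∈ R, ⁅g, r⁆ ∈ phi R) : g ∈ R ⊔ centralizer (R : Set G) := by
  obtain ⟨M₀, hM₀⟩ := h.se
  obtain ⟨M, hM, hP⟩ := hM₀.exists_ge norm_I h.syl.isPGroup inf_le_right
  have ho : ∀ k ∈ stab R, Odd (orderOf k) → k ∈ R ⊔ centralizer (R : Set G) := fun k hk h2 =>
    cz_I ((od_of_odd (hS.to_le h.le) hk.1 h2).cz_of_phi hk.2)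
  have hK : stab R ≤ M := Inv.DD.le_of_odd (h.syl.inf_of_le_normalizer (fun _ hk => hk.1) norm_stab)
    (inf_le_left.trans hP) fun k hk h2 => hM.le (ho k hk h2)
  have hg' : g ∈ stab R := ⟨hg, h1⟩
  obtain ⟨k, hk⟩ := exists_pow_odd g
  by_contra hI
  exact hM.lt.2 fun y hy => hM.mem_of_conj_pow hy (hK hg') hI (ho _ (pow_mem hg' _) hk) (hK (cn (norm_stab hy) hg'))

namespace CrA

variable {Q : Type*} [Group Q] [Finite Q] {ψ : normalizer (R : Set G) →* Q}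
  (hψ : ∀ y, ψ y = 1 ↔ (y : G) ∈ R ⊔ centralizer (R : Set G))
include hψ

theorem tri_of (h : Crit S R) (hS : IsPGroup 2 S) {s y : normalizer (R : Set G)} (sS : (s : G) ∈ S) (s1 : (s : G) ∉ R)
    (s2 : (s : G) * s ∈ R) {p : ℕ} (hp : p = 3 ∨ p = 5) (yp : ψ y ^ p = 1) (y1 : ψ y ≠ 1)
    (hi : ψ s * ψ y * (ψ s)⁻¹ = (ψ y)⁻¹) :
    ∃ x : normalizer (R : Set G), ψ x = ψ y ∧ ∃ r ∈ R, T1 S R x (s * r) := by
  have pR := hS.to_le h.le
  have r1 : ∀ r (hr : r ∈ R), ψ ⟨r, le_normalizer hr⟩ = 1 := fun r hr => (hψ _).2 (mem_sup_left hr)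
  set L := ((zpowers (ψ y)).comap ψ).map (normalizer (R : Set G)).subtype
  have LN : L ≤ normalizer (R : Set G) := map_subtype_le _
  have mL : ∀ l : normalizer (R : Set G), (l : G) ∈ L ↔ ψ l ∈ zpowers (ψ y) := fun l =>
    mem_map_iff_mem (f := (normalizer (R : Set G)).subtype) (subtype_injective _)
  have RL : R ≤ L := fun r hr => (mL ⟨r, le_normalizer hr⟩).2 (r1 r hr ▸ one_mem _)
  have syl : IsSylIn 2 R L := ⟨RL, pR, fun K hK KL RK => le_antisymm (h.two_le hS hK fun k hk => ?_) RK⟩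
  swap
  · refine (hψ ⟨k, LN (KL hk)⟩).1 ?_
    obtain ⟨j, hj⟩ := hK ⟨k, hk⟩
    obtain ⟨i, e⟩ := (mL ⟨k, LN (KL hk)⟩).1 (KL hk)
    have a1 : ψ ⟨k, LN (KL hk)⟩ ^ 2 ^ j = 1 := by
      rw [← map_pow, show (⟨k, LN (KL hk)⟩ : normalizer (R : Set G)) ^ 2 ^ j = 1 from
        Subtype.ext (show k ^ 2 ^ j = 1 from congrArg Subtype.val hj), map_one]
    have a2 : ψ ⟨k, LN (KL hk)⟩ ^ p = 1 := by
      rw [← e, ← zpow_natCast, ← zpow_mul, mul_comm, zpow_mul, zpow_natCast, yp, one_zpow]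
    have a3 : ψ ⟨k, LN (KL hk)⟩ ^ (2 ^ j).gcd p = 1 := pow_gcd_eq_one.2 ⟨a1, a2⟩
    have a4 : (2 ^ j).gcd p = 1 := Nat.Coprime.pow_left j (by rcases hp with rfl | rfl <;> norm_num)
    rwa [a4, pow_one] at a3
  obtain ⟨a, ha⟩ := IsPGroup.iff_card.1 pR
  have cop : (Nat.card R).Coprime (R.relIndex L) :=
    ha ▸ ((Nat.prime_two.coprime_iff_not_dvd).2 syl.not_dvd_relIndex).pow_left a
  obtain ⟨D, DL, e1, e2, e3⟩ := GT.exists_complement_of_coprime_relIndex RL LN cop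
  have DN := DL.trans LN
  obtain ⟨x, hx, r₀, hr₀, e⟩ := (mem_sup_iff_of_le_normalizer DN).1
    (show (y : G) ∈ D ⊔ R from sup_comm R D ▸ e1 ▸ (mL y).2 (mem_zpowers _))
  have xy : ψ ⟨x, DN hx⟩ = ψ y := by
    rw [show y = ⟨x, DN hx⟩ * ⟨r₀, le_normalizer hr₀⟩ from Subtype.ext e, map_mul, r1 _ hr₀, mul_one]
  have BL : cj (s : G) D ≤ R ⊔ D := by
    rw [e1, cj_le_iff]
    intro d hd
    obtain ⟨i, e⟩ := (mL ⟨d, DN hd⟩).1 (DL hd)
    refine (mL (s * ⟨d, DN hd⟩ * s⁻¹)).2 ?_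
    rw [map_mul, map_mul, map_inv, ← e, ← conj_zpow, hi]
    exact zpow_mem (inv_mem (mem_zpowers _)) i
  have := pR.isNilpotent
  obtain ⟨k, hk, hD⟩ := GT.CopAct.exists_conj_mem_of_le_sup DN (e3 ▸ cop.symm) (.inr inferInstance) BL
    (by rw [card_cj, e3]; exact cop.symm)
  have sD : ∀ d ∈ D, k * s * d * (k * s)⁻¹ ∈ D := fun d hd => by
    simpa [mul_assoc] using hD _ (conj_mem_cj.2 hd)
  have cz : ∀ d (hd : d ∈ D), ψ ⟨d, DN hd⟩ = 1 → Cz d R := fun d hd h1 => by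
    refine (od_of_odd pR (DN hd) ?_).cz_of_phi fun r hr => comm_I ((hψ _).1 h1) hr
    exact Nat.odd_iff.2 (Nat.two_dvd_ne_zero.1 fun h2 => syl.not_dvd_relIndex
      (e3 ▸ h2.trans (orderOf_dvd_natCard D hd)))
  have ss : k * s * (k * s) ∈ R := by
    simpa [mul_assoc] using mul_mem (mul_mem hk (cn s.2 hk)) s2
  refine ⟨⟨x, DN hx⟩, xy, (s : G)⁻¹ * k * s, by simpa using cn (inv_mem s.2) hk, h, ?_, ?_⟩
  · rw [show (s : G) * ((s : G)⁻¹ * k * s) = k * s by group]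
    refine ⟨pR, DN hx, mul_mem (le_normalizer hk) s.2, fun h1 => s1 (by simpa using mul_mem (inv_mem hk) h1), ss, ?_,
      cz _ (mul_mem (sD x hx) hx) ?_, ?_, fun h1 => y1 (xy ▸ (hψ _).2 (cz_I h1))⟩
    · have a1 : k * s * (k * s * x * (k * s)⁻¹) * (k * s)⁻¹ * x⁻¹ ∈ R ⊓ D :=
        ⟨by simpa [mul_assoc] using mul_mem ss (cn (DN hx) (inv_mem ss)), D.mul_mem (sD _ (sD x hx)) (D.inv_mem hx)⟩
      rw [e2, mem_bot] at a1
      show x * _ = _ * x
      calc x * (k * s * (k * s)) = k * s * (k * s * x * (k * s)⁻¹) * (k * s)⁻¹ * x⁻¹ * (x * (k * s * (k * s))) := by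
            rw [a1, one_mul]
        _ = _ := by group
    · rw [show (⟨k * s * x * (k * s)⁻¹ * x, _⟩ : normalizer (R : Set G)) = ⟨k, le_normalizer hk⟩ * s * ⟨x, DN hx⟩ *
        (⟨k, le_normalizer hk⟩ * s)⁻¹ * ⟨x, DN hx⟩ from rfl]
      simp only [map_mul, map_inv, r1 k hk, one_mul, xy, hi, inv_mul_cancel]
    · have a1 : Cz (x ^ p) R := cz _ (pow_mem hx p) (by
        rw [show (⟨x ^ p, _⟩ : normalizer (R : Set G)) = ⟨x, DN hx⟩ ^ p from rfl, map_pow, xy, yp])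
      rcases hp with rfl | rfl
      exacts [.inl a1, .inr a1]
  · exact mul_mem sS (h.le (by simpa using cn (inv_mem s.2) hk))

theorem inv_tri (h15 : ∀ σ α : Q, σ * σ = 1 → Odd (orderOf α) → σ * α * σ⁻¹ = α⁻¹ → α ^ 15 = 1)
    (h : Crit S R) (hS : IsPGroup 2 S) {M : Subgroup G}
    (hM : Fus.LiftSPE 2 (normalizer (R : Set G)) (R ⊔ centralizer (R : Set G)) M) {s : normalizer (R : Set G)}
    (sM : (s : G) ∈ M) (sS : (s : G) ∈ S) (s1 : (s : G) ∉ R) (s2 : (s : G) * s ∈ R) :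
    ∃ x ∈ normalizer (R : Set G), x ∉ M ∧ ∃ r ∈ R, T1 S R x (s * r) := by
  have cg : ∀ a b : normalizer (R : Set G), ψ a = ψ b → (b : G) ∈ M → (a : G) ∈ M := fun a b e hb => by
    simpa using mul_mem (hM.le ((hψ (a * b⁻¹)).1 (by rw [map_mul, map_inv, e, mul_inv_cancel]))) hb
  have mc : ∀ a b : normalizer (R : Set G), (b : G) ∈ M → ψ b ≠ 1 → ψ b * ψ b = 1 → ((a * b * a⁻¹ : normalizer (R : Set G)) : G) ∈ M →
      (a : G) ∈ M := fun a b h1 h2 h3 h4 =>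
    hM.mem_of_conj a a.2 b h1 ((hψ b).not.1 h2) ((hψ (b ^ 2)).1 (by rw [map_pow, pow_two, h3])) h4
  have mc' : ∀ a b : normalizer (R : Set G), (b : G) ∈ M → ψ b ≠ 1 → ψ b * ψ b = 1 → ψ a * ψ b = ψ b * ψ a →
      (a : G) ∈ M := fun a b h1 h2 h3 h4 =>
    mc a b h1 h2 h3 (cg _ b (by rw [map_mul, map_mul, map_inv, h4, mul_inv_cancel_right]) h1)
  obtain ⟨g, hg, gM⟩ := SetLike.exists_of_lt hM.lt
  have σ1 : ψ s ≠ 1 := fun e => s1 (mem_R h sS ((hψ s).1 e))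
  have σ2 : ψ s * ψ s = 1 := by rw [← map_mul]; exact (hψ _).2 (mem_sup_left s2)
  obtain ⟨t, tM, τ2⟩ : ∃ t : normalizer (R : Set G), (t : G) ∉ M ∧ ψ t * ψ t = 1 :=
    ⟨⟨g, hg⟩ * s * ⟨g, hg⟩⁻¹, fun e => gM (mc ⟨g, hg⟩ s sM σ1 σ2 e), by
      simp only [map_mul, map_inv]
      calc _ = ψ ⟨g, hg⟩ * (ψ s * ψ s) * (ψ ⟨g, hg⟩)⁻¹ := by group
        _ = 1 := by rw [σ2]; group⟩
  have σi := inv_eq_of_mul_eq_one_left σ2
  have τi := inv_eq_of_mul_eq_one_left τ2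
  have i1 : ∀ m : ℕ, ψ s * ψ ((s * t) ^ m) * (ψ s)⁻¹ = (ψ ((s * t) ^ m))⁻¹ := fun m => by
    rw [map_pow, ← conj_pow, ← inv_pow, map_mul, ← mul_assoc, σ2, one_mul, mul_inv_rev, τi]
  have i2 : ∀ m : ℕ, ψ t * ψ ((s * t) ^ m) * (ψ t)⁻¹ = (ψ ((s * t) ^ m))⁻¹ := fun m => by
    rw [map_pow, ← conj_pow, ← inv_pow, map_mul, ← mul_assoc, mul_inv_cancel_right, mul_inv_rev, τi, σi]
  have ho : Odd (orderOf (ψ (s * t))) := by
    by_contra h0
    obtain ⟨m, e⟩ := Nat.not_odd_iff_even.1 h0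
    have pos := orderOf_pos (ψ (s * t))
    have z1 : ψ ((s * t) ^ m) ≠ 1 := by
      rw [map_pow]; exact pow_ne_one_of_lt_orderOf (by omega) (by omega)
    have z2 : ψ ((s * t) ^ m) * ψ ((s * t) ^ m) = 1 := by rw [map_pow, ← pow_add, ← e, pow_orderOf_eq_one]
    have zi := inv_eq_of_mul_eq_one_left z2
    have a1 := i1 m
    have a2 := i2 m
    rw [zi, mul_inv_eq_iff_eq_mul] at a1 a2
    exact tM (mc' t _ (mc' _ s sM σ1 σ2 a1.symm) z1 z2 a2)
  have y15 : ψ (s * t) ^ 15 = 1 := h15 _ _ σ2 ho (by simpa only [pow_one] using i1 1)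
  have key : ∀ m p : ℕ, p = 3 ∨ p = 5 → m * p = 15 * 2 → (((s * t) ^ m : normalizer (R : Set G)) : G) ∉ M →
      ∃ x ∈ normalizer (R : Set G), x ∉ M ∧ ∃ r ∈ R, T1 S R x (s * r) := fun m p hp e h1 => by
    obtain ⟨x, hx, h2⟩ := tri_of hψ h hS sS s1 s2 hp (y := (s * t) ^ m)
      (by rw [map_pow, ← pow_mul, e, pow_mul, y15, one_pow]) (fun h3 => h1 (hM.le ((hψ _).1 h3))) (i1 m)
    exact ⟨x, x.2, fun h3 => h1 (cg _ _ hx.symm h3), h2⟩
  by_cases a1 : (((s * t) ^ 10 : normalizer (R : Set G)) : G) ∈ M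
  · refine key 6 5 (.inr rfl) rfl fun a2 => tM ?_
    have a3 := cg (s * t) ((s * t) ^ 10 * (s * t) ^ 6) (by
      rw [← pow_add, map_pow, show 10 + 6 = 15 + 1 from rfl, pow_succ, y15, one_mul]) (mul_mem a1 a2)
    simpa using mul_mem (inv_mem sM) a3
  · exact key 10 3 (.inl rfl) rfl a1

omit hψ in
theorem inv_tri' (h : Crit S R) (hS : IsPGroup 2 S) (h4 : Rk 16 R) {M : Subgroup G}
    (hM : Fus.LiftSPE 2 (normalizer (R : Set G)) (R ⊔ centralizer (R : Set G)) M) (sn : s ∈ normalizer (R : Set G))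
    (sM : s ∈ M) (sS : s ∈ S) (s1 : s ∉ R) (s2 : s * s ∈ R) :
    ∃ x ∈ normalizer (R : Set G), x ∉ M ∧ ∃ r ∈ R, T1 S R x (s * r) := by
  have : ((phi R).subgroupOf R).Normal :=
    normal_subgroupOf_of_le_normalizer fun r hr => norm_phi (le_normalizer hr)
  have hA : GT.CopAct.ActInv R.normalizerMonoidHom ((phi R).subgroupOf R) := fun a u hu => cn (norm_phi a.2) hu
  have hc : Nat.card (R ⧸ (phi R).subgroupOf R) ≤ 16 := by
    have h1 := h4 (phi R) R phi_le le_rfl fun x hx => mem_phi hx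
    rw [← card_mul_relIndex (phi_le (R := R)), mul_comm 16] at h1
    exact Nat.le_of_mul_le_mul_left h1 Nat.card_pos
  have h2 : ∀ v : R ⧸ (phi R).subgroupOf R, v * v = 1 := fun v => by
    obtain ⟨r, rfl⟩ := QuotientGroup.mk_surjective v
    exact (QuotientGroup.eq_one_iff (r * r)).2 (mem_phi r.2)
  refine inv_tri (ψ := GT.CopAct.quotHom R.normalizerMonoidHom _ hA) (fun y => ?_)
    (fun σ α => pow15 h2 hc) h hS hM (s := ⟨s, sn⟩) sM sS s1 s2
  rw [← MonoidHom.mem_ker, GT.CopAct.mem_ker_quotHom]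
  have e : ∀ r ∈ R, (r⁻¹ * (y * r * (y : G)⁻¹) ∈ phi R ↔ ⁅(y : G), r⁆ ∈ phi R) := fun r hr => by
    rw [mem_normalizer_iff.1 (norm_phi (le_normalizer hr)), commutatorElement_def]
    simp [mul_assoc]
  exact ⟨fun h1 => h.mem_of_phi hS y.2 fun r hr => (e r hr).1 (h1 ⟨r, hr⟩),
    fun h1 r => (e r r.2).2 (comm_I h1 r.2)⟩

end CrA

/-- An element of `N(R)` of odd order modulo `R C(R)` that is inverted by an element of `S` comes from a triple. -/
theorem Crit.gen (h : Crit S R) (hS : IsPGroup 2 S) (h4 : Rk 16 R) {M : Subgroup G}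
    (hM : Fus.LiftSPE 2 (normalizer (R : Set G)) (R ⊔ centralizer (R : Set G)) M)
    (hP : S ⊓ normalizer (R : Set G) ≤ M) (hK : M ≤ K) (hT : ∀ x s, T1 S R x s → x ∈ K) :
    normalizer (R : Set G) ≤ K := by
  by_contra hcon
  have hK' := lift_le (K := K ⊓ normalizer (R : Set G)) hM norm_I (le_inf hK hM.lt.le)
    (lt_of_le_of_ne inf_le_right fun e => hcon (e ▸ inf_le_left))
  obtain ⟨y, hy, h1⟩ := SetLike.exists_of_lt (lt_inf_normalizer hS (lt_of_le_not_ge h.le h.ne))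
  obtain ⟨s, hs, s1, s2⟩ : ∃ s ∈ S ⊓ normalizer (R : Set G), s ∉ R ∧ s * s ∈ R := by
    obtain ⟨k, hk⟩ := hS ⟨y, hy.1⟩
    have hk' : y ^ 2 ^ k ∈ R := by rw [show y ^ 2 ^ k = 1 from congrArg Subtype.val hk]; exact one_mem _
    clear hk
    induction k generalizing y with
    | zero => exact absurd (by simpa using hk') h1
    | succ k ih =>
      by_cases h2 : y * y ∈ R
      · exact ⟨y, hy, h1, h2⟩
      · exact ih (y * y) (mul_mem hy hy) h2 (by rwa [← pow_two, ← pow_mul, ← pow_succ'])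
  obtain ⟨x, hx, x1, r, -, hT'⟩ := inv_tri' h hS h4 hK' hs.2 ⟨hK (hP hs), hs.2⟩ hs.1 s1 s2
  exact x1 ⟨hT _ _ hT', hx⟩

theorem Crit.exists_tri (h : Crit S R) (hS : IsPGroup 2 S) (h4 : Rk 16 R) (hs : s ∈ S)
    (hn : s ∈ normalizer (R : Set G)) (h1 : s ∉ R) (h2 : s * s ∈ R) : ∃ x, ∃ r ∈ R, T1 S R x (s * r) := by
  obtain ⟨M₀, hM₀⟩ := h.se
  obtain ⟨M, hM, hP⟩ := hM₀.exists_ge norm_I h.syl.isPGroup inf_le_right
  obtain ⟨x, -, -, hT⟩ := inv_tri' h hS h4 hM hn (hP ⟨hs, hn⟩) hs h1 h2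
  exact ⟨x, hT⟩

end Cfsg.Agent.GH3
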