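import Mathlib
import Cfsg.Agent.GH3.TriA
import Cfsg.Agent.Loc.CardProd

/-! Two-generator supports. See `stubs/Cfsg/Agent/GH/PLAN.md`. -/

set_option autoImplicit false
set_option linter.unusedSectionVars false

namespace Cfsg.Agent.GH3

open Cfsg.Agent.Inv.Fz Cfsg.Agent.NE Subgroup
open Cfsg.Agent.Loc.Mss (cmod mem_cmod le_cmod norm_cmod comm_le_left comm_le_right mem_cent cent_le_norm norm_cent
  cent_anti cent_comm conj_mem_of_norm conj_mem_of_norm' mem_sup_norm mem_sup_norm' norm_inf norm_sup norm_comm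
  le_of_le_sup_comm comm_eq_bot_iff norm_of_comm_le')
open Cfsg.Agent.GT TriA
open scoped commutatorElement

variable {G : Type*} [Group G] [Finite G] {S P R K L N T V A M : Subgroup G} {x s g b t : G} {n : ℕ}

namespace TriB

theorem four_aux {u v : G} (hu : u * u = 1) (hv : v * v = 1) (c : u * v = v * u) :
    (∀ g, g ∈ closure ({u, v} : Set G) ↔ g = 1 ∨ g = u ∨ g = v ∨ g = u * v) ∧
      (∀ g ∈ closure ({u, v} : Set G), g * g = 1) ∧
      (u ≠ 1 → v ∉ zpowers u → Nat.card (closure ({u, v} : Set G)) = 4) := by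
  obtain ⟨a1, a2, a3⟩ := ext_elem (A := ⊥) (by simp) hu (by simp)
  obtain ⟨b1, b2, b3⟩ := ext_elem a2 hv fun g hg => (comm_zpowers c.symm (by simpa [NE.ext] using hg))
  have e : closure ({u, v} : Set G) = ext (ext ⊥ u) v := by
    rw [NE.ext, NE.ext, bot_sup_eq, zpowers_eq_closure, zpowers_eq_closure, ← Subgroup.closure_union]; rfl
  rw [e]
  refine ⟨fun g => ?_, b2, fun h1 h2 => by rw [b3 (by simpa [NE.ext] using h2), a3 (by simpa using h1), card_bot]⟩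
  rw [b1, a1, a1, mem_bot, mem_bot, mem_bot, mem_bot, ← mul_assoc, mul_eq_one_iff_inv_eq (a := u),
    mul_eq_one_iff_inv_eq (a := v), mul_eq_one_iff_inv_eq (a := u * v), mul_inv_rev, inv_of_sq hu, inv_of_sq hv, ← c,
    or_assoc, eq_comm (a := u), eq_comm (a := v), eq_comm (a := u * v)]

theorem card_ext_le (hx : x ∈ normalizer (N : Set G)) (h2 : x * x ∈ N) : Nat.card (ext N x) ≤ 2 * Nat.card N := by
  by_cases e : x ∈ N
  · have := card_le_of_le (ext_le.2 ⟨le_rfl, e⟩)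
    omega
  · exact (card_ext hx h2 e).le

theorem exists_nphi (h : IsPGroup 2 T) (h2 : T ≠ ⊥) : ∃ t ∈ T, t ∉ phi T :=
  SetLike.not_le_iff_exists.1 fun l => h2 (eq_bot_iff.2 (le_of_sup_phi h bot_le (l.trans le_sup_right)))

theorem der_le_phi : ⁅T, T⁆ ≤ phi T := commutator_le.2 fun _ ha _ hb => comm_mem_phi ha hb

theorem phi_sub (h : IsPGroup 2 T) (h2 : T ≠ ⊥) (e : ∀ t ∈ T, t ∉ phi T → t * t ∈ ⁅T, T⁆) : phi T ≤ ⁅T, T⁆ := by
  obtain ⟨t, ht, nt⟩ := exists_nphi h h2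
  refine phi_le_iff.2 fun r hr => (em (r ∈ phi T)).elim (fun l => ?_) (e r hr)
  rw [show r * r = (t * t)⁻¹ * ⁅t, t * r⁆ * (t * r * (t * r)) by simp [commutatorElement_def, mul_assoc]]
  exact mul_mem (mul_mem (inv_mem (e t ht nt)) (commutator_mem_commutator ht (mul_mem ht hr)))
    (e _ (mul_mem ht hr) fun a => nt ((mul_mem_cancel_right l).1 a))

theorem exists_fx' (x : G) (h : K ≤ normalizer (L : Set G)) : ∃ F : Subgroup G, ∀ k, k ∈ F ↔ k ∈ K ∧ ⁅x, k⁆ ∈ L :=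
  ⟨K ⊓ stab L x, fun _ => ⟨fun a => ⟨a.1, cinv.1 a.2.2⟩, fun a => ⟨a.1, h a.1, cinv.1 a.2⟩⟩⟩

theorem sq_hom (ab : T ≤ centralizer (T : Set G)) : ∃ W : ℕ, (∀ u ∈ phi T, ∃ v ∈ T, v * v = u) ∧
    ∀ X ≤ T, (∀ u ∈ T, u * u = 1 → u ∈ X) → Nat.card X = W * Nat.card (phi X) := by
  have key : ∀ X ≤ T, ∃ φ : X →* G, (∀ a, φ a = a * a) ∧ φ.range = phi X := fun X hX => by
    refine ⟨MonoidHom.mk' (fun a => (a : G) * a) fun a c => ?_, fun _ => rfl, le_antisymm ?_ (phi_le_iff.2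
      fun r hr => ⟨⟨r, hr⟩, rfl⟩)⟩
    · rw [coe_mul, mul_assoc, ← mul_assoc (c : G), ← mem_cent.1 (ab (hX c.2)) _ (hX a.2)]; group
    · rintro _ ⟨a, rfl⟩; exact mem_phi a.2
  obtain ⟨φ, p1, p2⟩ := key T le_rfl
  refine ⟨Nat.card (φ.ker.map T.subtype), fun u hu => ?_, fun X hX h => ?_⟩
  · obtain ⟨v, hv⟩ := p2.ge hu
    exact ⟨v, v.2, (p1 v).symm.trans hv⟩
  obtain ⟨ψ, q1, q2⟩ := key X hX
  have e : φ.ker.map T.subtype = ψ.ker.map X.subtype := by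
    refine le_antisymm ?_ ?_ <;> rintro _ ⟨a, ha, rfl⟩
    · exact ⟨⟨a, h a a.2 ((p1 a).symm.trans ha)⟩, (q1 _).trans ((p1 a).symm.trans ha), rfl⟩
    · exact ⟨⟨a, hX a.2⟩, (p1 _).trans ((q1 a).symm.trans ha), rfl⟩
  rw [e, card_map_of_injective X.subtype_injective, ← q2, ← index_ker, card_mul_index]

theorem nil (h : IsPGroup 2 T) (hK : K ≤ T) (hn : T ≤ normalizer (K : Set G)) (e : K ≤ ⁅K, T⁆) : K = ⊥ := by
  obtain ⟨k, hk⟩ := PG.exists_iterCommutator_eq_bot_of_isPGroup (h.to_le hK) h hn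
  exact eq_bot_iff.2 (le_of_le_sup_comm hk le_normalizer_of_normal le_normalizer_of_normal (e.trans le_sup_right))

theorem le_of_gen {u v : G} (e : T = closure {u, v}) (a : u ∈ K) (c : v ∈ K) : T ≤ K :=
  e.le.trans ((closure_le _).2 (by rintro _ (rfl | rfl); exacts [a, c]))

/-- one step of an elementary abelian section -/
theorem step (hA : ⁅A, A⁆ ≤ N) (h1 : N ≤ K) (h2 : K ≤ A) (h3 : ∀ g ∈ K, g * g ∈ N) {u : G} (hu : u ∈ A)
    (u2 : u * u ∈ N) : (∀ g, g ∈ ext K u ↔ g ∈ K ∨ u * g ∈ K) ∧ ext K u ≤ A ∧ (∀ g ∈ ext K u, g * g ∈ N) ∧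
      (u ∉ K → Nat.card (ext K u) = 2 * Nat.card K) := by
  have un : u ∈ normalizer (K : Set G) := norm_of h2 fun r hr => h1 (hA (commutator_mem_commutator hu hr))
  refine ⟨fun g => mem_ext un (h1 u2), ext_le.2 ⟨h2, hu⟩, fun g hg => ((mem_ext un (h1 u2)).1 hg).elim (h3 g)
    fun l => ?_, card_ext un (h1 u2)⟩
  rw [show g * g = (u * u)⁻¹ * ⁅u, u * g⁆ * (u * g * (u * g)) by simp [commutatorElement_def, mul_assoc]]
  exact mul_mem (mul_mem (inv_mem u2) (hA (commutator_mem_commutator hu (h2 l)))) (h3 _ l)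

end TriB

open TriB

theorem Ix.card_le (hi : Ix S M s) (hB : K ≤ S) : Nat.card K ≤ 2 * Nat.card ↥(K ⊓ M) := by
  by_cases l : K ≤ M
  · rw [inf_eq_left.2 l]; omega
  obtain ⟨y, hy, n⟩ := SetLike.not_le_iff_exists.1 l
  have ix : Ix K (K ⊓ M) y := fun z hz => (em (z ∈ M)).imp (fun l => ⟨hz, l⟩) fun l =>
    ⟨K.mul_mem hy hz, hi.mul_mem (hB hy) (hB hz) n l⟩
  exact (ix.card inf_le_left hy fun l => n l.2).le

/-- No fixed points in `[A, x] N / N` if that group is abelian. -/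
theorem Od.fixF (h : Od A x) (hx : x ∈ normalizer (N : Set G)) (hA : A ≤ normalizer (N : Set G))
    (hc : ⁅supp A x, supp A x⁆ ≤ N) {y : G} (hy : y ∈ supp A x ⊔ N) (e : ⁅x, y⁆ ∈ N) : y ∈ N := by
  have l := supp_le h.xn
  obtain ⟨u, hu, k, hk, rfl⟩ := (mem_sup_norm' (l.trans hA)).1 hy
  have a0 : ⁅x, k⁆ ∈ N := mul_mem (conj_mem_of_norm hx hk) (inv_mem hk)
  rw [commutatorElement_mul_right_eq_mul_conj, mul_assoc, mul_assoc, ← mul_assoc u, mul_mem_cancel_right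
    (conj_mem_of_norm (hA (l hu)) a0)] at e
  obtain ⟨d, hd, a⟩ := (h.mono l mem_norm_supp).lift (L := supp A x ⊓ N) inf_le_left
    (norm_inf (X := zpowers x) (zpowers_le.2 mem_norm_supp) (zpowers_le.2 hx) (mem_zpowers x)) hu
    (norm_inf le_normalizer (l.trans hA) hu) ⟨(comm_mem_supp (l hu)).1, e⟩
  have := hc (h.fix_le_comm ⟨hd.1, l hd.1, hd.2⟩)
  exact mul_mem (by simpa using (mul_mem_cancel_right this).1 a.2) hk

namespace Od
variable (h : Od T x) (h1 : supp T x = T)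
include h h1

theorem fixT (hx : x ∈ normalizer (N : Set G)) (hc : ⁅T, T⁆ ≤ N) (hN : N ≤ T) {y : G} (hy : y ∈ T)
    (e : ⁅x, y⁆ ∈ N) : y ∈ N :=
  h.fixF hx (fun r hr => norm_of hN fun _ ha => hc (commutator_mem_commutator hr ha)) (by rwa [h1])
    (mem_sup_left (h1.ge hy)) e

theorem gen (h4 : Nat.card T ≤ 4 * Nat.card (phi T)) (ht : t ∈ T) (nt : t ∉ phi T) :
    Nat.card T = 4 * Nat.card (phi T) ∧ T = closure {t, x * t * x⁻¹} ∧
      t * (x * t * x⁻¹) * (x * (x * t * x⁻¹) * x⁻¹) ∈ ⁅T, T⁆ ∧ ⁅x, ⁅t, x * t * x⁻¹⁆⁆ ∈ ⁅⁅T, T⁆, T⁆ ∧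
      ⁅T, T⁆ ≤ zpowers ⁅t, x * t * x⁻¹⁆ ⊔ ⁅⁅T, T⁆, T⁆ ∧ x * (x * (x * t * x⁻¹) * x⁻¹) * x⁻¹ = t := by
  have xp := norm_phi h.xn
  have tp : T ≤ normalizer (phi T : Set G) := fun r hr => norm_phi (le_normalizer hr)
  have F := fun {y} => h.fixT h1 xp der_le_phi phi_le (y := y)
  have ht' := conj_mem_of_norm h.xn ht
  have ht'' := conj_mem_of_norm h.xn ht'
  obtain ⟨a1, a2, a3, a4⟩ := step der_le_phi le_rfl phi_le (fun _ a => mul_mem a a) ht (mem_phi ht)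
  obtain ⟨b1, b2, -, b4⟩ := step der_le_phi (le_ext _ _) a2 a3 ht' (mem_phi ht')
  have n0 : x * t * x⁻¹ ∉ phi T := fun l => nt ((conj_mem_norm xp).1 l)
  have sw : ∀ {u v}, u ∈ T → u * v ∈ phi T → v * u⁻¹ ∈ phi T := fun {u v} hu l => by
    simpa [mul_assoc] using mul_mem (conj_mem_of_norm' (tp hu) l) (inv_mem (mem_phi hu))
  have n1 : t * (x * t * x⁻¹) ∉ phi T := fun l => nt (F ht (sw ht l))
  have c := b4 fun l => ((a1 _).1 l).elim n0 n1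
  rw [a4 nt] at c
  have e := eq_of_le_of_card_ge b2 (by omega)
  have e1 : T = closure {t, x * t * x⁻¹} := by
    have l : closure {t, x * t * x⁻¹} ≤ T := (closure_le _).2 (by rintro _ (rfl | rfl); exacts [ht, ht'])
    exact le_antisymm (le_of_sup_phi h.two l (e.ge.trans (ext_le.2 ⟨ext_le.2 ⟨le_sup_right,
      mem_sup_left (subset_closure (.inl rfl))⟩, mem_sup_left (subset_closure (.inr rfl))⟩))) l
  obtain ⟨m, hm, cm⟩ := h.odd
  have p1 : t * (x * t * x⁻¹ * (x * (x * t * x⁻¹) * x⁻¹)) ∈ phi T := by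
    rcases (b1 _).1 (e.ge ht'') with l | l <;> rcases (a1 _).1 l with l | l
    · exact absurd ((conj_mem_norm xp).1 l) n0
    · exact absurd (F ht (mem_of_sq (M := stab (phi T) t) hm (cent_le_stab phi_le ht (cz_iff.1 cm))
        ⟨mul_mem xp xp, by simpa [commutatorElement_def, mul_assoc] using sw ht l⟩).2) nt
    · exact absurd ((conj_mem_norm xp).1 (by rwa [conj_mul'])) n1
    · exact l
  have p2 : ⁅x ^ 3, t⁆ ∈ phi T := by
    have := mul_mem (inv_mem (conj_mem_of_norm' (tp ht) p1)) (conj_mem_of_norm xp p1)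
    rw [show (t⁻¹ * (t * (x * t * x⁻¹ * (x * (x * t * x⁻¹) * x⁻¹))) * t)⁻¹ *
      (x * (t * (x * t * x⁻¹ * (x * (x * t * x⁻¹) * x⁻¹))) * x⁻¹) = t⁻¹ * ⁅x ^ 3, t⁆ * t⁻¹⁻¹ by
        simp [commutatorElement_def, mul_assoc, pow_succ]] at this
    exact (conj_mem_norm (inv_mem (tp ht))).1 this
  have o3 : Od T (x ^ 3) := ⟨h.two, pow_mem h.xn 3, m, hm, by
    rw [← pow_mul, mul_comm, pow_mul]; exact cz_iff.2 (pow_mem (cz_iff.1 cm) 3)⟩
  have p3 := o3.cz_of_phi fun r hr => cinv.1 (le_of_gen (K := stab (phi T) (x ^ 3)) e1 ⟨tp ht, cinv.1 p2⟩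
    ⟨tp ht', cinv.1 (by
      simpa [commutatorElement_def, mul_assoc, pow_succ] using conj_mem_of_norm xp p2)⟩ hr).2
  have p4 : x * (x * (x * t * x⁻¹) * x⁻¹) * x⁻¹ = t := by
    simpa [mul_assoc, pow_succ] using conj_eq_of_comm (p3 t ht)
  have dT : ⁅T, T⁆ ≤ T := comm_le_left le_normalizer
  have xd : x ∈ normalizer (⁅T, T⁆ : Subgroup G) :=
    norm_comm (X := zpowers x) (zpowers_le.2 h.xn) (zpowers_le.2 h.xn) (mem_zpowers x)
  have tE : T ≤ normalizer (⁅⁅T, T⁆, T⁆ : Subgroup G) := normalizer_commutator_ge_right _ _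
  have nT := mul_mem (mul_mem ht ht') ht''
  have p5 := h.fixT h1 xd le_rfl dT nT (by
    rw [commutatorElement_def, conj_mul', conj_mul', p4]
    simpa [commutatorElement_def, mul_assoc] using commutator_mem_commutator (inv_mem ht) nT)
  have cD := commutator_mem_commutator ht ht'
  refine ⟨by have := card_le_of_le b2; omega, e1, p5, ?_, ?_, p4⟩
  · rw [commutatorElement_def x, conjugate_commutatorElement]
    generalize x * (x * t * x⁻¹) * x⁻¹ = w at *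
    generalize x * t * x⁻¹ = u at *
    rw [show ⁅u, w⁆ * ⁅t, u⁆⁻¹ = ⁅⁅t, u⁆, (u * t)⁻¹⁆⁻¹ *
      (⁅t, u⁆ * (t * u)⁻¹ * ⁅t * u * w, u⁆⁻¹ * (⁅t, u⁆ * (t * u)⁻¹)⁻¹) by simp [commutatorElement_def, mul_assoc]]
    exact mul_mem (inv_mem (commutator_mem_commutator cD (inv_mem (mul_mem ht' ht))))
      (conj_mem_of_norm (tE (mul_mem (dT cD) (inv_mem (mul_mem ht ht'))))
        (inv_mem (commutator_mem_commutator p5 ht')))
  · have nW : T ≤ normalizer (zpowers ⁅t, x * t * x⁻¹⁆ ⊔ ⁅⁅T, T⁆, T⁆ : Subgroup G) := norm_of_comm_le' le_sup_right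
      (commutator_mono (sup_le (zpowers_le.2 cD) (comm_le_left (normalizer_commutator_ge_right _ _))) le_rfl)
    have k : ∀ u ∈ T, ⁅t, u⁆ ∈ _ → ⁅x * t * x⁻¹, u⁆ ∈ _ → ∀ r ∈ T, ⁅r, u⁆ ∈ _ := fun u _ a c r hr =>
      (le_of_gen (K := stab _ u) e1 ⟨nW ht, a⟩ ⟨nW ht', c⟩ hr).2
    have k1 := k t ht (by simp) (cinv.1 (mem_sup_left (mem_zpowers _)))
    have k2 := k _ ht' (mem_sup_left (mem_zpowers _)) (by simp)
    exact commutator_le.2 fun a ha c hc => k c hc (cinv.1 (k1 c hc)) (cinv.1 (k2 c hc)) a ha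

omit h1 in
theorem xE : x ∈ normalizer (⁅⁅T, T⁆, T⁆ : Subgroup G) :=
  norm_comm (X := zpowers x) (norm_comm (zpowers_le.2 h.xn) (zpowers_le.2 h.xn)) (zpowers_le.2 h.xn) (mem_zpowers x)

omit h1 in
theorem der_bot (e : ⁅T, T⁆ ≤ ⁅⁅T, T⁆, T⁆) : ⁅T, T⁆ = ⊥ :=
  nil h.two (comm_le_left le_normalizer) (normalizer_commutator_ge_right _ _) e

omit h1 in
theorem hom0 (hf : fix T x = ⊥) (h2 : Nat.card T = 4 * Nat.card (phi T)) : ∃ t n, 1 ≤ n ∧ Hom T x t n := by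
  have h1 : supp T x = T := le_antisymm (supp_le h.xn) fun r hr => by
    obtain ⟨u, hu, d, hd, rfl⟩ := h.decomp hr
    rwa [mem_bot.1 (hf.le hd), mul_one]
  have fx : ∀ y ∈ T, x * y * x⁻¹ = y → y = 1 := fun y hy e => mem_bot.1 (hf.le (mem_fix.2 ⟨hy, comm_of_conj_eq e⟩))
  obtain ⟨t, ht, nt⟩ := exists_nphi h.two fun e => by
    have := Nat.card_pos (α := phi T)
    rw [e, card_bot] at h2; omega
  obtain ⟨-, g1, g2, g3, g4, -⟩ := h.gen h1 h2.le ht nt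
  have ht' := conj_mem_of_norm h.xn ht
  have dT : ⁅T, T⁆ ≤ T := comm_le_left le_normalizer
  have cT := dT (commutator_mem_commutator ht ht')
  obtain ⟨d, hd, e⟩ := h.lift ((commutator_mono dT le_rfl).trans dT) h.xE cT (normalizer_commutator_ge_right _ _ cT) g3
  rw [mem_bot.1 (hf.le hd), mul_one, inv_mem_iff] at e
  have e1 := h.der_bot (g4.trans (sup_le (zpowers_le.2 e) le_rfl))
  obtain ⟨k, hk⟩ := IsPGroup.iff_card.1 (h.two.to_le (zpowers_le.2 ht))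
  rw [Nat.card_zpowers] at hk
  have k1 : 1 ≤ k := Nat.pos_of_ne_zero fun a => nt (by
    rw [a, pow_zero, orderOf_eq_one_iff] at hk
    exact hk ▸ one_mem _)
  refine ⟨t, k, k1, hk, g1, commutatorElement_eq_one_iff_mul_comm.1
    (mem_bot.1 (e1.le (commutator_mem_commutator ht ht'))), by_contra fun a => ?_, mem_bot.1 (e1.le g2)⟩
  have z0 : zz t k ≠ 1 := pow_ne_one_of_lt_orderOf (by positivity) (hk ▸ Nat.pow_lt_pow_right one_lt_two (by omega))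
  have z1 := zz_mem hk inf_le_left a
  have z2 : zz (x * t * x⁻¹) k ∈ _ :=
    zz_mem (((MulAut.conj x).orderOf_eq t).trans hk) (zpowers_le.2 z1.2) (by rwa [Ne, zpowers_eq_bot])
  have z3 := pow_mem ht (2 ^ (k - 1))
  refine z0 (fx _ z3 (conj_eq_of_comm (h.cz_cyclic z3 (cj_eq_iff.1 (cj_eq_of_le ?_)))))
  rwa [cj_zpowers, zpowers_le, ← conj_pow]

theorem sq_mem (h4 : Rk 4 T) (e : ⁅T, T⁆ ≠ ⊥) (ht : t ∈ T) (nt : t ∉ phi T) : t * t ∈ ⁅T, T⁆ := by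
  by_contra n
  obtain ⟨-, -, -, g3, g4, -⟩ := h.gen h1 (h4 _ _ phi_le le_rfl fun _ => mem_phi) ht nt
  have dT : ⁅T, T⁆ ≤ T := comm_le_left le_normalizer
  have tD : T ≤ normalizer (⁅T, T⁆ : Subgroup G) := normalizer_commutator_ge_right _ _
  have xd : x ∈ normalizer (⁅T, T⁆ : Subgroup G) :=
    norm_comm (X := zpowers x) (zpowers_le.2 h.xn) (zpowers_le.2 h.xn) (mem_zpowers x)
  have eD : ⁅⁅T, T⁆, T⁆ ≤ ⁅T, T⁆ := comm_le_left tD
  obtain ⟨N, hN⟩ : ∃ N, N = ⁅⁅T, T⁆, T⁆ ⊔ phi ⁅T, T⁆ := ⟨_, rfl⟩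
  have nD : N ≤ ⁅T, T⁆ := hN ▸ sup_le eD phi_le
  have eN : ⁅⁅T, T⁆, T⁆ ≤ N := hN ▸ le_sup_left
  have sN : ∀ {d}, d ∈ ⁅T, T⁆ → d * d ∈ N := fun hd => hN ▸ mem_sup_right (mem_phi hd)
  have tN : T ≤ normalizer (N : Set G) := hN ▸ norm_sup (normalizer_commutator_ge_right _ _) fun r hr => norm_phi (tD hr)
  have xN : x ∈ normalizer (N : Set G) :=
    hN ▸ norm_sup (X := zpowers x) (zpowers_le.2 h.xE) (zpowers_le.2 (norm_phi xd)) (mem_zpowers x)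
  have cD := commutator_mem_commutator ht (conj_mem_of_norm h.xn ht)
  have cN : ⁅t, x * t * x⁻¹⁆ ∉ N := fun l => e (h.der_bot (le_of_sup_phi (h.two.to_le dT) eD
    (g4.trans (sup_le (zpowers_le.2 (hN ▸ l)) le_sup_left))))
  have aN : ⁅phi T, phi T⁆ ≤ N := commutator_le.2 fun a ha c hc =>
    (phi_le_iff (K := stab N c).2 (fun r hr => ⟨tN (mul_mem hr hr), by
      have d := commutator_mem_commutator hr (phi_le hc)
      rw [show ⁅r * r, c⁆ = ⁅⁅r, c⁆, r⁆⁻¹ * (⁅r, c⁆ * ⁅r, c⁆) by simp [commutatorElement_def, mul_assoc]]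
      exact mul_mem (inv_mem (eN (commutator_mem_commutator d hr))) (sN d)⟩) ha).2
  have o := h.mono phi_le (norm_phi h.xn)
  have sA := supp_le o.xn
  have F := fun {y} => o.fixF xN (phi_le.trans tN) ((commutator_mono sA sA).trans aN) (y := y)
  have y1 := (comm_mem_supp (x := x) (mem_phi ht)).1
  obtain ⟨u, hu, nu, u2⟩ := exists_pow_not_mem o.two (sA y1) fun l : _ ∈ N =>
    n (h.fixT h1 xd le_rfl dT (mul_mem ht ht) (nD l))
  replace hu := zpowers_le.2 y1 hu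
  have hu' := conj_mem_of_norm mem_norm_supp hu
  have nA : N ≤ phi T := nD.trans der_le_phi
  obtain ⟨a1, a2, a3, a4⟩ := step aN le_rfl nA (fun _ a => mul_mem a a) (sA hu) u2
  obtain ⟨-, b2, b3, b4⟩ := step aN (le_ext _ _) a2 a3 (sA hu') (by rw [← conj_mul']; exact conj_mem_of_norm xN u2)
  obtain ⟨-, c2, c3, c4⟩ := step aN ((le_ext _ _).trans (le_ext _ _)) b2 b3 (der_le_phi cD) (sN cD)
  have r := h4 _ _ (((le_ext _ _).trans (le_ext _ _)).trans (le_ext _ _)) (c2.trans phi_le) c3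
  rw [c4 fun l => cN (F (ext_le.2 ⟨ext_le.2 ⟨le_sup_right, mem_sup_left hu⟩, mem_sup_left hu'⟩ l) (eN g3)),
    b4 fun l => nu (((a1 _).1 l).elim (conj_mem_norm xN).1 fun l => F (mem_sup_left hu) (by
      simpa [commutatorElement_def, mul_assoc] using
        mul_mem (conj_mem_of_norm' (tN (phi_le (sA hu))) l) (inv_mem u2))), a4 nu] at r
  have := Nat.card_pos (α := N)
  omega

theorem q8_of (h4 : Nat.card T ≤ 4 * Nat.card (phi T)) (hp : phi T ≤ ⁅T, T⁆) (e : ⁅T, T⁆ ≠ ⊥) : Q8 T := by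
  have dT : ⁅T, T⁆ ≤ T := comm_le_left le_normalizer
  have tD : T ≤ normalizer (⁅T, T⁆ : Subgroup G) := normalizer_commutator_ge_right _ _
  have tE : T ≤ normalizer (⁅⁅T, T⁆, T⁆ : Subgroup G) := normalizer_commutator_ge_right _ _
  have key : ∀ t ∈ T, t ∉ phi T → t * t ∉ ⁅⁅T, T⁆, T⁆ ∧ ⁅t, x * t * x⁻¹⁆ ∉ ⁅⁅T, T⁆, T⁆ ∧
      ⁅t, x * t * x⁻¹⁆ * ⁅t, x * t * x⁻¹⁆ ∈ ⁅⁅T, T⁆, T⁆ ∧
      ∀ d ∈ ⁅T, T⁆, d ∈ ⁅⁅T, T⁆, T⁆ ∨ ⁅t, x * t * x⁻¹⁆ * d ∈ ⁅⁅T, T⁆, T⁆ := fun t ht nt => by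
    obtain ⟨-, -, g2, -, g4, -⟩ := h.gen h1 h4 ht nt
    have ht' := conj_mem_of_norm h.xn ht
    have cD := commutator_mem_commutator ht ht'
    have cE : ⁅t, x * t * x⁻¹⁆ ∉ ⁅⁅T, T⁆, T⁆ := fun l => e (h.der_bot (g4.trans (sup_le (zpowers_le.2 l) le_rfl)))
    have c2 : ⁅t, x * t * x⁻¹⁆ * ⁅t, x * t * x⁻¹⁆ ∈ ⁅⁅T, T⁆, T⁆ := by
      simpa [commutatorElement_def, mul_assoc] using mul_mem (commutator_mem_commutator cD ht)
        (commutator_mem_commutator (hp (mem_phi ht)) ht')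
    have g5 : ⁅T, T⁆ ≤ ext ⁅⁅T, T⁆, T⁆ ⁅t, x * t * x⁻¹⁆ := g4.trans (sup_comm _ _).le
    have m := fun d hd => (mem_ext (g := d) (tE (dT cD)) c2).1 (g5 hd)
    refine ⟨fun l => cE ?_, cE, c2, m⟩
    have l1 : x * t * x⁻¹ * (x * t * x⁻¹) ∈ ⁅⁅T, T⁆, T⁆ := by rw [← conj_mul']; exact conj_mem_of_norm h.xE l
    have l2 : x * (x * t * x⁻¹) * x⁻¹ * (x * (x * t * x⁻¹) * x⁻¹) ∈ ⁅⁅T, T⁆, T⁆ := by
      rw [← conj_mul']; exact conj_mem_of_norm h.xE l1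
    have l3 := (step (A := ⁅T, T⁆) (commutator_mono le_rfl dT) le_rfl (comm_le_left tD) (fun _ a => mul_mem a a) cD c2).2.2.1 _
      (g5 g2)
    have l4 := commutator_mem_commutator g2 (mul_mem ht ht')
    generalize x * (x * t * x⁻¹) * x⁻¹ = w at *
    generalize x * t * x⁻¹ = u at *
    rw [show ⁅t, u⁆ = ⁅t * u * w, t * u⁆⁻¹ * (t * u * w * (t * u * w)) * (w * w)⁻¹ * (u * u)⁻¹ * (u * (t * t)⁻¹ * u⁻¹) by
      simp [commutatorElement_def, mul_assoc]]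
    exact mul_mem (mul_mem (mul_mem (mul_mem (inv_mem l4) l3) (inv_mem l2)) (inv_mem l1))
      (conj_mem_of_norm (tE ht') (inv_mem l))
  obtain ⟨t, ht, nt⟩ := exists_nphi h.two fun a => e (eq_bot_iff.2 (dT.trans a.le))
  obtain ⟨c4, g1, -, g3, -⟩ := h.gen h1 h4 ht nt
  obtain ⟨k1, k2, k3, k4⟩ := key t ht nt
  have ht' := conj_mem_of_norm h.xn ht
  have cD := commutator_mem_commutator ht ht'
  have t4 : T ≤ normalizer (⁅⁅⁅T, T⁆, T⁆, T⁆ : Subgroup G) := normalizer_commutator_ge_right _ _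
  have k5 : ∀ u ∈ T, ⁅t, x * t * x⁻¹⁆ * (u * u) ∈ ⁅⁅T, T⁆, T⁆ → u ∈ stab ⁅⁅⁅T, T⁆, T⁆, T⁆ ⁅t, x * t * x⁻¹⁆ :=
    fun u hu l => ⟨t4 hu, cinv.1 (by
      have := commutator_mem_commutator l hu
      generalize ⁅t, x * t * x⁻¹⁆ = c at this ⊢
      simpa [commutatorElement_def, mul_assoc] using this)⟩
  have k6 := (k4 _ (hp (mem_phi ht))).resolve_left k1
  have k7 := le_of_gen g1 (k5 t ht k6) (k5 _ ht' (by
    have := mul_mem (inv_mem g3) (conj_mem_of_norm h.xE k6)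
    generalize ⁅t, x * t * x⁻¹⁆ = c at this ⊢
    simpa [commutatorElement_def, mul_assoc] using this))
  have E0 : ⁅⁅T, T⁆, T⁆ = ⊥ := nil h.two ((comm_le_left tD).trans dT) tE (commutator_le.2 fun d hd r hr => by
    have a : ⁅t, x * t * x⁻¹⁆ ∈ stab ⁅⁅⁅T, T⁆, T⁆, T⁆ r := ⟨t4 (dT cD), cinv.1 (k7 hr).2⟩
    have c : ⁅⁅T, T⁆, T⁆ ≤ stab ⁅⁅⁅T, T⁆, T⁆, T⁆ r := fun y hy =>
      ⟨t4 (dT (comm_le_left tD hy)), commutator_mem_commutator hy hr⟩
    exact ((k4 d hd).elim (fun l => c l) fun l => (mul_mem_cancel_left a).1 (c l)).2)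
  simp only [E0, mem_bot] at key k2 k3 k4
  have k8 : ∀ d ∈ ⁅T, T⁆, d = 1 ∨ d = ⁅t, x * t * x⁻¹⁆ := fun d hd => (k4 d hd).imp_right fun l =>
    (eq_inv_of_mul_eq_one_right l).trans (inv_of_sq k3)
  refine ⟨?_, _, dT cD, k2, k3, fun v hv => ?_⟩
  · obtain ⟨a1, -, a3⟩ := ext_elem (A := ⊥) (by simp) k3 (by simp)
    rw [c4, show phi T = ext ⊥ ⁅t, x * t * x⁻¹⁆ from le_antisymm (fun d hd => (a1 d).2 (k4 d (hp hd)))
      (ext_le.2 ⟨bot_le, der_le_phi cD⟩), a3 k2, card_bot]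
  · by_cases l : v ∈ phi T
    · exact (k8 v (hp l)).imp_right .inl
    · exact .inr (.inr ((k8 _ (hp (mem_phi hv))).resolve_left (key v hv l).1))

end Od

end Cfsg.Agent.GH3
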