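import Mathlib
import Cfsg.Agent.GH3.Defs
import Cfsg.Agent.GH3.TriA

/-! Good supports. See `stubs/Cfsg/Agent/GH/PLAN.md`. -/

set_option autoImplicit false
set_option linter.unusedSectionVars false

namespace Cfsg.Agent.GH3

open Cfsg.Agent.Inv.Fz Cfsg.Agent.NE Subgroup
open scoped commutatorElement

variable {G Q : Type*} [Group G] [Finite G] [Group Q] [Finite Q] {S P R K L N T V A : Subgroup G} {x s g b : G} {n : ℕ}

theorem El.mem4 (h : El 4 V) {u v w : G} (hu : u ∈ V) (hv : v ∈ V) (u1 : u ≠ 1) (v1 : v ≠ 1) (uv : u ≠ v) (hw : w ∈ V) :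
    w = 1 ∨ w = u ∨ w = v ∨ w = u * v := by
  obtain ⟨a1, a2, a3⟩ := ext_elem (A := ⊥) (by simp) (h.sq u hu) (by simp)
  have l : ext ⊥ u ≤ V := ext_le.2 ⟨bot_le, hu⟩
  obtain ⟨b1, -, b3⟩ := ext_elem a2 (h.sq v hv) fun a ha => comm_of_sq h.sq hv (l ha)
  have i : ∀ {y z : G}, y ∈ V → (y * z = 1 ↔ z = y) := fun hy => by
    rw [mul_eq_one_iff_inv_eq, inv_of_sq (h.sq _ hy), eq_comm]
  have e : ext (ext ⊥ u) v = V := eq_of_le_of_card_ge (ext_le.2 ⟨l, hv⟩) (by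
    rw [b3 (by simp only [a1, mem_bot, i hu, v1, uv.symm, or_self, not_false_eq_true]), a3 u1, card_bot, h.card])
  simpa only [← e, b1, a1, mem_bot, ← mul_assoc, i hu, i hv, i (mul_mem hu hv), or_assoc] using hw

theorem Cz.conj (h : Cz b R) (hg : g ∈ normalizer (R : Set G)) : Cz (g * b * g⁻¹) R := fun r hr => by
  simpa only [mul_assoc, inv_inv, mul_inv_cancel_left, mul_inv_cancel, mul_one] using
    conj_comm g (h _ ((conj_mem_norm (inv_mem hg)).2 hr))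

theorem Cz.mul (h : Cz b R) (h' : Cz g R) : Cz (b * g) R := fun r hr => Commute.mul_left (h r hr) (h' r hr)

theorem Tri.odV (h : Tri R x s) : Od (supp R x) x := h.od.mono (supp_le h.xn) mem_norm_supp

/-! Good four-groups -/
namespace Tri
variable (h : Tri R x s) (h4 : El 4 (supp R x))
include h h4

theorem four_disj : supp R x ⊓ fix R x = ⊥ :=
  eq_bot_iff.2 ((le_inf (inf_le_left.trans h.od.supp_supp.ge) (le_inf inf_le_left (inf_le_right.trans inf_le_right))).trans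
    (h.odV.disj_of_comm fun _ hu _ hv => comm_of_sq h4.sq hu hv).le)

theorem four_ne {v : G} (hv : v ∈ supp R x) (h1 : v ≠ 1) : v ≠ x * v * x⁻¹ := fun e =>
  h1 (h.four_disj h4 |>.le ⟨hv, mem_fix.2 ⟨supp_le h.xn hv, comm_of_conj_eq e.symm⟩⟩)

theorem four_mem {u w : G} (hu : u ∈ supp R x) (h1 : u ≠ 1) (hw : w ∈ supp R x) :
    w = 1 ∨ w = u ∨ w = x * u * x⁻¹ ∨ w = u * (x * u * x⁻¹) :=
  h4.mem4 hu ((conj_mem_norm mem_norm_supp).2 hu) h1 (by simpa using h1) (h.four_ne h4 hu h1) hw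

theorem four_two {u : G} (hu : u ∈ supp R x) : x * (x * u * x⁻¹) * x⁻¹ = u * (x * u * x⁻¹) := by
  by_cases h1 : u = 1
  · simp [h1]
  have hv := (conj_mem_norm mem_norm_supp).2 hu
  rcases h.four_mem h4 hu h1 ((conj_mem_norm mem_norm_supp).2 hv) with e | e | e | e
  · exact absurd (by simpa using e) h1
  · refine absurd ?_ (h.four_ne h4 (mul_mem hu hv) fun a => h.four_ne h4 hu h1 ?_)
    · rw [conj_mul', e, comm_of_sq h4.sq hu hv]
    · rw [← inv_eq_of_mul_eq_one_right a, inv_of_sq (h4.sq _ hu)]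
  · exact absurd e.symm (h.four_ne h4 hv (by simpa using h1))
  · exact e

theorem four_three {u : G} (hu : u ∈ supp R x) : x ^ 3 * u = u * x ^ 3 := by
  have hv := (conj_mem_norm mem_norm_supp).2 hu
  refine comm_of_conj_eq ?_
  calc _ = x * (x * (x * u * x⁻¹) * x⁻¹) * x⁻¹ := by simp [pow_succ, mul_assoc]
    _ = u := by rw [h.four_two h4 hu, conj_mul', h.four_two h4 hu, comm_of_sq h4.sq hu hv, sq_cancel (h4.sq _ hv)]

theorem four_cz {v : G} (hv : v ∈ supp R x) : Cz v R := by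
  obtain ⟨z, hz, z1, -, zc⟩ := exists_central_mod (N := ⊥) h.two le_normalizer_of_normal (supp_le h.xn) le_norm_supp
    fun e => h.supp_ne (eq_bot_iff.2 e)
  have c : Cz z R := fun r hr => (comm_of_conj_eq (mul_inv_eq_one.1 (zc r hr))).symm
  rcases h.four_mem h4 hz z1 hv with rfl | rfl | rfl | rfl
  exacts [fun _ _ => by simp, c, c.conj h.xn, c.mul (c.conj h.xn)]

theorem four_phi : phi R ≤ fix R x := phi_le_iff.2 fun r hr => by
  obtain ⟨t, ht, d, hd, rfl⟩ := h.od.decomp hr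
  rw [mul_assoc, ← mul_assoc d, ← h.four_cz h4 ht d hd.1, mul_assoc, sq_cancel (h4.sq t ht)]
  exact mul_mem hd hd

theorem four_norm : R ≤ normalizer (fix R x : Set G) := fun r hr => mem_normalizer_of_conj_mem fun y hy => by
  obtain ⟨t, ht, d, hd, rfl⟩ := h.od.decomp hr
  have := mul_mem (mul_mem hd hy) (inv_mem hd)
  rwa [← NE.conj_conj, conj_eq_of_comm (h.four_cz h4 ht _ this.1)]

theorem four_cube : Cz (x ^ 3) R := fun r hr => by
  obtain ⟨t, ht, d, hd, rfl⟩ := h.od.decomp hr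
  exact Commute.mul_right (h.four_three h4 ht) (Commute.pow_left (mem_fix.1 hd).2 3)

/-- `z = [V, s]`. -/
theorem four_z : ∃ z v, z ≠ 1 ∧ supp R x = (closure {z, v} : Subgroup G) ∧ s * z * s⁻¹ = z ∧ s * v * s⁻¹ = v * z ∧
    x * z * x⁻¹ = v := by
  obtain ⟨z, hz, z1, zs⟩ : ∃ z ∈ supp R x, z ≠ 1 ∧ s * z * s⁻¹ = z := by
    obtain ⟨⟨u, hu⟩, u1⟩ := ne_bot_iff_exists_ne_one.1 h.supp_ne
    have hv := (conj_mem_norm h.s_supp).2 hu
    by_cases e : s * u * s⁻¹ = u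
    · exact ⟨u, hu, by simpa using u1, e⟩
    refine ⟨_, mul_mem hu hv, fun a => e ?_, ?_⟩
    · rw [← inv_eq_of_mul_eq_one_right a, inv_of_sq (h4.sq _ hu)]
    · rw [conj_mul', NE.conj_conj, conj_eq_of_comm (h.four_cz h4 hu _ h.ss).symm, comm_of_sq h4.sq hu hv]
  have hv := (conj_mem_norm mem_norm_supp).2 hz
  refine ⟨z, _, z1, le_antisymm (fun w hw => ?_) ((closure_le _).2 (Set.insert_subset hz (Set.singleton_subset_iff.2 hv))),
    zs, ?_, rfl⟩
  · have a : z ∈ closure {z, x * z * x⁻¹} := subset_closure (by simp)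
    have b : x * z * x⁻¹ ∈ closure {z, x * z * x⁻¹} := subset_closure (by simp)
    rcases h.four_mem h4 hz z1 hw with rfl | rfl | rfl | rfl
    exacts [one_mem _, a, b, mul_mem a b]
  · rw [h.conj_conj (supp_le h.xn hz), zs, ← comm_of_sq h4.sq hz hv, ← h.four_two h4 hz]
    calc _ = x⁻¹ * (z * x ^ 3) * (x ^ 2)⁻¹ := by group
      _ = _ := by rw [← h.four_three h4 hz]; simp [pow_succ, mul_assoc]

theorem four_pow {u v : G} (hu : u ∈ supp R x) (hv : v ∈ supp R x) (h1 : u ≠ 1) (h2 : v ≠ 1) :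
    ∃ k : ℕ, x ^ k * u * (x ^ k)⁻¹ = v := by
  rcases h.four_mem h4 hu h1 hv with e | e | e | e
  exacts [absurd e h2, ⟨0, by simp [e]⟩, ⟨1, by simp [e]⟩, ⟨2, by rw [e, ← h.four_two h4 hu]; simp [pow_succ, mul_assoc]⟩]

theorem four_conj {u v : G} (hu : u ∈ supp R x) (hv : v ∈ supp R x) (h1 : u ≠ 1) (h2 : v ≠ 1) : IsConj u v :=
  let ⟨_, e⟩ := h.four_pow h4 hu hv h1 h2
  isConj_iff.2 ⟨_, e⟩

end Tri

/-! Quaternion groups -/

/-- `z` is the involution of the quaternion group `V`. -/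
structure Qz (V : Subgroup G) (z : G) : Prop where
  card : Nat.card V = 8
  mem : z ∈ V
  ne : z ≠ 1
  sq : z * z = 1
  all : ∀ v ∈ V, v = 1 ∨ v = z ∨ v * v = z

theorem Q8.qz (h : Q8 V) : ∃ z, Qz V z := let ⟨z, a, b, c, d⟩ := h.ex; ⟨z, h.card, a, b, c, d⟩

theorem Q8.qz_of (h : Q8 V) {z : G} (hz : z ∈ V) (z1 : z ≠ 1) (z2 : z * z = 1) : Qz V z := by
  obtain ⟨y, hy⟩ := h.qz
  rcases hy.all z hz with e | rfl | e
  exacts [absurd e z1, hy, absurd (e.symm.trans z2) hy.ne]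

theorem mem_zpowers_sq {z y : G} (h : z * z = 1) : y ∈ zpowers z ↔ y = 1 ∨ y = z := by
  rw [show zpowers z = ext ⊥ z from (bot_sup_eq _).symm, (ext_elem (by simp) h (by simp)).1, mem_bot, mem_bot,
    mul_eq_one_iff_inv_eq, inv_of_sq h, @eq_comm _ z]

namespace Qz
variable {z u v : G} (q : Qz V z)
include q

theorem mem_iff : u ∈ zpowers z ↔ u = 1 ∨ u = z := mem_zpowers_sq q.sq

theorem le : zpowers z ≤ V := zpowers_le.2 q.mem

theorem cardZ : Nat.card (zpowers z) = 2 := by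
  rw [Nat.card_zpowers, orderOf_eq_prime (by rw [pow_two, q.sq]) q.ne]

theorem sq_eq (hu : u ∈ V) (h : u ∉ zpowers z) : u * u = z :=
  ((q.all u hu).resolve_left fun e => h (e ▸ one_mem _)).resolve_left fun e => h (e ▸ mem_zpowers _)

theorem sq_mem (hu : u ∈ V) : u * u ∈ zpowers z := by
  by_cases h : u ∈ zpowers z
  exacts [mul_mem h h, q.sq_eq hu h ▸ mem_zpowers _]

theorem phi_eq : phi V = zpowers z := by
  refine le_antisymm (phi_le_iff.2 fun _ => q.sq_mem) (zpowers_le.2 ?_)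
  obtain ⟨u, hu, h⟩ := SetLike.not_le_iff_exists.1 fun l : V ≤ zpowers z => by
    have := card_le_of_le l
    rw [q.card, q.cardZ] at this
    omega
  exact q.sq_eq hu h ▸ mem_phi hu

theorem cen (hg : g ∈ normalizer (V : Set G)) : g * z = z * g := by
  refine comm_of_conj_eq (((q.all _ ((conj_mem_norm hg).2 q.mem)).resolve_left (by simpa using q.ne)).resolve_right ?_)
  rw [← conj_mul', q.sq]
  simpa using q.ne.symm

theorem inv_eq (hu : u ∈ V) (h : u ∉ zpowers z) : u⁻¹ = u * z := by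
  rw [inv_eq_iff_mul_eq_one, ← mul_assoc, q.sq_eq hu h, q.sq]

theorem anti (hu : u ∈ V) (hv : v ∈ V) (h1 : v ∉ zpowers z) (h2 : u * v ∉ zpowers z) : v * u * v⁻¹ = u⁻¹ := by
  have := (q.sq_eq (mul_mem hu hv) h2).trans (q.sq_eq hv h1).symm
  calc _ = u⁻¹ * (u * v * (u * v)) * v⁻¹ * v⁻¹ := by group
    _ = _ := by rw [this]; group

theorem exists_anti (hu : u ∈ V) (h : u ∉ zpowers z) : ∃ v ∈ V, v * u * v⁻¹ = u⁻¹ := by
  have n : u ∈ normalizer (zpowers z : Set G) := q.phi_eq ▸ norm_phi (le_normalizer hu)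
  obtain ⟨v, hv, a⟩ := SetLike.not_le_iff_exists.1 fun l : V ≤ ext (zpowers z) u => by
    have := card_le_of_le l
    rw [card_ext n (q.sq_mem hu) h, q.card, q.cardZ] at this
    omega
  rw [mem_ext n (q.sq_mem hu), not_or] at a
  exact ⟨v, hv, q.anti hu hv a.1 a.2⟩

theorem dq (hu : u ∈ V) (hv : v ∈ V) (h0 : u ∉ zpowers z) (h1 : v ∉ zpowers z) (h2 : u * v ∉ zpowers z) :
    DQ V u v 2 ∧ v * v = zz u 2 := by
  have e : zz u 2 = z := (pow_two u).trans (q.sq_eq hu h0)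
  have o : orderOf u = 2 ^ 2 := orderOf_eq_prime_pow (n := 1) (e ▸ q.ne :) (by
    rw [show 2 ^ (1 + 1) = 2 * 2 from rfl, pow_mul, pow_two, pow_two, q.sq_eq hu h0, q.sq])
  have d : DQ (closure {u, v}) u v 2 := ⟨one_le_two, o, q.anti hu hv h1 h2, fun a => by
    have := q.anti hu hv h1 h2
    rw [conj_eq_of_comm (comm_zpowers rfl a).symm, q.inv_eq hu h0] at this
    exact q.ne (left_eq_mul.1 this), rfl, .inr ⟨le_rfl, e ▸ q.sq_eq hv h1⟩⟩
  have c : closure {u, v} = V := eq_of_le_of_card_ge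
    ((closure_le _).2 (Set.insert_subset hu (Set.singleton_subset_iff.2 hv))) (by rw [d.card, q.card]; rfl)
  exact ⟨c ▸ d, e ▸ q.sq_eq hv h1⟩

end Qz

theorem Tri.q8_im {x s : L} (h : Tri R x s) {z : G} (q : Qz (supp R x) z) {f : L →* Q}
    (hf : ∀ l : L, f l = 1 ↔ (l : G) ∈ zpowers z) (hL : R ≤ L) :
    Tri (GH3.im f R) (f x) (f s) ∧ El 4 (supp (GH3.im f R) (f x)) := by
  have l := supp_le h.xn
  have hN := (q.le.trans l).trans hL
  have c := card_im hf hN q.le (l.trans hL)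
  rw [q.card, q.cardZ] at c
  refine ⟨h.im hf hN (q.le.trans l) hL fun a => ?_, ?_⟩
  · have := card_le_of_le a
    rw [q.card, q.cardZ] at this
    omega
  · rw [supp_im hf hN hL]
    refine ⟨by omega, ?_⟩
    rintro _ ⟨v, hv, rfl⟩
    rw [← map_mul, hf]
    exact q.sq_mem hv

/-- The good four-group in the quotient by the centre of a good `Q₈`. -/
theorem Tri.q8_quo {G : Type*} [Group G] [Finite G] {R : Subgroup G} {x s z : G} (h : Tri R x s) (q : Qz (supp R x) z)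
    {p : Prop} (hp : ∀ (L : Subgroup G) (M : Subgroup L) [M.Normal] (f : L →* L ⧸ M) (x' s' : L), x' = x → s' = s →
      (∀ l : L, f l = 1 ↔ (l : G) ∈ zpowers z) → R ≤ L → (∀ l : L, f l ∈ supp (GH3.im f R) (f x') ↔ (l : G) ∈ supp R x) →
      (∀ l : L, f l ∈ GH3.im f R ↔ (l : G) ∈ R) → (∀ y, ∃ l, f l = y) → Tri (GH3.im f R) (f x') (f s') →
      El 4 (supp (GH3.im f R) (f x')) → p) : p := by
  have n : normalizer (supp R x : Set G) ≤ normalizer (zpowers z : Set G) := fun g hg => q.phi_eq ▸ norm_phi hg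
  obtain ⟨f, f1, f2⟩ := exists_quo (zpowers z)
  have hL := le_norm_supp.trans n
  have := Tri.q8_im (x := ⟨x, n mem_norm_supp⟩) (s := ⟨s, n h.s_supp⟩) h q f2 hL
  refine hp _ _ f ⟨x, n mem_norm_supp⟩ ⟨s, n h.s_supp⟩ rfl rfl f2 hL (fun l => ?_)
    (mem_im f2 le_normalizer (q.le.trans (supp_le h.xn))) f1 this.1 this.2
  rw [supp_im f2 le_normalizer hL, mem_im f2 le_normalizer q.le]

/-! Good quaternion groups -/
namespace Tri
variable (h : Tri R x s) (h8 : Q8 (supp R x))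
include h h8

/-- `R` acts trivially on `V / Z(V)`, and `s` does not. -/
theorem q8_inner {r v : G} (hr : r ∈ R) (hv : v ∈ supp R x) : ⁅r, v⁆ ∈ phi (supp R x) := by
  obtain ⟨z, q⟩ := h8.qz
  refine h.q8_quo q fun L M _ f x' s' _ _ hf hL m1 m2 _ t e => ?_
  have := t.four_cz e ((m1 ⟨v, hL (supp_le h.xn hv)⟩).2 hv) _ ((m2 ⟨r, hL hr⟩).2 hr)
  exact q.phi_eq ▸ (hf ⁅(⟨r, hL hr⟩ : L), ⟨v, hL (supp_le h.xn hv)⟩⁆).1
    (by rw [map_commutatorElement, commutatorElement_eq_one_iff_mul_comm, this])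

theorem q8_fix {d : G} (hd : d ∈ R) : d ∈ fix R x ↔ Cz d (supp R x) := by
  obtain ⟨z, q⟩ := h8.qz
  have zf : zpowers z ≤ fix R x := zpowers_le.2 (mem_fix.2 ⟨supp_le h.xn q.mem, q.cen mem_norm_supp⟩)
  refine ⟨fun hf => ?_, fun hc => ?_⟩
  · have := supp_le_idx (K := supp R x ⊓ centralizer {d}) mem_norm_supp inf_le_left
      (mem_normalizer_of_conj_mem fun y hy => ⟨(conj_mem_norm mem_norm_supp).2 hy.1, mem_centralizer_singleton_iff.2 (by
        rw [← conj_eq_of_comm (mem_fix.1 hf).2]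
        exact conj_comm x (mem_centralizer_singleton_iff.1 hy.2))⟩) fun u hu v hv u1 v1 => ?_
    · exact fun v hv => (mem_centralizer_singleton_iff.1 (this (h.od.supp_supp.ge hv)).2).symm
    have k : ∀ {w}, w ∈ supp R x → w ∉ supp R x ⊓ centralizer {d} → d * w * d⁻¹ = z * w := fun {w} hw w1 => by
      rcases q.mem_iff.1 (q.phi_eq ▸ h.q8_inner h8 hd hw) with e | e
      · exact absurd ⟨hw, mem_centralizer_singleton_iff.2 (commutatorElement_eq_one_iff_mul_comm.1 e).symm⟩ w1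
      · exact mul_inv_eq_iff_eq_mul.1 e
    refine ⟨mul_mem hu hv, mem_centralizer_singleton_iff.2 (comm_of_conj_eq ?_).symm⟩
    rw [conj_mul', k hu u1, k hv v1, ← q.cen (le_normalizer hu), mul_assoc, sq_cancel q.sq]
  · have hw := (comm_mem_supp (x := x) hd).1
    have a : ⁅x, d⁆ ∈ zpowers z := by
      by_contra a
      obtain ⟨v, hv, e⟩ := q.exists_anti hw a
      have b : Cz ⁅x, d⁆ (supp R x) := (hc.conj mem_norm_supp).mul fun r hr => Commute.inv_left (hc r hr)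
      rw [conj_eq_of_comm (b v hv).symm, q.inv_eq hw a] at e
      exact q.ne (left_eq_mul.1 e)
    obtain ⟨c, hc', e⟩ := h.od.lift (q.le.trans (supp_le h.xn)) (q.phi_eq ▸ norm_phi mem_norm_supp) hd
      (q.phi_eq ▸ norm_phi (le_norm_supp hd)) a
    simpa using (mul_mem_cancel_right hc').1 (zf e)

theorem q8_cube : Cz (x ^ 3) R := by
  obtain ⟨z, q⟩ := h8.qz
  refine h.ord.resolve_right fun h5 => h.q8_quo q fun L M _ f x' s' ex _ hf hL m1 m2 _ t e => t.ne ?_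
  rintro _ ⟨r, hr, rfl⟩
  have a : Commute (f x' ^ 3) (f r) := t.four_cube e _ (mem_map_of_mem f hr)
  have b : Commute (f x' ^ 5) (f r) := by
    rw [← map_pow]
    exact Commute.map (Subtype.ext (by simpa [ex] using h5 r hr)) f
  rw [show f x' = f x' ^ 3 * f x' ^ 3 * (f x' ^ 5)⁻¹ by group]
  exact (a.mul_left a).mul_left b.inv_left

/-- Letters: `j` is the element of order four normalised by `s`. -/
theorem q8_gen : ∃ j i, DQ (supp R x) j i 2 ∧ i * i = zz j 2 ∧ s ∈ normalizer (zpowers j : Set G) ∧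
    s * i * s⁻¹ = i * j := by
  obtain ⟨z, q⟩ := h8.qz
  refine h.q8_quo q fun L M _ f x' s' ex es hf hL m1 m2 fs t e => ?_
  obtain ⟨y, _, y1, c, a1, a2, rfl⟩ := t.four_z e
  obtain ⟨j, rfl⟩ := fs y
  have hj' : f j ∈ supp (GH3.im f R) (f x') := c ▸ subset_closure (by simp)
  have hj := (m1 j).1 hj'
  have hi := (conj_mem_norm (mem_norm_supp (R := R) (x := x))).2 hj
  have j1 : (j : G) ∉ zpowers z := fun a => y1 ((hf j).2 a)
  have i1 : x * j * x⁻¹ ∉ zpowers z := fun a => j1 ((conj_mem_norm (q.phi_eq ▸ norm_phi mem_norm_supp)).1 a)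
  have ji : j * (x * j * x⁻¹) ∉ zpowers z := fun a => t.four_ne e hj' y1 (by
    have := (hf (j * (x' * j * x'⁻¹))).2 (by simpa [ex] using a)
    simp only [map_mul, map_inv] at this
    rw [← inv_eq_of_mul_eq_one_right this, inv_of_sq (e.sq _ hj')])
  have b1 : (j : G)⁻¹ * (s * j * s⁻¹) ∈ zpowers z := by
    simpa [es] using (hf (j⁻¹ * (s' * j * s'⁻¹))).1 (by simp only [map_mul, map_inv, a1, inv_mul_cancel])
  have b2 : (x * j * x⁻¹ * j)⁻¹ * (s * (x * j * x⁻¹) * s⁻¹) ∈ zpowers z := by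
    simpa only [← es, ← ex, coe_mul, coe_inv] using (hf ((x' * j * x'⁻¹ * j)⁻¹ * (s' * (x' * j * x'⁻¹) * s'⁻¹))).1
      (by simp only [map_mul, map_inv, a2, inv_mul_cancel])
  have zj : zpowers z ≤ zpowers (j : G) := zpowers_le.2 (q.sq_eq hj j1 ▸ mul_mem (mem_zpowers _) (mem_zpowers _))
  have sn : s ∈ normalizer (zpowers (j : G) : Set G) := cj_eq_iff.1 (cj_eq_of_le (by
    rw [cj_zpowers, zpowers_le]
    exact (mul_mem_cancel_left (inv_mem (mem_zpowers _))).1 (zj b1)))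
  rcases q.mem_iff.1 b2 with b | b
  · exact ⟨j, _, (q.dq hj hi j1 i1 ji).1, (q.dq hj hi j1 i1 ji).2, sn, (inv_mul_eq_one.1 b).symm⟩
  · have := q.dq (inv_mem hj) hi (by simpa using j1) i1 fun a => ji (by
      simpa [← mul_assoc] using mul_mem (q.sq_mem hj) a)
    exact ⟨_, _, this.1, this.2, by rwa [zpowers_inv], by rw [inv_mul_eq_iff_eq_mul.1 b, q.inv_eq hj j1, mul_assoc]⟩

theorem q8_move {u v : G} (hu : u ∈ supp R x) (hv : v ∈ supp R x) (h1 : u * u ≠ 1) (h2 : v * v ≠ 1) :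
    ∃ g : G, Cz g (fix R x) ∧ g * u * g⁻¹ = v := by
  obtain ⟨z, q⟩ := h8.qz
  have nz : ∀ {w : G}, w * w ≠ 1 → w ∉ zpowers z := fun a b => a (by
    rcases q.mem_iff.1 b with rfl | rfl
    exacts [one_mul _, q.sq])
  refine h.q8_quo q fun L M _ f x' s' ex es hf hL m1 m2 fs t e => ?_
  have l := (supp_le h.xn).trans hL
  obtain ⟨k, hk⟩ := t.four_pow e ((m1 ⟨u, l hu⟩).2 hu) ((m1 ⟨v, l hv⟩).2 hv) (fun a => nz h1 ((hf _).1 a))
    fun a => nz h2 ((hf _).1 a)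
  have b : v⁻¹ * (x ^ k * u * (x ^ k)⁻¹) ∈ zpowers z := by
    simpa only [← ex, coe_mul, coe_inv, coe_pow] using (hf (⟨v, l hv⟩⁻¹ * (x' ^ k * ⟨u, l hu⟩ * (x' ^ k)⁻¹))).1
      (by simp only [map_mul, map_inv, map_pow, hk, inv_mul_cancel])
  have c : Cz (x ^ k) (fix R x) := fun d hd => Commute.pow_left (mem_fix.1 hd).2 k
  rcases q.mem_iff.1 b with b | b
  · exact ⟨_, c, (inv_mul_eq_one.1 b).symm⟩
  obtain ⟨i, hi, e⟩ := q.exists_anti hv (nz h2)
  refine ⟨i * x ^ k, Cz.mul (fun d hd => ((h.q8_fix h8 hd.1).1 hd _ hi).symm) c, ?_⟩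
  rw [← NE.conj_conj, inv_mul_eq_iff_eq_mul.1 b, ← q.inv_eq hv (nz h2), conj_inv.symm, e, inv_inv]

end Tri

/-- The elements that act trivially on `V / Φ(V)`. -/
def kp (V : Subgroup G) : Subgroup G where
  carrier := {g | g ∈ normalizer (V : Set G) ∧ ∀ v ∈ V, ⁅g, v⁆ ∈ phi V}
  one_mem' := ⟨one_mem _, fun _ _ => by simp⟩
  mul_mem' := fun {a b} ha hb => ⟨mul_mem ha.1 hb.1, fun v hv => by
    convert mul_mem ((conj_mem_norm (norm_phi ha.1)).2 (hb.2 v hv)) (ha.2 v hv) using 1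
    simp only [commutatorElement_def]; group⟩
  inv_mem' := fun {a} ha => ⟨inv_mem ha.1, fun v hv => by
    convert (conj_mem_norm (norm_phi (inv_mem ha.1))).2 (inv_mem (ha.2 v hv)) using 1
    simp only [commutatorElement_def]; group⟩

theorem mem_kp : g ∈ kp V ↔ ∀ v ∈ V, ⁅g, v⁆ ∈ phi V :=
  ⟨fun h => h.2, fun h => ⟨mem_normalizer_of_conj_mem fun v hv =>
    (mul_mem_cancel_right (inv_mem hv)).1 (phi_le (h v hv)), h⟩⟩

theorem conj_mem_kp (hg : g ∈ normalizer (V : Set G)) (hb : b ∈ kp V) : g * b * g⁻¹ ∈ kp V := mem_kp.2 fun v hv => by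
  convert (conj_mem_norm (norm_phi hg)).2 (hb.2 _ ((conj_mem_norm (inv_mem hg)).2 hv)) using 1
  simp only [commutatorElement_def]; group

theorem Cz.mem_kp (h : Cz g V) : g ∈ kp V :=
  GH3.mem_kp.2 fun v hv => commutatorElement_eq_one_iff_mul_comm.2 (h v hv) ▸ one_mem _

theorem Tri.s_not_kp (h : Tri R x s) : s ∉ kp (supp R x) := fun a => by
  have l := supp_le h.xn
  have b : x * x ∈ kp (supp R x) := by
    convert mul_mem (inv_mem (mul_mem a (conj_mem_kp mem_norm_supp (inv_mem a))))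
      (Cz.mem_kp fun r hr => h.inv r (l hr)) using 1
    group
  obtain ⟨_, ⟨m, rfl⟩, hm⟩ := h.od.odd
  have c := Cz.mem_kp (V := supp R x) fun r hr => hm r (l hr)
  rw [pow_succ, pow_mul, pow_two] at c
  exact h.supp_ne (h.od.supp_supp.symm.trans (supp_eq_bot.2
    (h.odV.cz_of_phi ((mul_mem_cancel_left (pow_mem b m)).1 c).2)))

theorem T2.inf_kp (h : T2 S R x s) (hS : IsPGroup 2 S) (hg : El 4 (supp R x) ∨ Q8 (supp R x)) :
    S ⊓ kp (supp R x) = R := by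
  have l : R ≤ S ⊓ kp (supp R x) := le_inf h.crit.le fun r hr => hg.elim
    (fun e => Cz.mem_kp fun v hv => (h.tri.four_cz e hv r hr).symm) fun e => mem_kp.2 fun v hv => h.tri.q8_inner e hr hv
  refine (l.eq_or_lt.resolve_right fun a => ?_).symm
  obtain ⟨y, hy, hR⟩ := SetLike.exists_of_lt (lt_inf_normalizer (hS.to_le inf_le_left) a)
  exact h.tri.s_not_kp ((mul_mem_cancel_right (mem_inf.1 hy.1).2).1 (l ((h.two y ⟨hy.1.1, hy.2⟩).resolve_left hR)).2)

theorem Tri.norm_supp (h : Tri R x s) (hi : Ix (S ⊓ normalizer (R : Set G)) R s) {y : G} (hy : y ∈ S)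
    (hn : y ∈ normalizer (R : Set G)) : y ∈ normalizer (supp R x : Set G) :=
  (hi y ⟨hy, hn⟩).elim (fun a => le_norm_supp a) fun a => (mul_mem_cancel_left h.s_supp).1 (le_norm_supp a)

theorem T2.good (h : T2 S R x s) (hS : IsPGroup 2 S) (hg : El 4 (supp R x) ∨ Q8 (supp R x)) :
    (∀ y ∈ S, Cz y (supp R x) → y ∈ R) ∧
      ∀ y ∈ S, y ∈ normalizer (supp R x : Set G) ↔ y ∈ normalizer (R : Set G) :=
  have e := h.inf_kp hS hg
  ⟨fun _ hy c => e.le ⟨hy, c.mem_kp⟩, fun _ hy => ⟨fun a => mem_normalizer_of_conj_mem fun _ hr =>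
    e.le (mem_inf.2 ⟨mul_mem (mul_mem hy (h.crit.le hr)) (inv_mem hy), conj_mem_kp a (e.ge hr).2⟩), h.tri.norm_supp h.two hy⟩⟩

theorem T2.gd (h : T2 S R x s) (hS : IsPGroup 2 S) (h4 : Rk 16 S) (hg : El 4 (supp R x)) : GD S R x s :=
  ⟨hS, h4, h.crit.le, h.tri, h.mem, hg, (h.good hS (.inl hg)).1, h.two⟩

theorem GD.norm_iff (h : GD S R x s) {y : G} (hy : y ∈ S) :
    y ∈ normalizer (supp R x : Set G) ↔ y ∈ normalizer (R : Set G) :=
  ⟨fun a => mem_normalizer_of_conj_mem fun r hr => h.cen _ (mul_mem (mul_mem hy (h.le hr)) (inv_mem hy))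
    (Cz.conj (fun _ hv => (h.tri.four_cz h.four hv r hr).symm) a), h.tri.norm_supp h.two hy⟩

/-- A good `Q₈` becomes a good four-group in `C_S(z) / ⟨z⟩`. -/
theorem T2.gd_quo {x s : L} (h : T2 S R x s) (hS : IsPGroup 2 S) (h4 : Rk 16 S) (h8 : Q8 (supp R x)) {z : G}
    (hz : z ∈ supp R x) (z1 : z ≠ 1) (z2 : z * z = 1) {f : L →* Q} (hf : ∀ l : L, f l = 1 ↔ (l : G) ∈ zpowers z)
    (hL : S ⊓ centralizer {z} ≤ L) : GD (im f (S ⊓ centralizer {z})) (im f R) (f x) (f s) := by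
  have q := h8.qz_of hz z1 z2
  have l : R ≤ S ⊓ centralizer {z} := fun r hr =>
    ⟨h.crit.le hr, mem_centralizer_singleton_iff.2 (q.cen (le_norm_supp hr))⟩
  have zR := q.le.trans (supp_le h.tri.xn)
  have hN := zR.trans (l.trans hL)
  obtain ⟨t, e⟩ := h.tri.q8_im q hf (l.trans hL)
  refine ⟨pgroup_im hf hN (hS.to_le inf_le_left), (h4.mono inf_le_left).im hf hN hL,
    (im_le_im hf hN (zR.trans l) (l.trans hL)).2 l, t,
    mem_map_of_mem f ⟨h.mem, mem_centralizer_singleton_iff.2 (q.cen h.tri.s_supp)⟩, e, ?_, ?_⟩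
  · rintro _ ⟨y, hy, rfl⟩ c
    refine mem_map_of_mem f ((h.inf_kp hS (.inr h8)).le ⟨hy.1, mem_kp.2 fun v hv => q.phi_eq ▸ ?_⟩)
    have hv' := (supp_le h.tri.xn).trans (l.trans hL) hv
    refine (hf ⁅y, ⟨v, hv'⟩⁆).1 ?_
    rw [map_commutatorElement, commutatorElement_eq_one_iff_mul_comm]
    exact c _ (supp_im hf hN (l.trans hL) x ▸ mem_map_of_mem f hv)
  · rintro _ ⟨⟨y, hy, rfl⟩, c⟩
    refine (h.two y ⟨hy.1, mem_normalizer_of_conj_mem fun r hr => ?_⟩).imp (mem_im hf hN zR y).2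
      fun a => map_mul f s y ▸ (mem_im hf hN zR (s * y)).2 a
    refine (mem_im hf hN zR (y * ⟨r, hL (l hr)⟩ * y⁻¹)).1 ?_
    rw [map_mul, map_mul, map_inv]
    exact (conj_mem_norm c).2 (mem_map_of_mem f hr)

/-- A central element of `S` is fixed by a good quaternion triple. -/
theorem T2.q8_central (h : T2 S R x s) (h8 : Q8 (supp R x)) (hg : g ∈ S) (hc : Cz g S) : x * g = g * x :=
  (mem_fix.1 ((h.tri.q8_fix h8 (h.crit.cent g hg fun r hr => hc r (h.crit.le hr))).2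
    fun v hv => hc v (h.crit.le (supp_le h.tri.xn hv)))).2

end Cfsg.Agent.GH3
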