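import Mathlib
import Cfsg.Agent.GH3.Defs
import Cfsg.Agent.GH3.TriA
import Cfsg.Agent.GH3.FF
import Cfsg.Agent.GH3.Ua
import Cfsg.Agent.GT.PGroupChain
import Cfsg.Agent.Inv.SmallTwo

/-! Tools for the pair lemma. -/

set_option autoImplicit false
set_option linter.unusedSectionVars false

namespace Cfsg.Agent.GH3.UPL

open Cfsg.Agent.Inv.Fz Cfsg.Agent.NE Subgroup
open Cfsg.Agent.Loc.Mss (mem_cent cent_le_norm norm_cent conj_mem_of_norm conj_mem_of_norm' norm_sup norm_comm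
  comm_le_left mem_sup_norm)
open scoped commutatorElement

variable {G : Type*} [Group G] [Finite G] {P R K L A E F X : Subgroup G} {x s t g b z u v y : G}

theorem cm1 {a c : G} : ⁅a, c⁆ = 1 ↔ a * c = c * a := commutatorElement_eq_one_iff_mul_comm

theorem cmb {a c : G} : ⁅a, c⁆ ∈ (⊥ : Subgroup G) ↔ a * c = c * a := mem_bot.trans cm1

theorem cj_cm (g a c : G) : g * ⁅a, c⁆ * g⁻¹ = ⁅g * a * g⁻¹, g * c * g⁻¹⁆ := by
  simp only [commutatorElement_def]; group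

theorem cm_mul (a c d : G) : ⁅a, c * d⁆ = ⁅a, c⁆ * (c * ⁅a, d⁆ * c⁻¹) := by
  simp only [commutatorElement_def]; group

theorem mul_cm (a c d : G) : ⁅a * c, d⁆ = a * ⁅c, d⁆ * a⁻¹ * ⁅a, d⁆ := by
  simp only [commutatorElement_def]; group

theorem nbot (g : G) : g ∈ normalizer ((⊥ : Subgroup G) : Set G) :=
  mem_normalizer_of_conj_mem fun x hx => by rw [mem_bot.1 hx]; simp

theorem norm_of_cz (h : Cz g K) : g ∈ normalizer (K : Set G) := cent_le_norm _ (TriA.cz_iff.1 h)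

theorem cz_mono (h : Cz g R) (hK : K ≤ R) : Cz g K := fun r hr => h r (hK hr)

theorem cz_conj (h : Cz g R) (hx : x ∈ normalizer (R : Set G)) : Cz (x * g * x⁻¹) R :=
  TriA.cz_iff.2 (conj_mem_of_norm (norm_cent (zpowers_le.2 hx) (mem_zpowers x)) (TriA.cz_iff.1 h))

theorem cz_mul (h : Cz g R) (h' : Cz y R) : Cz (g * y) R :=
  TriA.cz_iff.2 (mul_mem (TriA.cz_iff.1 h) (TriA.cz_iff.1 h'))

theorem sq_conj (h : u * u = 1) (g : G) : g * u * g⁻¹ * (g * u * g⁻¹) = 1 := conj_mul_self_eq_one.2 h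

theorem mem_zp2 (hz : z * z = 1) : v ∈ zpowers z ↔ v = 1 ∨ v = z :=
  ⟨fun h => (em (v = 1)).imp_right (eq_of_mem_zpowers_two hz h), fun h => by
    rcases h with rfl | rfl
    exacts [one_mem _, mem_zpowers _]⟩

theorem card_zp2 (hz : z * z = 1) (h1 : z ≠ 1) : Nat.card (zpowers z) = 2 := by
  rw [Nat.card_zpowers]; exact orderOf_eq_prime (by rwa [sq]) h1

/-- `Ω₁ Z (R / A)`. -/
theorem exists_omz (hA : A ≤ R) (hn : R ≤ normalizer (A : Set G)) :
    ∃ E : Subgroup G, (∀ e, e ∈ E ↔ e ∈ R ∧ e * e ∈ A ∧ ∀ r ∈ R, ⁅r, e⁆ ∈ A) ∧ A ≤ E ∧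
      ∀ g ∈ normalizer (R : Set G), g ∈ normalizer (A : Set G) → g ∈ normalizer (E : Set G) := by
  let E : Subgroup G :=
    { carrier := {e | e ∈ R ∧ e * e ∈ A ∧ ∀ r ∈ R, ⁅r, e⁆ ∈ A}
      one_mem' := ⟨one_mem _, by simp, fun r _ => by simp⟩
      mul_mem' := fun {e f} he hf => ⟨mul_mem he.1 hf.1, by
          rw [show e * f * (e * f) = e * e * ⁅e⁻¹, f⁆ * (f * f) by simp only [commutatorElement_def]; group]
          exact mul_mem (mul_mem he.2.1 (hf.2.2 _ (inv_mem he.1))) hf.2.1, fun r hr => by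
          rw [cm_mul]
          exact mul_mem (he.2.2 r hr) (conj_mem_of_norm (hn he.1) (hf.2.2 r hr))⟩
      inv_mem' := fun {e} he => ⟨inv_mem he.1, by rw [← _root_.mul_inv_rev]; exact inv_mem he.2.1, fun r hr => by
          rw [show ⁅r, e⁻¹⁆ = e⁻¹ * ⁅r, e⁆⁻¹ * e by simp only [commutatorElement_def]; group]
          exact conj_mem_of_norm' (hn he.1) (inv_mem (he.2.2 r hr))⟩ }
  refine ⟨E, fun e => Iff.rfl, fun a ha => ⟨hA ha, mul_mem ha ha, fun r hr => ?_⟩, fun g h1 h2 =>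
    mem_normalizer_of_conj_mem fun e he => ⟨conj_mem_of_norm h1 he.1, ?_, fun r hr => ?_⟩⟩
  · exact mul_mem (conj_mem_of_norm (hn hr) ha) (inv_mem ha)
  · rw [← conj_mul']; exact conj_mem_of_norm h2 he.2.1
  · rw [show ⁅r, g * e * g⁻¹⁆ = g * ⁅g⁻¹ * r * g, e⁆ * g⁻¹ by simp only [commutatorElement_def]; group]
    exact conj_mem_of_norm h2 (he.2.2 _ (conj_mem_of_norm' h1 hr))

/-- The four-group generated by two commuting involutions. -/
theorem four (hz : z * z = 1) (hu : u * u = 1) (hc : z * u = u * z) (z1 : z ≠ 1) (u1 : u ≠ 1) (uz : u ≠ z) :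
    El 4 (closure {z, u}) ∧ ∀ v, v ∈ (closure {z, u} : Subgroup G) ↔ v = 1 ∨ v = z ∨ v = u ∨ v = z * u := by
  have hzp : ∀ a ∈ zpowers z, a * a = 1 := fun a ha => by
    rcases (mem_zp2 hz).1 ha with rfl | rfl
    exacts [mul_one _, hz]
  obtain ⟨-, h2, h3⟩ := ext_elem hzp hu fun a ha => comm_zpowers hc.symm ha
  have e : closure {z, u} = ext (zpowers z) u := le_antisymm ((closure_le _).2 (by
      rintro _ (rfl | rfl)
      exacts [le_ext _ _ (mem_zpowers _), self_mem_ext _ _]))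
    (ext_le.2 ⟨zpowers_le.2 (subset_closure (by simp)), subset_closure (by simp)⟩)
  have h4 : El 4 (closure {z, u} : Subgroup G) := by
    rw [e]
    exact ⟨by rw [h3 fun h => ((mem_zp2 hz).1 h).elim u1 uz, card_zp2 hz z1], h2⟩
  have mz : z ∈ (closure {z, u} : Subgroup G) := subset_closure (by simp)
  have mu : u ∈ (closure {z, u} : Subgroup G) := subset_closure (by simp)
  refine ⟨h4, fun v => ⟨fun hv => ?_, ?_⟩⟩
  · have := UL.four_cases h4 mu mz u1 z1 (fun h => uz (by rw [← inv_of_sq hz, eq_inv_iff_mul_eq_one, h])) hv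
    tauto
  · rintro (rfl | rfl | rfl | rfl)
    exacts [one_mem _, mz, mu, mul_mem mz mu]

theorem coset (h : Loc P R x s) (ht : t ∈ P) (hR : t ∉ R) : s⁻¹ * t ∈ R := by
  have := mul_mem (inv_mem h.tri.ss) ((h.ix t ht).resolve_left hR)
  rwa [show (s * s)⁻¹ * (s * t) = s⁻¹ * t by group] at this

theorem nR (h : Loc P R x s) : P ≤ normalizer (R : Set G) := h.ix.norm h.le h.mem

/-- A subgroup normalised by `R` and `s` is normalised by `P`. -/
theorem norm_P (h : Loc P R x s) (h1 : R ≤ normalizer (K : Set G)) (h2 : s ∈ normalizer (K : Set G)) :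
    P ≤ normalizer (K : Set G) := fun y hy => by
  rcases h.ix y hy with e | e
  exacts [h1 e, (mul_mem_cancel_left h2).1 (h1 e)]

/-- An element of `P ∖ R` inverts `x` wherever the support acts trivially. -/
theorem inv_mod (h : Loc P R x s) (ht : t ∈ P) (hR : t ∉ R) {k : G} (hk : k ∈ R)
    (hc : ∀ c ∈ supp R x, ⁅c, k⁆ ∈ L) : ⁅t * x * t⁻¹ * x, k⁆ ∈ L := by
  have e : t * x * t⁻¹ * x = s * ⁅s⁻¹ * t, x⁆ * s⁻¹ * (s * x * s⁻¹ * x) := by
    simp only [commutatorElement_def]; group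
  rw [e, mul_cm, cm1.2 (h.tri.inv k hk), mul_one, mul_inv_cancel, one_mul]
  exact hc _ (conj_mem_of_norm h.tri.s_supp (comm_mem_supp (coset h ht hR)).2.1)

/-- An element that inverts a fixed-point-free action of order three acts freely. -/
theorem free3 (hL : L ≤ K) (h2 : ∀ k ∈ K, k * k ∈ L) (xK : x ∈ normalizer (K : Set G))
    (xL : x ∈ normalizer (L : Set G)) (tK : t ∈ normalizer (K : Set G))
    (hf : ∀ k ∈ K, ⁅x, k⁆ ∈ L → k ∈ L) (h3 : ∀ k ∈ K, x ^ 3 * k = k * x ^ 3)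
    (hi : ∀ k ∈ K, ⁅t * x * t⁻¹ * x, k⁆ ∈ L) : ∀ k ∈ K, ⁅t, k⁆ ∈ L → ∃ u ∈ K, k⁻¹ * ⁅t, u⁆ ∈ L := by
  intro k hk e
  obtain ⟨Q, _, π, hm, hq⟩ := exists_ab hL h2
  have pL : ∀ a ∈ L, π a = 1 := fun a ha => by
    have h1 : π 1 = 1 := by have := hm 1 (one_mem _) 1 (one_mem _); simpa using this
    rw [← h1, hq _ (hL ha) _ (one_mem _)]; simpa using ha
  have Lp : ∀ a ∈ K, π a = 1 → a ∈ L := fun a ha e => by
    have := (hq _ (one_mem _) _ ha).1 ((pL 1 (one_mem _)).trans e.symm)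
    simpa using this
  have sq : ∀ a ∈ K, π a * π a = 1 := fun a ha => by rw [← hm a ha a ha]; exact pL _ (h2 a ha)
  have pi : ∀ a ∈ K, π a⁻¹ = π a := fun a ha => by
    have := hm a ha a⁻¹ (inv_mem ha)
    rw [mul_inv_cancel, pL 1 (one_mem _), ← sq a ha] at this
    exact (mul_left_cancel this).symm
  have k1 := conj_mem_of_norm xK hk
  have k2 := conj_mem_of_norm xK k1
  have k3 : x * (x * (x * k * x⁻¹) * x⁻¹) * x⁻¹ = k := by
    rw [show x * (x * (x * k * x⁻¹) * x⁻¹) * x⁻¹ = x ^ 3 * k * (x ^ 3)⁻¹ by rw [pow_three]; group, h3 k hk,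
      mul_inv_cancel_right]
  have m := mul_mem (mul_mem hk k1) k2
  have hm3 : π k * π (x * k * x⁻¹) * π (x * (x * k * x⁻¹) * x⁻¹) = 1 := by
    rw [← hm _ hk _ k1, ← hm _ (mul_mem hk k1) _ k2]
    refine pL _ (hf _ m (Lp _ (mul_mem (conj_mem_of_norm xK m) (inv_mem m)) ?_))
    rw [commutatorElement_def, hm _ (conj_mem_of_norm xK m) _ (inv_mem m), pi _ m, conj_mul', conj_mul', k3,
      hm _ (mul_mem k1 k2) _ hk, hm _ k1 _ k2, ← sq _ m, hm _ (mul_mem hk k1) _ k2, hm _ hk _ k1]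
    ac_rfl
  have tk := conj_mem_of_norm tK hk
  have e1 : π (t * (x * k * x⁻¹) * t⁻¹) = π (x * (x * k * x⁻¹) * x⁻¹) := by
    have a := conj_mem_of_norm' xK tk
    have e2 : t * (x * k * x⁻¹) * t⁻¹ = ⁅t * x * t⁻¹ * x, x⁻¹ * (t * k * t⁻¹) * x⁆ * (x⁻¹ * ⁅t, k⁆ * x) *
        (x * (x * k * x⁻¹) * x⁻¹) := by
      have : x * (x * k * x⁻¹) * x⁻¹ = x⁻¹ * k * x :=
        calc _ = x⁻¹ * (x * (x * (x * k * x⁻¹) * x⁻¹) * x⁻¹) * x := by group
          _ = _ := by rw [k3]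
      rw [this]; simp only [commutatorElement_def]; group
    have c := mul_mem (hi _ a) (conj_mem_of_norm' xL e)
    rw [e2, hm _ (hL c) _ k2, pL _ c, one_mul]
  refine ⟨_, k1, Lp _ (mul_mem (inv_mem hk) (mul_mem (conj_mem_of_norm tK k1) (inv_mem k1))) ?_⟩
  rw [commutatorElement_def, hm _ (inv_mem hk) _ (mul_mem (conj_mem_of_norm tK k1) (inv_mem k1)),
    hm _ (conj_mem_of_norm tK k1) _ (inv_mem k1), pi _ hk, pi _ k1, e1, mul_comm _ (π (x * k * x⁻¹)), ← mul_assoc, hm3]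

theorem norm_supp (hg : g ∈ normalizer (K : Set G)) (hc : x * g = g * x) : g ∈ normalizer (supp K x : Set G) := by
  rw [← cj_eq_iff, cj_supp, cj_eq_iff.2 hg, conj_eq_of_comm hc.symm]

/-- A normal elementary abelian subgroup moved by `x` and centralised by the support. -/
theorem mv (h : Loc P R x s) (hE : E ≤ R) (hn : P ≤ normalizer (E : Set G)) (hx : x ∈ normalizer (E : Set G))
    (h2 : ∀ e ∈ E, e * e = 1) (hc : ∀ c ∈ supp R x, Cz c E) (hm : ¬ Cz x E) :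
    ∃ z ∈ P, z * z = 1 ∧ Cz z P ∧ x * z ≠ z * x := by
  have hJ : supp E x ≤ E := supp_le hx
  have n1 : P ≤ normalizer (supp E x : Set G) := norm_P h (fun r hr => by
    obtain ⟨c, hc', d, hd, rfl⟩ := h.tri.od.decomp hr
    exact mul_mem (norm_of_cz (cz_mono (hc c hc') hJ))
      (norm_supp (hn (h.le (mem_fix.1 hd).1)) (mem_fix.1 hd).2)) (h.tri.s_sub hE (hn h.mem) hx).1
  obtain ⟨z, hz, z1, z2, zc⟩ := exists_central_mod h.p (fun g _ => nbot g) (hJ.trans (hE.trans h.le)) n1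
    (fun e => hm (supp_eq_bot.1 (le_bot_iff.1 e)))
  refine ⟨z, h.le (hE (hJ hz)), z2, fun r hr => (cmb.1 (zc r hr)).symm, fun e => z1 ?_⟩
  rw [← (h.tri.od.mono hE hx).disj_of_comm fun u hu v hv => comm_of_sq h2 hu hv]
  exact mem_inf.2 ⟨hz, mem_fix.2 ⟨hJ hz, e⟩⟩

/-- `y` centralises `R` if it centralises `F` and the elements of the support that are central of order two modulo `F`
are fixed by `y` and are not involutions. -/
theorem cen_of (h : Od R y) (hn : R ≤ normalizer (F : Set G)) (hF : Cz y F)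
    (he : ∀ e ∈ supp R y, e ∉ F → e * e ∈ F → (∀ r ∈ R, ⁅r, e⁆ ∈ F) → y * e = e * y ∧ e * e ≠ 1) : Cz y R := by
  by_contra hR
  have TR : supp R y ≤ R := supp_le h.xn
  obtain ⟨X, ⟨XT, RX, yX, hX⟩, hmin⟩ := (wellFounded_lt (α := Subgroup G)).has_min
    {X | X ≤ supp R y ∧ R ≤ normalizer (X : Set G) ∧ y ∈ normalizer (X : Set G) ∧ ¬ Cz y X}
    ⟨supp R y, le_rfl, le_norm_supp, mem_norm_supp, fun e => hR (supp_eq_bot.1 (by
      rw [← h.supp_supp]; exact supp_eq_bot.2 e))⟩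
  have XR := XT.trans TR
  have oX := h.mono XR yX
  have X1 : ⁅X, R⁆ ⊔ phi X ≤ X := sup_le (comm_le_left RX) phi_le
  have n1 : R ≤ normalizer ((⁅X, R⁆ ⊔ phi X : Subgroup G) : Set G) :=
    norm_sup (norm_comm RX le_normalizer) fun r hr => norm_phi (RX hr)
  have y1 : y ∈ normalizer ((⁅X, R⁆ ⊔ phi X : Subgroup G) : Set G) :=
    norm_sup (norm_comm (zpowers_le.2 yX) (zpowers_le.2 h.xn)) (zpowers_le.2 (norm_phi yX)) (mem_zpowers y)
  have c1 : Cz y (⁅X, R⁆ ⊔ phi X) := by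
    by_contra e
    refine hmin _ ⟨X1.trans XT, n1, y1, e⟩ (lt_of_le_of_ne X1 fun e' => ?_)
    exact (GT.PG.commutator_lt_of_isPGroup oX.two h.two RX fun e0 => hX (by rw [e0]; intro r hr; simp [mem_bot.1 hr])).not_ge
      (le_of_sup_phi oX.two (comm_le_left RX) e'.ge)
  have c2 : ∀ c ∈ supp R y, ∀ k ∈ ⁅X, R⁆ ⊔ phi X, c * k = k * c := fun c hc k hk =>
    cmb.1 (supp_triv h.xn n1 (fun g _ => nbot g) bot_le (fun k hk => cmb.2 (c1 k hk)) c hc k hk)
  obtain ⟨W, hW, -, nW⟩ := exists_omz (R := ⁅X, R⁆ ⊔ phi X) (A := ⊥) bot_le fun g _ => nbot g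
  have mW : ∀ w ∈ ⁅X, R⁆ ⊔ phi X, w * w = 1 → w ∈ W := fun w hw e =>
    (hW w).2 ⟨hw, e, fun r hr => cmb.2 (c2 r (XT (X1 hr)) w hw)⟩
  have WX : W ≤ X := fun w hw => X1 ((hW w).1 hw).1
  have TX : ∀ c ∈ supp R y, ∀ g ∈ X, ⁅c, g⁆ ∈ W := fun c hc g hg => by
    have m : ⁅c, g⁆ ∈ ⁅X, R⁆ ⊔ phi X := mem_sup_left (TriA.cinv.1 (commutator_mem_commutator hg (TR hc)))
    refine mW _ m ?_
    have := cm1.2 (c2 c hc _ (mem_sup_right (mem_phi hg)))
    rwa [cm_mul, conj_eq_of_comm (c2 g (XT hg) _ m)] at this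
  have JX : supp X y ≤ X := supp_le yX
  have YX : supp X y ⊔ W ≤ X := sup_le JX WX
  have nJ : supp X y ≤ normalizer (W : Set G) := fun j hj => nW j (n1 (XR (JX hj))) (nbot j)
  have yY : y ∈ normalizer ((supp X y ⊔ W : Subgroup G) : Set G) :=
    norm_sup (zpowers_le.2 mem_norm_supp) (zpowers_le.2 (nW y y1 (nbot y))) (mem_zpowers y)
  have XY : X ≤ normalizer ((supp X y ⊔ W : Subgroup G) : Set G) :=
    norm_sup le_norm_supp fun g hg => nW g (n1 (XR hg)) (nbot g)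
  have TY : ∀ c ∈ supp R y, c ∈ normalizer ((supp X y ⊔ W : Subgroup G) : Set G) := fun c hc =>
    TriA.norm_of YX fun g hg => mem_sup_right (TX c hc g hg)
  have RY : R ≤ normalizer ((supp X y ⊔ W : Subgroup G) : Set G) := fun r hr => by
    obtain ⟨c, hc, d, hd, rfl⟩ := h.decomp hr
    exact mul_mem (TY c hc) (norm_sup (zpowers_le.2 (norm_supp (RX (mem_fix.1 hd).1) (mem_fix.1 hd).2))
      (zpowers_le.2 (nW d (n1 (mem_fix.1 hd).1) (nbot d))) (mem_zpowers d))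
  have eY : X ≤ W ⊔ supp X y := by
    by_contra e
    refine hmin _ ⟨YX.trans XT, RY, yY, fun e' => hX (supp_eq_bot.1 ?_)⟩ (lt_of_le_of_ne YX fun e' => e ?_)
    · rw [← oX.supp_supp]; exact supp_eq_bot.2 (cz_mono e' le_sup_left)
    · rw [sup_comm, e']
  obtain ⟨c, hc, c1', c2', c3⟩ := exists_central_mod h.two hn XR RX fun e => hX (cz_mono hF e)
  obtain ⟨e1, e2⟩ := he c (XT hc) c1' c2' c3
  obtain ⟨w, hw, j, hj, rfl⟩ := (mem_sup_norm nJ).1 (eY hc)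
  have jf : y * j = j * y := by
    have := c1 w ((hW w).1 hw).1
    rw [← mul_assoc, this, mul_assoc, mul_assoc] at e1
    exact mul_left_cancel e1
  have jW : j ∈ W := commutator_le.2 (fun a ha c hc => TX a (XT (JX ha)) c (JX hc))
    (oX.fix_le_comm (mem_inf.2 ⟨hj, mem_fix.2 ⟨JX hj, jf⟩⟩))
  exact e2 ((hW _).1 (mul_mem hw jW)).2.1

end Cfsg.Agent.GH3.UPL
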