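import Mathlib
import Cfsg.Agent.GH3.Defs
import Cfsg.Agent.GH3.TriB
import Cfsg.Agent.GH3.UPa
import Cfsg.Agent.Loc.CardProd

/-! The pair lemma: the normal four-group of one triple, and the first case. -/

set_option autoImplicit false
set_option linter.unusedSectionVars false

namespace Cfsg.Agent.GH3.UPL

open Cfsg.Agent.Inv.Fz Cfsg.Agent.NE Subgroup
open Cfsg.Agent.Loc.Mss (conj_mem_of_norm conj_mem_of_norm' norm_sup)
open scoped commutatorElement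

variable {G : Type*} [Group G] [Finite G] {P R K L A E F M R₁ R₂ : Subgroup G}
  {x s t g b z u v y x₁ s₁ x₂ s₂ w a : G}

/-- A triple with its normal four-group `⟨z, u⟩`. -/
structure Sd (P R : Subgroup G) (x s z u : G) : Prop where
  loc : Loc P R x s
  cube : Cz (x ^ 3) R
  zR : z ∈ R
  z1 : z ≠ 1
  z2 : z * z = 1
  zc : Cz z P
  xz : x * z * x⁻¹ = u
  uz : u ≠ z
  xu : x * u * x⁻¹ = z * u
  bu : ∀ b ∈ P, b ∉ R → b * u * b⁻¹ = z * u
  om : ∀ w ∈ R, w * w = 1 → Cz w R → ⁅x, w⁆ ∈ (closure {z, u} : Subgroup G)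

namespace Sd
variable (h : Sd P R x s z u)
include h

theorem xn : x ∈ normalizer (R : Set G) := h.loc.tri.xn
theorem od : Od R x := h.loc.tri.od
theorem le : R ≤ P := h.loc.le
theorem zP : z ∈ P := h.le h.zR
theorem uR : u ∈ R := h.xz ▸ conj_mem_of_norm h.xn h.zR
theorem uP : u ∈ P := h.le h.uR
theorem u2 : u * u = 1 := h.xz ▸ sq_conj h.z2 x
theorem u1 : u ≠ 1 := fun e => h.z1 (by simpa [e] using h.xz)
theorem uc : Cz u R := h.xz ▸ cz_conj (cz_mono h.zc h.le) h.xn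
theorem zu : z * u = u * z := h.zc u h.uP
theorem el : El 4 (closure {z, u} : Subgroup G) := (four h.z2 h.u2 h.zu h.z1 h.u1 h.uz).1
theorem mem : v ∈ (closure {z, u} : Subgroup G) ↔ v = 1 ∨ v = z ∨ v = u ∨ v = z * u :=
  (four h.z2 h.u2 h.zu h.z1 h.u1 h.uz).2 v
theorem zU : z ∈ (closure {z, u} : Subgroup G) := h.mem.2 (by simp)
theorem uU : u ∈ (closure {z, u} : Subgroup G) := h.mem.2 (by simp)
theorem xzu : x * (z * u) * x⁻¹ = z := by rw [conj_mul', h.xz, h.xu, h.zu, sq_cancel h.u2]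
theorem zu1 : z * u ≠ 1 := fun e => h.uz (by rw [← sq_cancel h.z2 u, e, mul_one])
theorem zu_z : z * u ≠ z := fun e => h.u1 (by simpa using e)
theorem zu_u : z * u ≠ u := fun e => h.z1 (by simpa using e)

theorem UR : (closure {z, u} : Subgroup G) ≤ R := (closure_le _).2 (by
  rintro _ (rfl | rfl)
  exacts [h.zR, h.uR])

theorem Uc (hv : v ∈ (closure {z, u} : Subgroup G)) : Cz v R := by
  rcases h.mem.1 hv with rfl | rfl | rfl | rfl
  exacts [fun r _ => by simp, cz_mono h.zc h.le, h.uc, cz_mul (cz_mono h.zc h.le) h.uc]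

/-- `x` has no fixed points on `U`. -/
theorem fpf (hv : v ∈ (closure {z, u} : Subgroup G)) (e : x * v = v * x) : v = 1 := by
  have e := conj_eq_of_comm e
  rcases h.mem.1 hv with e' | e' | e' | e' <;> rw [e'] at e ⊢
  · exact (h.uz (h.xz.symm.trans e)).elim
  · exact (h.zu_u (h.xu.symm.trans e)).elim
  · exact (h.zu_z (h.xzu.symm.trans e).symm).elim

theorem xU : x ∈ normalizer ((closure {z, u} : Subgroup G) : Set G) := mem_normalizer_of_conj_mem fun v hv => by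
  rcases h.mem.1 hv with e | e | e | e <;> rw [e]
  · simp
  · rw [h.xz]; exact h.uU
  · rw [h.xu]; exact mul_mem h.zU h.uU
  · rw [h.xzu]; exact h.zU

/-- `[P, U] = ⟨z⟩`. -/
theorem cmu (hb : b ∈ P) (hR : b ∉ R) : ⁅b, u⁆ = z := by rw [commutatorElement_def, h.bu b hb hR, mul_inv_cancel_right]

theorem cmu' (hb : b ∈ P) : (b ∈ R ∧ ⁅b, u⁆ = 1) ∨ (b ∉ R ∧ ⁅b, u⁆ = z) :=
  (em (b ∈ R)).imp (fun e => ⟨e, cm1.2 (h.uc b e).symm⟩) fun e => ⟨e, h.cmu hb e⟩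

theorem mem_of_comm (hb : b ∈ P) (e : b * u = u * b) : b ∈ R :=
  (h.cmu' hb).elim And.left fun e' => (h.z1 (e'.2.symm.trans (cm1.2 e))).elim

theorem cmU (hb : b ∈ P) (hv : v ∈ (closure {z, u} : Subgroup G)) :
    ⁅b, v⁆ = 1 ∨ (⁅b, v⁆ = z ∧ (v = u ∨ v = z * u)) := by
  have e1 : ⁅b, z⁆ = 1 := cm1.2 (h.zc b hb).symm
  have e2 : ⁅b, z * u⁆ = ⁅b, u⁆ := by
    rw [cm_mul, e1, one_mul, conj_eq_of_comm (h.zc _ ?_)]
    exact mul_mem (mul_mem (mul_mem hb h.uP) (inv_mem hb)) (inv_mem h.uP)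
  rcases h.mem.1 hv with e | e | e | e <;> rw [e]
  · simp
  · exact Or.inl e1
  · exact (h.cmu' hb).imp And.right fun e => ⟨e.2, Or.inl rfl⟩
  · rw [e2]; exact (h.cmu' hb).imp And.right fun e => ⟨e.2, Or.inr rfl⟩

/-- The fixed points of an element outside `R` on `U`. -/
theorem fixb (hb : b ∈ P) (hR : b ∉ R) (hv : v ∈ (closure {z, u} : Subgroup G)) (e : ⁅b, v⁆ = 1) :
    v ∈ zpowers z := by
  rcases h.mem.1 hv with e' | e' | e' | e' <;> rw [e'] at e ⊢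
  · exact one_mem _
  · exact mem_zpowers _
  · exact (hR (h.mem_of_comm hb (cm1.1 e))).elim
  · refine (hR (h.mem_of_comm hb ?_)).elim
    have := cm1.1 e
    rwa [← mul_assoc, ← h.zc b hb, mul_assoc, mul_assoc, mul_right_inj] at this

theorem cmz (hb : b ∈ P) (hv : v ∈ (closure {z, u} : Subgroup G)) : ⁅b, v⁆ ∈ zpowers z :=
  (mem_zp2 h.z2).2 ((h.cmU hb hv).imp_right And.left)

theorem zpU : zpowers z ≤ closure {z, u} := zpowers_le.2 h.zU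

theorem nU : P ≤ normalizer ((closure {z, u} : Subgroup G) : Set G) :=
  norm_of_comm fun _ hb _ hv => h.zpU (h.cmz hb hv)

theorem U_supp (hK : (closure {z, u} : Subgroup G) ≤ K) : (closure {z, u} : Subgroup G) ≤ supp K x :=
  (closure_le _).2 (by
    rintro _ (e | e) <;> rw [e]
    · have := (comm_mem_supp (x := x) (hK h.uU)).1
      rwa [commutatorElement_def, h.xu, mul_inv_cancel_right] at this
    · have := (comm_mem_supp (x := x) (hK (mul_mem h.zU h.uU))).1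
      rwa [commutatorElement_def, h.xzu, h.zu, _root_.mul_inv_rev, mul_inv_cancel_left, inv_of_sq h.u2] at this)

end Sd

theorem side (h : Loc P R x s) (m : ∃ z ∈ P, z * z = 1 ∧ Cz z P ∧ x * z ≠ z * x) :
    (∃ z u, Sd P R x s z u) ∨
      ∃ A ≤ R, El 16 A ∧ (∀ a ∈ A, Cz a R) ∧ ∀ b ∈ P, b ∉ R → Nat.card (fix A b) ≤ 4 := by
  obtain ⟨z0, z0P, z02, z0c, z0x⟩ := m
  obtain ⟨W, hW, -, nW⟩ := exists_omz (R := R) (A := ⊥) bot_le fun g _ => nbot g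
  have WR : W ≤ R := fun w hw => ((hW w).1 hw).1
  have W2 : ∀ w ∈ W, w * w = 1 := fun w hw => ((hW w).1 hw).2.1
  have Wc : ∀ w ∈ W, Cz w R := fun w hw r hr => (cmb.1 (((hW w).1 hw).2.2 r hr)).symm
  have mW : ∀ w ∈ R, w * w = 1 → Cz w R → w ∈ W := fun w hw e c => (hW w).2 ⟨hw, e, fun r hr => cmb.2 (c r hr).symm⟩
  have xW := nW x h.tri.xn (nbot x)
  have sW := nW s h.tri.sn (nbot s)
  rcases h.tri.sec (h.r4.mono h.le) bot_le WR xW (nbot x) W2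
    ⟨z0, mW z0 (h.center_le z0P z0c) z02 (cz_mono z0c h.le), fun e => z0x (cmb.1 e)⟩ with ⟨c4, cube⟩ | ⟨c16, -, hf⟩
  · left
    rw [sup_bot_eq, card_bot, mul_one] at c4
    have JW : supp W x ≤ W := supp_le xW
    have hU : El 4 (supp W x) := ⟨c4, fun a ha => W2 a (JW ha)⟩
    have fp : ∀ v ∈ supp W x, x * v * x⁻¹ = v → v = 1 := fun v hv e => by
      rw [← mem_bot, ← (h.tri.od.mono WR xW).disj_of_comm fun u hu v hv => comm_of_sq W2 hu hv]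
      exact mem_inf.2 ⟨hv, mem_fix.2 ⟨JW hv, comm_of_conj_eq e⟩⟩
    obtain ⟨z, hz, -, -, z1, -, -, zc, -⟩ := UL.exists_zu h.p hU (JW.trans (WR.trans h.le))
      (norm_P h (fun r hr => norm_of_cz fun v hv => (Wc v (JW hv) r hr).symm) (h.tri.s_sub WR sW xW).1)
    have hu := conj_mem_of_norm mem_norm_supp hz
    have uz : x * z * x⁻¹ ≠ z := fun e => z1 (fp z hz e)
    have u1 : x * z * x⁻¹ ≠ 1 := fun e => z1 (by simpa using e)
    have zu := comm_of_sq hU.sq hz hu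
    have uz1 : x * z * x⁻¹ * z ≠ 1 := fun e => uz ((eq_inv_of_mul_eq_one_left e).trans (inv_of_sq (hU.sq z hz)))
    have xu : x * (x * z * x⁻¹) * x⁻¹ = z * (x * z * x⁻¹) := by
      rcases UL.four_cases hU hu hz u1 z1 uz1 (conj_mem_of_norm mem_norm_supp hu) with e | e | e | e
      · exact (u1 (by simpa using e)).elim
      · exact (u1 (fp _ hu e)).elim
      · exact (uz1 (fp _ (mul_mem hu hz) (by rw [conj_mul', e, zu]))).elim
      · exact e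
    refine ⟨z, _, h, cube, WR (JW hz), z1, hU.sq z hz, fun r hr => (zc r hr).symm, rfl, uz, xu, fun b hb hR => ?_,
      fun w hw e c => ?_⟩
    · rw [show b * (x * z * x⁻¹) * b⁻¹ = s * (s⁻¹ * b * (x * z * x⁻¹) * (s⁻¹ * b)⁻¹) * s⁻¹ by group,
        conj_eq_of_comm (Wc _ (JW hu) _ (coset h hb hR)).symm, h.tri.conj_conj (WR (JW hz)),
        conj_eq_of_comm (zc s h.mem), ← conj_inj (g := x), conj_mul' x z, xu, zu, sq_cancel (hU.sq _ hu)]
      group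
    · have := UL.four_cases hU hu hz u1 z1 uz1 (comm_mem_supp (x := x) (mW w hw e c)).1
      exact ((four (hU.sq z hz) (hU.sq _ hu) zu z1 u1 uz).2 _).2 (by tauto)
  · right
    rw [card_bot, mul_one] at c16
    refine ⟨W, WR, ⟨c16, W2⟩, Wc, fun b hb hR => ?_⟩
    have hf := (h.tri.free (coset h hb hR) bot_le WR xW (nbot x) sW (nbot s)
      (fun r hr k hk => cmb.2 (Wc k hk r hr).symm) hf).2
    have h1 := Cfsg.Agent.Loc.card_mul_card_le_card_sup_mul_card_inf (fix W b) (cj x⁻¹ (fix W b))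
    have h2 : fix W b ⊓ cj x⁻¹ (fix W b) = ⊥ := eq_bot_iff.2 fun k hk => by
      have h3 := mem_cj.1 (mem_inf.1 hk).2
      rw [inv_inv] at h3
      exact hf k (mem_fix.1 (mem_inf.1 hk).1).1 (cmb.2 (mem_fix.1 (mem_inf.1 hk).1).2) (cmb.2 (mem_fix.1 h3).2)
    have h3 : fix W b ⊔ cj x⁻¹ (fix W b) ≤ W :=
      sup_le inf_le_left (cj_le_iff.2 fun k hk => conj_mem_of_norm (inv_mem xW) (mem_fix.1 hk).1)
    rw [h2, card_bot, mul_one, card_cj] at h1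
    have h4 := h1.trans ((card_le_of_le h3).trans c16.le)
    nlinarith

theorem exists_out (h₁ : Loc P R₁ x₁ s₁) (h₂ : Loc P R₂ x₂ s₂) (hne : R₁ ≠ R₂) : ∃ b ∈ R₁, b ∉ R₂ := by
  by_contra! e
  have h1 := h₁.ix.card h₁.le h₁.mem h₁.tri.s_not
  have h2 := h₂.ix.card h₂.le h₂.mem h₂.tri.s_not
  exact hne (eq_of_le_of_card_ge e (by omega))

theorem not16 (h₁ : Loc P R₁ x₁ s₁) (h₂ : Loc P R₂ x₂ s₂) (hne : R₁ ≠ R₂)
    (m₂ : ∃ z ∈ P, z * z = 1 ∧ Cz z P ∧ x₂ * z ≠ z * x₂) (hA : A ≤ R₁) (el : El 16 A) (hc : ∀ a ∈ A, Cz a R₁)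
    (hf : ∀ b ∈ P, b ∉ R₁ → Nat.card (fix A b) ≤ 4) : False := by
  rcases side h₂ m₂ with ⟨z, u, h⟩ | ⟨B, hB, elB, cB, -⟩
  · by_cases e : u ∈ R₁
    · obtain ⟨b, hb, nb⟩ := exists_out h₁ h₂ hne
      exact nb (h.mem_of_comm (h₁.le hb) (hc u (h₁.r4.mem_el16 el (hA.trans h₁.le) h.uP h.u2 fun a ha =>
        (hc a ha u e).symm) b hb).symm)
    · have h1 := hf u h.uP e
      have h2 : A ⊓ R₂ ≤ fix A u := fun a ha => mem_fix.2 ⟨ha.1, h.uc a ha.2⟩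
      have h3 := (card_le_of_le h2).trans h1
      by_cases e' : A ≤ R₂
      · rw [inf_eq_left.2 e', el.card] at h3; omega
      · obtain ⟨a, ha, na⟩ := SetLike.not_le_iff_exists.1 e'
        have := Ix.card (S := A) (K := A ⊓ R₂) (s := a) (fun y hy => (em (y ∈ R₂)).imp (fun e => ⟨hy, e⟩) fun e =>
          mem_inf.2 ⟨mul_mem ha hy, h₂.ix.mul_mem (h₁.le (hA ha)) (h₁.le (hA hy)) na e⟩) inf_le_left ha fun e => na e.2
        rw [el.card] at this; omega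
  · obtain ⟨b, hb, nb⟩ := exists_out h₂ h₁ hne.symm
    obtain rfl := el16_unique h₁.r4 el hA h₁.le h₁.ix h₁.mem hc (hf _ h₁.mem h₁.tri.s_not) elB (hB.trans h₂.le)
    have h1 := hf b (h₂.le hb) nb
    have h2 : B ≤ fix B b := fun a ha => mem_fix.2 ⟨ha, (cB a ha b hb).symm⟩
    have := (card_le_of_le h2).trans h1
    rw [el.card] at this; omega

/-- Two triples with their four-groups; `M` is the intersection. -/
structure Pr (P R₁ R₂ M : Subgroup G) (x₁ s₁ z u x₂ s₂ w a : G) : Prop where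
  l : Sd P R₁ x₁ s₁ z u
  r : Sd P R₂ x₂ s₂ w a
  ne : R₁ ≠ R₂
  mem : ∀ g, g ∈ M ↔ g ∈ R₁ ∧ g ∈ R₂

theorem exists_pr (h₁ : Loc P R₁ x₁ s₁) (h₂ : Loc P R₂ x₂ s₂) (hne : R₁ ≠ R₂)
    (m₁ : ∃ z ∈ P, z * z = 1 ∧ Cz z P ∧ x₁ * z ≠ z * x₁) (m₂ : ∃ z ∈ P, z * z = 1 ∧ Cz z P ∧ x₂ * z ≠ z * x₂) :
    ∃ z u w a, Pr P R₁ R₂ (R₁ ⊓ R₂) x₁ s₁ z u x₂ s₂ w a := by
  rcases side h₁ m₁ with ⟨z, u, h⟩ | ⟨A, hA, el, c, f⟩
  · rcases side h₂ m₂ with ⟨w, a, h'⟩ | ⟨A, hA, el, c, f⟩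
    · exact ⟨z, u, w, a, h, h', hne, fun g => mem_inf⟩
    · exact (not16 h₂ h₁ hne.symm m₁ hA el c f).elim
  · exact (not16 h₁ h₂ hne m₂ hA el c f).elim

namespace Pr
variable (h : Pr P R₁ R₂ M x₁ s₁ z u x₂ s₂ w a)
include h

theorem symm : Pr P R₂ R₁ M x₂ s₂ w a x₁ s₁ z u := ⟨h.r, h.l, h.ne.symm, fun g => (h.mem g).trans and_comm⟩
theorem M1 : M ≤ R₁ := fun g hg => ((h.mem g).1 hg).1
theorem M2 : M ≤ R₂ := fun g hg => ((h.mem g).1 hg).2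
theorem MP : M ≤ P := h.M1.trans h.l.le
theorem eq : M = R₁ ⊓ R₂ := Subgroup.ext fun g => (h.mem g).trans mem_inf.symm
theorem out : ∃ b ∈ R₁, b ∉ R₂ := exists_out h.l.loc h.r.loc h.ne
theorem r4 : Rk 16 P := h.l.loc.r4

theorem nM : P ≤ normalizer (M : Set G) := fun _ hg => mem_normalizer_of_conj_mem fun _ hk =>
  (h.mem _).2 ⟨conj_mem_of_norm (nR h.l.loc hg) (h.M1 hk), conj_mem_of_norm (nR h.r.loc hg) (h.M2 hk)⟩

theorem sqM (ht : t ∈ P) : t * t ∈ M := (h.mem _).2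
  ⟨(em _).elim (fun e => mul_mem e e) fun e => h.l.loc.ix.mul_mem ht ht e e,
    (em _).elim (fun e => mul_mem e e) fun e => h.r.loc.ix.mul_mem ht ht e e⟩

theorem suppM (hx : x₁ ∈ normalizer (M : Set G)) : supp R₁ x₁ ≤ M :=
  supp_le_idx h.l.xn h.M1 hx fun _ hp _ hq p1 q1 => (h.mem _).2 ⟨mul_mem hp hq, h.r.loc.ix.mul_mem (h.l.le hp) (h.l.le hq)
    (fun e => p1 ((h.mem _).2 ⟨hp, e⟩)) fun e => q1 ((h.mem _).2 ⟨hq, e⟩)⟩

theorem fix_out (hx : x₁ ∈ normalizer (M : Set G)) : ∃ d ∈ R₁, d ∉ R₂ ∧ x₁ * d = d * x₁ := by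
  obtain ⟨b, hb, nb⟩ := h.out
  obtain ⟨c, hc, d, hd, rfl⟩ := h.l.od.decomp hb
  exact ⟨d, (mem_fix.1 hd).1, fun e => nb (mul_mem (h.M2 (h.suppM hx hc)) e), (mem_fix.1 hd).2⟩

theorem out2 : ∃ t ∈ P, t ∉ R₁ ∧ t ∉ R₂ := by
  obtain ⟨b, hb, nb⟩ := h.out
  obtain ⟨c, hc, nc⟩ := h.symm.out
  exact ⟨b * c, mul_mem (h.l.le hb) (h.r.le hc), fun e => nc ((mul_mem_cancel_left hb).1 e),
    fun e => nb ((mul_mem_cancel_right hc).1 e)⟩

theorem a_of_u (e : a ∈ R₁) : u ∈ R₂ := h.r.mem_of_comm h.l.uP (h.l.uc a e)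

theorem four_of (e : a ∉ R₁) : El 4 (supp R₁ x₁) :=
  (h.l.loc.tri.four_of (coset h.l.loc h.r.uP e) h.r.z2 fun r hr => by
    rw [← inv_mem_iff, commutatorElement_inv]; exact h.r.cmz (h.l.le hr) h.r.uU).1

/-- The four-groups do not commute. -/
theorem alt1 (e : u ∉ R₂) : El 4 (supp R₁ x₁) ∧ El 4 (supp R₂ x₂) ∧ ¬ supp R₁ x₁ ≤ R₂ :=
  ⟨h.four_of fun e' => e (h.a_of_u e'), h.symm.four_of e, fun e' => e (e' (h.l.U_supp h.l.UR h.l.uU))⟩

end Pr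

end Cfsg.Agent.GH3.UPL
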