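import Mathlib
import Cfsg.Agent.GH3.Defs
import Cfsg.Agent.GH3.UPb

/-! The pair lemma: commuting four-groups with the same central involution. -/

set_option autoImplicit false
set_option linter.unusedSectionVars false

namespace Cfsg.Agent.GH3.UPL

open Cfsg.Agent.Inv.Fz Cfsg.Agent.NE Subgroup
open Cfsg.Agent.Loc.Mss (conj_mem_of_norm conj_mem_of_norm' norm_sup)
open scoped commutatorElement

variable {G : Type*} [Group G] [Finite G] {P R K L A E F M R₁ R₂ : Subgroup G}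
  {x s t g b r z u v y x₁ s₁ x₂ s₂ w a : G}

theorem fpf_of_inv (hM : IsPGroup 2 M) (h : ∀ k ∈ M, k * k = 1 → x * k = k * x → k = 1) :
    ∀ k ∈ M, x * k = k * x → k = 1 := fun k hk e => by
  by_contra k1
  obtain ⟨c, hc, c1, c2⟩ := exists_pow_two hM hk k1
  exact c1 (h c (zpowers_le.2 hk hc) c2 (comm_zpowers e hc))

theorem fpf_mod (h : Od M x) (hA : A ≤ M) (hx : x ∈ normalizer (A : Set G)) (hn : M ≤ normalizer (A : Set G))
    (hf : ∀ k ∈ M, x * k = k * x → k ∈ A) : ∀ k ∈ M, ⁅x, k⁆ ∈ A → k ∈ A := fun k hk e => by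
  obtain ⟨d, hd, e'⟩ := h.lift hA hx hk (hn hk) e
  exact inv_mem_iff.1 ((mul_mem_cancel_right (hf d (mem_fix.1 hd).1 (mem_fix.1 hd).2)).1 e')

theorem le_supp (h : Od M x) (hf : ∀ k ∈ M, x * k = k * x → k = 1) : M ≤ supp M x := fun k hk => by
  obtain ⟨c, hc, d, hd, rfl⟩ := h.decomp hk
  rwa [hf d (mem_fix.1 hd).1 (mem_fix.1 hd).2, mul_one]

/-- Elements outside both subgroups act freely on the intersection. -/
def Fr (P R₁ R₂ M : Subgroup G) : Prop :=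
  ∀ t ∈ P, t ∉ R₁ → t ∉ R₂ → ∀ k ∈ M, t * k = k * t → ∃ v ∈ M, k = ⁅t, v⁆

namespace Pr

section
variable (h : Pr P R₁ R₂ M x₁ s₁ z u x₂ s₂ w a)
include h

theorem pM : IsPGroup 2 M := h.l.loc.p.to_le h.MP

theorem cmg (hg : g ∈ normalizer (R₁ : Set G)) (hr : r ∈ R₁) :
    (g⁻¹ * r * g ∈ R₂ ∧ ⁅r, g * a * g⁻¹⁆ = 1) ∨ (g⁻¹ * r * g ∉ R₂ ∧ ⁅r, g * a * g⁻¹⁆ = g * w * g⁻¹) := by
  rw [show ⁅r, g * a * g⁻¹⁆ = g * ⁅g⁻¹ * r * g, a⁆ * g⁻¹ by simp only [commutatorElement_def]; group]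
  exact (h.r.cmu' (h.l.le (conj_mem_of_norm' hg hr))).imp (And.imp_right fun e => by simp [e])
    (And.imp_right fun e => by rw [e])

theorem exg (hg : g ∈ normalizer (R₁ : Set G)) : ∃ r ∈ R₁, ⁅r, g * a * g⁻¹⁆ = g * w * g⁻¹ := by
  obtain ⟨b, hb, nb⟩ := h.out
  exact ⟨_, conj_mem_of_norm hg hb, by rw [← cj_cm, h.r.cmu (h.l.le hb) nb]⟩

theorem om (hA : El 16 A) (AM : A ≤ M) (cA : ∀ f ∈ A, Cz f M) {k : G} (hk : k ∈ M) (e : k * k = 1) : k ∈ A :=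
  h.r4.mem_el16 hA (AM.trans h.MP) (h.MP hk) e fun f hf => (cA f hf k hk).symm

theorem norm_om (hA : El 16 A) (AM : A ≤ M) (cA : ∀ f ∈ A, Cz f M) (hg : g ∈ normalizer (M : Set G)) :
    g ∈ normalizer (A : Set G) := mem_normalizer_of_conj_mem fun k hk =>
  h.om hA AM cA (conj_mem_of_norm hg (AM hk)) (sq_conj (hA.sq k hk) g)

theorem UM (e : u ∈ R₂) : (closure {z, u} : Subgroup G) ≤ M := (closure_le _).2 (by
  rintro _ (e' | e') <;> rw [e']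
  exacts [(h.mem _).2 ⟨h.l.zR, h.r.loc.center_le h.l.zP h.l.zc⟩, (h.mem _).2 ⟨h.l.uR, e⟩])

/-- If both elements act without fixed points on `M`, then `M` is elementary abelian. -/
theorem le_of_fpf (hA : El 16 A) (AM : A ≤ M) (cA : ∀ f ∈ A, Cz f M) (n₁ : x₁ ∈ normalizer (M : Set G))
    (n₂ : x₂ ∈ normalizer (M : Set G)) (f₁ : ∀ k ∈ M, x₁ * k = k * x₁ → k = 1)
    (f₂ : ∀ k ∈ M, x₂ * k = k * x₂ → k = 1) : M ≤ A := by
  by_contra hle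
  have PA : P ≤ normalizer (A : Set G) := fun g hg => h.norm_om hA AM cA (h.nM hg)
  have a₁ := h.norm_om hA AM cA n₁
  have a₂ := h.norm_om hA AM cA n₂
  obtain ⟨e, he, e1, e2, e3⟩ := exists_central_mod h.l.loc.p PA h.MP h.nM hle
  obtain ⟨E, hE, AE, nE⟩ := exists_omz AM (h.MP.trans PA)
  have eE : e ∈ E := (hE e).2 ⟨he, e2, fun r hr => e3 r (h.MP hr)⟩
  have EM : E ≤ M := fun k hk => ((hE k).1 hk).1
  have E2 : ∀ k ∈ E, k * k ∈ A := fun k hk => ((hE k).1 hk).2.1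
  have g₁ := fpf_mod (h.l.od.mono h.M1 n₁) AM a₁ (h.MP.trans PA) fun k hk e => f₁ k hk e ▸ one_mem _
  have g₂ := fpf_mod (h.r.od.mono h.M2 n₂) AM a₂ (h.MP.trans PA) fun k hk e => f₂ k hk e ▸ one_mem _
  obtain ⟨d, d1, d2, dx⟩ := h.fix_out n₁
  have dP := h.l.le d1
  have T2 := h.symm.suppM n₂
  have fB := free3 AE E2 (nE _ n₂ a₂) a₂ (nE _ (h.nM dP) (PA dP)) (fun k hk => g₂ k (EM hk))
    (fun k hk => h.r.cube k (h.M2 (EM hk))) fun k hk => inv_mod h.r.loc dP d2 (h.M2 (EM hk)) fun c hc =>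
      ((hE k).1 hk).2.2 c (T2 hc)
  have fA := free3 (L := ⊥) bot_le hA.sq a₂ (nbot _) (PA dP) (fun k hk e => f₂ k (AM hk) (cmb.1 e))
    (fun k hk => h.r.cube k (h.M2 (AM hk))) fun k hk => inv_mod h.r.loc dP d2 (h.M2 (AM hk)) fun c hc =>
      cmb.2 (cA k hk c (T2 hc)).symm
  have r4 := h.r4.mono h.l.le
  rcases h.l.loc.tri.sec r4 AE (EM.trans h.M1) (nE _ n₁ a₁) a₁ E2 ⟨e, eE, fun c => e1 (g₁ e he c)⟩ with
    ⟨c4, -⟩ | ⟨c16, -⟩
  · obtain ⟨C, hC⟩ := exists_fx (K := E) (L := A) d (EM.trans (h.MP.trans PA))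
    have CE : C ≤ E := fun k hk => ((hC k).1 hk).1
    have AC : A ≤ C := fun k hk => (hC k).2 ⟨AE hk, mul_mem (conj_mem_of_norm (PA dP) hk) (inv_mem hk)⟩
    have xC : x₁ ∈ normalizer (C : Set G) := mem_normalizer_of_conj_mem fun k hk =>
      (hC _).2 ⟨conj_mem_of_norm (nE _ n₁ a₁) (CE hk), by
        rw [← conj_eq_of_comm dx, ← cj_cm]; exact conj_mem_of_norm a₁ ((hC k).1 hk).2⟩
    have c1 : Nat.card E ≤ 4 * Nat.card A := c4 ▸ card_le_of_le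
      ((le_supp (h.l.od.mono (EM.trans h.M1) (nE _ n₁ a₁)) fun k hk => f₁ k (EM hk)).trans le_sup_left)
    have c2 : 4 * Nat.card A ≤ Nat.card C := by
      rcases h.l.loc.tri.sec r4 AC (CE.trans (EM.trans h.M1)) xC a₁ (fun k hk => E2 k (CE hk))
        ⟨e, (hC e).2 ⟨eE, e3 d dP⟩, fun c => e1 (g₁ e he c)⟩ with ⟨c, -⟩ | ⟨c, -⟩
      · exact c ▸ card_le_of_le (sup_le (supp_le xC) AC)
      · omega
    obtain ⟨v, hv, e4⟩ := fB e eE (e3 d dP)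
    rw [← eq_of_le_of_card_ge CE (c1.trans c2)] at hv
    exact e1 (inv_mem_iff.1 ((mul_mem_cancel_right ((hC v).1 hv).2).1 e4))
  · refine ff h.r4 (EM.trans h.MP) dP bot_le AE (by rw [hA.card, card_bot]) c16 hA.sq E2
      (fun y hy f hf => cmb.2 (cA f hf y (EM hy)).symm) (nbot _) (PA dP) (nE _ (h.nM dP) (PA dP)) ?_ fA fB
    rw [f₁ _ (h.sqM dP) (by rw [← mul_assoc, dx, mul_assoc, dx, mul_assoc])]
    exact one_mem _

end

variable (h : Pr P R₁ R₂ M x₁ s₁ z u x₂ s₂ z a) (e : a ∈ R₁)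
include h e

theorem b1_core : x₁ ∈ normalizer (M : Set G) ∧ (∀ k ∈ M, x₁ * k = k * x₁ → k = 1) ∧
    (∀ y ∈ R₁, y ∉ R₂ → ∃ v ∈ M, ⁅y, v⁆ = u) ∧ ∃ A, El 16 A ∧ A ≤ M ∧ ∀ f ∈ A, Cz f M := by
  have l := h.l
  have m1 := conj_mem_of_norm l.xn e
  have m2 := conj_mem_of_norm l.xn m1
  have c0 : ∀ r ∈ R₁, _ := fun r hr => h.r.cmu' (l.le hr)
  have c1 : ∀ r ∈ R₁, _ := fun r hr => h.cmg l.xn hr
  have c2 : ∀ r ∈ R₁, _ := fun r hr => h.cmg (mul_mem l.xn l.xn) hr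
  obtain ⟨r0, hr0, n0⟩ := h.exg (one_mem _)
  obtain ⟨r1, hr1, n1⟩ := h.exg l.xn
  obtain ⟨r2, hr2, n2⟩ := h.exg (mul_mem l.xn l.xn)
  simp only [one_mul, inv_one, mul_one] at n0
  simp only [← conj_conj, l.xz, l.xu] at c1 c2 n1 n2
  have a3 : x₁ * (x₁ * (x₁ * a * x₁⁻¹) * x₁⁻¹) * x₁⁻¹ = a := by
    rw [conj_conj, conj_conj, mul_assoc x₁, ← pow_three, conj_eq_of_comm (l.cube a e)]
  have q1 := sq_conj h.r.u2 x₁
  have q2 := sq_conj q1 x₁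
  have k01 : a * (x₁ * a * x₁⁻¹) = x₁ * a * x₁⁻¹ * a := by
    rcases c0 _ m1 with c | c
    · exact (cm1.1 c.2).symm
    · have c' : ⁅a, x₁ * a * x₁⁻¹⁆ = z := by rw [← commutatorElement_inv, c.2, inv_of_sq l.z2]
      rcases c1 a e with d | d
      exacts [cm1.1 d.2, (l.uz (d.2.symm.trans c')).elim]
  have k12 := conj_comm x₁ k01
  have k20 := conj_comm x₁ k12
  rw [a3] at k20
  generalize e1 : x₁ * a * x₁⁻¹ = a1 at *
  generalize e2 : x₁ * a1 * x₁⁻¹ = a2 at *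
  have U0 : ∀ r ∈ R₁, ⁅r, a⁆ ∈ (closure {z, u} : Subgroup G) := fun r hr => l.mem.2 (by have := c0 r hr; tauto)
  have U1 : ∀ r ∈ R₁, ⁅r, a1⁆ ∈ (closure {z, u} : Subgroup G) := fun r hr => l.mem.2 (by have := c1 r hr; tauto)
  have U2 : ∀ r ∈ R₁, ⁅r, a2⁆ ∈ (closure {z, u} : Subgroup G) := fun r hr => l.mem.2 (by have := c2 r hr; tauto)
  have add : ∀ r, ∀ p ∈ R₁, ∀ q, ⁅r, q⁆ ∈ (closure {z, u} : Subgroup G) → ⁅r, p * q⁆ = ⁅r, p⁆ * ⁅r, q⁆ :=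
    fun r p hp q hq => by rw [cm_mul, conj_eq_of_comm (l.Uc hq p hp).symm]
  have tr : ∀ r ∈ R₁, ∀ v ∈ (closure {z, u} : Subgroup G), ⁅r, v⁆ = 1 := fun r hr v hv => cm1.2 (l.Uc hv r hr).symm
  have z1 := l.z1
  have u1 := l.u1
  have zu1 := l.zu1
  have zzu : z * (z * u) = u := sq_cancel l.z2 u
  have uzu : u * (z * u) = z := by rw [l.zu, sq_cancel l.u2]
  obtain ⟨p1, p2, p3⟩ := ext_elem l.el.sq h.r.u2 fun v hv => (l.Uc hv a e).symm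
  have o1 : a * a1 ∉ (closure {z, u} : Subgroup G) := fun c => by
    have := tr r0 hr0 _ c
    rw [add _ _ e _ (U1 r0 hr0), n0] at this
    rcases c1 r0 hr0 with d | d <;> rw [d.2] at this
    exacts [z1 (by simpa using this), zu1 this]
  have cc : ∀ p ∈ R₁, p * a = a * p → ∀ v ∈ ext (closure {z, u}) a, p * v = v * p := fun p hp c v hv =>
    (mem_centralizer_singleton_iff.1 ((ext_le (K := centralizer {p})).2 ⟨fun v hv =>
      mem_centralizer_singleton_iff.2 (l.Uc hv p hp), mem_centralizer_singleton_iff.2 c.symm⟩ hv)).symm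
  obtain ⟨p4, p5, p6⟩ := ext_elem p2 q1 (cc a1 m1 k01.symm)
  have el : El 16 (ext (ext (closure {z, u}) a) a1) := ⟨by
    rw [p6 fun c => ((p1 _).1 c).elim (fun c => u1 (n1.symm.trans (tr r1 hr1 _ c))) o1,
      p3 fun c => z1 (n0.symm.trans (tr r0 hr0 _ c)), l.el.card], p5⟩
  have AR : ext (ext (closure {z, u}) a) a1 ≤ R₁ := ext_le.2 ⟨ext_le.2 ⟨l.UR, e⟩, m1⟩
  have mA := h.r4.mem_el16 el (AR.trans l.le) (l.le m2) q2 fun v hv =>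
    (mem_centralizer_singleton_iff.1 ((ext_le (K := centralizer {a2})).2 ⟨fun v hv =>
      mem_centralizer_singleton_iff.2 (cc a2 m2 k20 v hv).symm, mem_centralizer_singleton_iff.2 k12⟩ hv)).symm
  have key : ∀ r ∈ R₁, ⁅r, a⁆ * (⁅r, a1⁆ * ⁅r, a2⁆) = 1 := by
    rcases (p4 _).1 mA with c | c <;> rcases (p1 _).1 c with c | c
    · exact (zu1 (n2.symm.trans (tr r2 hr2 _ c))).elim
    · have := tr r0 hr0 _ c
      rw [add _ _ e _ (U2 r0 hr0), n0] at this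
      rcases c2 r0 hr0 with d | d <;> rw [d.2] at this
      exacts [(z1 (by simpa using this)).elim, (u1 (zzu ▸ this)).elim]
    · have := tr r1 hr1 _ c
      rw [add _ _ m1 _ (U2 r1 hr1), n1] at this
      rcases c2 r1 hr1 with d | d <;> rw [d.2] at this
      exacts [(u1 (by simpa using this)).elim, (z1 (uzu ▸ this)).elim]
    · intro r hr
      have c3 := add r _ m1 _ (U2 r hr)
      rw [← c3, ← add _ _ e _ (c3 ▸ mul_mem (U1 r hr) (U2 r hr))]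
      exact tr r hr _ c
  have ker : ∀ r ∈ R₁, r ∈ R₂ ↔ x₁⁻¹ * r * x₁ ∈ R₂ := fun r hr => by
    have := key r hr
    rcases c0 r hr with d0 | d0 <;> rcases c1 r hr with d1 | d1 <;> rcases c2 r hr with d2 | d2 <;>
      rw [d0.2, d1.2, d2.2] at this <;> simp_all
  have xM : x₁ ∈ normalizer (M : Set G) := inv_mem_iff.1 (mem_normalizer_of_conj_mem fun k hk => by
    rw [inv_inv]; exact (h.mem _).2 ⟨conj_mem_of_norm' l.xn (h.M1 hk), (ker k (h.M1 hk)).1 (h.M2 hk)⟩)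
  have aM : a ∈ M := (h.mem _).2 ⟨e, h.r.uR⟩
  have a1M : a1 ∈ M := e1 ▸ conj_mem_of_norm xM aM
  have AM : ext (ext (closure {z, u}) a) a1 ≤ M := ext_le.2 ⟨ext_le.2 ⟨h.UM (h.a_of_u e), aM⟩, a1M⟩
  have cA : ∀ f ∈ ext (ext (closure {z, u}) a) a1, Cz f M := fun f hf => TriA.cz_iff.2
    ((ext_le (K := centralizer (M : Set G))).2 ⟨ext_le.2 ⟨fun v hv => TriA.cz_iff.1 (cz_mono (l.Uc hv) h.M1),
      TriA.cz_iff.1 (cz_mono h.r.uc h.M2)⟩, TriA.cz_iff.1 (e1 ▸ cz_conj (cz_mono h.r.uc h.M2) xM)⟩ hf)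
  have UA : (closure {z, u} : Subgroup G) ≤ ext (ext (closure {z, u}) a) a1 := (le_ext _ _).trans (le_ext _ _)
  refine ⟨xM, fpf_of_inv h.pM fun k hk k2 kx => ?_, fun y hy ny => ⟨a1, a1M, ?_⟩, _, el, AM, cA⟩
  · rcases l.loc.tri.sec (h.r4.mono l.le) bot_le AR (h.norm_om el AM cA xM) (nbot _) el.sq
      ⟨z, UA l.zU, fun c => z1 (l.fpf l.zU (cmb.1 c))⟩ with ⟨c, -⟩ | ⟨-, -, c⟩
    · rw [sup_bot_eq, card_bot, mul_one] at c
      have := (comm_mem_supp (x := x₁) (le_ext _ a1 (self_mem_ext (closure {z, u}) a))).1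
      rw [← eq_of_le_of_card_ge (l.U_supp UA) (by rw [c, l.el.card]), commutatorElement_def, e1, inv_of_sq h.r.u2,
        ← k01] at this
      exact (o1 this).elim
    · exact c k (h.om el AM cA hk k2) (cmb.2 kx)
  · exact ((c1 y hy).resolve_left fun c => ny ((ker y hy).2 c.1)).2

/-- The third alternative. -/
theorem alt3 : (El 16 M ∧ supp R₁ x₁ = M ∧ supp R₂ x₂ = M ∧ Cz (x₁ ^ 3) R₁ ∧ Cz (x₂ ^ 3) R₂ ∧
      ∀ t ∈ R₂, t ∉ R₁ → ∀ y ∈ R₁, y ∉ R₂ → ∃ v ∈ M, ⁅t, ⁅y, v⁆⁆ ≠ 1) ∧ Fr P R₁ R₂ M := by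
  obtain ⟨n₁, f₁, hv, A, el, AM, cA⟩ := h.b1_core e
  obtain ⟨n₂, f₂, -⟩ := h.symm.b1_core (h.a_of_u e)
  obtain rfl : M = A := le_antisymm (h.le_of_fpf el AM cA n₁ n₂ f₁ f₂) AM
  refine ⟨⟨el, le_antisymm (h.suppM n₁) ((le_supp (h.l.od.mono h.M1 n₁) f₁).trans (supp_mono h.M1)),
    le_antisymm (h.symm.suppM n₂) ((le_supp (h.r.od.mono h.M2 n₂) f₂).trans (supp_mono h.M2)), h.l.cube, h.r.cube,
    fun t ht nt y hy ny => ?_⟩, fun t ht t1 _ k hk c => ?_⟩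
  · obtain ⟨v, hv, e'⟩ := hv y hy ny
    exact ⟨v, hv, by rw [e', h.l.cmu (h.r.le ht) nt]; exact h.l.z1⟩
  · obtain ⟨v, hv, e'⟩ := free3 (L := ⊥) bot_le el.sq n₁ (nbot _) (h.nM ht) (fun k hk e => f₁ k hk (cmb.1 e))
      (fun k hk => h.l.cube k (h.M1 hk)) (fun k hk => inv_mod h.l.loc ht t1 (h.M1 hk) fun c hc =>
        cmb.2 (cA k hk c (h.suppM n₁ hc)).symm) k hk (cmb.2 c)
    exact ⟨v, hv, inv_mul_eq_one.1 e'⟩

end Pr

end Cfsg.Agent.GH3.UPL
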