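import Mathlib
import Cfsg.Agent.KB.GrpTwo

/-! Automorphisms of elementary abelian 2-groups: order seven, and two planes. -/

set_option autoImplicit false
set_option linter.unusedSectionVars false

namespace Cfsg.Agent.GH3.Gam

open Subgroup Cfsg.Agent.KB Cfsg.Agent.KB.AF

theorem mem_of_pow {X : Type*} [Group X] {H : Subgroup X} {w : X} {a n : ℕ} (h : w ^ a ∈ H)
    (hn : w ^ n = 1) (c : a.Coprime n) : w ∈ H :=
  zpowers_le.2 h (mem_zpowers_pow_iff.2 (c.coprime_dvd_right (orderOf_dvd_of_pow_eq_one hn)))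

variable {V : Type*} [CommGroup V] [Finite V]

/-- No involution normalises an automorphism of order seven. -/
theorem seven (h2 : ∀ x : V, x * x = 1) (h16 : Nat.card V ≤ 16) {σ t : MulAut V}
    (hσ : orderOf σ = 7) (ht : t * t = 1) (h : t * σ * t⁻¹ = σ ∨ t * σ * t⁻¹ = σ⁻¹) : t = 1 := by
  classical
  have hV : IsPGroup 2 V := fun x => ⟨1, by rw [pow_one, pow_two, h2]⟩
  have s7 : σ ^ 7 = 1 := hσ ▸ pow_orderOf_eq_one σ
  have i16 : (fx σ).index ≤ 16 := (Nat.le_of_dvd Nat.card_pos (fx σ).index_dvd_card).trans h16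
  have i8 := G2.index_fx_seven hV hσ i16
  have cF := (fx σ).card_mul_index
  rw [i8] at cF
  have tt : ∀ y, t (t y) = y := fun y => congrArg (fun f : MulAut V => f y) ht
  have ts : ∀ y, t (σ y) = σ (t y) ∨ σ (t (σ y)) = t y := fun y => h.imp
    (fun e => by simpa using congrArg (fun f : MulAut V => f (t y)) e)
    fun e => by simpa using congrArg (fun f : MulAut V => σ (f (t y))) e
  have FA : fx σ ≤ fx t := fun y hy => by
    have hy' : σ y = y := hy
    have m : t y ∈ fx σ := (ts y).elim (fun e => by rw [hy'] at e; exact e.symm)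
      fun e => by rwa [hy'] at e
    by_contra c
    have n1 : y ≠ 1 := fun e => c (e ▸ one_mem _)
    have : ({1, y, t y} : Finset V).card ≤ Nat.card (fx σ) := by
      rw [← Set.ncard_coe_finset]
      exact Set.ncard_le_ncard (s := _) (t := (fx σ : Set V)) (by
        simp only [Finset.coe_insert, Finset.coe_singleton, Set.insert_subset_iff,
          Set.singleton_subset_iff]
        exact ⟨one_mem _, hy, m⟩)
    rw [Finset.card_eq_three.2 ⟨_, _, _, n1.symm, fun e => n1 (t.injective (by rw [← e, map_one])),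
      fun e => c e.symm, rfl⟩] at this
    omega
  have nAF : ¬ fx t ≤ fx σ := fun l => by
    let δ : V →* V := (MonoidHom.id V) * t.toMonoidHom
    have k : δ.ker = fx t := by
      ext y
      change y * t y = 1 ↔ t y = y
      rw [mul_eq_one_iff_inv_eq, inv_eq_of_mul_eq_one_right (h2 y), eq_comm]
    have r : δ.range ≤ fx t := by
      rintro _ ⟨y, rfl⟩
      change t (y * t y) = y * t y
      rw [map_mul, tt, mul_comm]
    have c1 := card_le_of_le (r.trans l)
    have c2 := card_le_of_le l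
    have c3 := δ.ker.card_mul_index
    rw [index_ker, k] at c3
    have c4 : 0 < Nat.card (fx σ) := Nat.card_pos
    have c5 : Nat.card (fx σ) ≤ 2 := by omega
    nlinarith [Nat.mul_le_mul c1 c2]
  have iA := relIndex_mul_index FA
  rw [i8] at iA
  rcases h with h | h
  · have inv : ∀ y ∈ fx t, σ y ∈ fx t := fun y hy => by
      have : t (σ y) = σ (t y) := by simpa using congrArg (fun f : MulAut V => f (t y)) h
      rwa [show t y = y from hy] at this
    have := (G2.rel_seven hV s7 i16 inv).resolve_left nAF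
    rw [this] at iA
    exact fx_eq_top.1 (index_eq_one.1 (by omega))
  · exfalso
    have ts' : ∀ y, σ (t (σ y)) = t y := fun y => by
      simpa using congrArg (fun f : MulAut V => σ (f (t y))) h
    have fixp : ∀ {y : V} {a : ℕ}, a.Coprime 7 → (σ ^ a) y = y → y ∈ fx σ := fun {y a} c e =>
      mem_of_pow (H := MulAction.stabilizer (MulAut V) y) e s7 c
    have modF : ∀ {y : V} {a : ℕ}, a.Coprime 7 → (σ ^ a) y * y ∈ fx σ → y ∈ fx σ := by
      intro y a c e
      refine fixp (a := a + a) (by rw [← two_mul]; exact Nat.Coprime.mul_left (by norm_num) c) ?_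
      have e' : (σ ^ a) ((σ ^ a) y * y) = (σ ^ a) y * y :=
        pow_mem (show σ ∈ MulAction.stabilizer (MulAut V) _ from e) a
      rw [map_mul, mul_comm] at e'
      rw [pow_add]
      exact mul_left_cancel e'
    have l : fx t ⊓ (fx t).comap σ.toMonoidHom ≤ fx σ := fun y hy => by
      have a : t y = y := hy.1
      have b : t (σ y) = σ y := hy.2
      exact fixp (a := 2) (by norm_num) (by simpa [pow_two, a, b] using ts' y)
    have i1 := (index_antitone l).trans index_inf_le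
    rw [i8, index_comap_of_surjective _ σ.surjective] at i1
    have i2 : (fx σ).relIndex (fx t) = 2 := by
      have : (fx σ).relIndex (fx t) ≠ 1 := fun e => nAF (relIndex_eq_one.1 e)
      have d : (fx σ).relIndex (fx t) ∣ 2 ^ 3 := Dvd.intro _ iA
      obtain ⟨k, hk, e⟩ := (Nat.dvd_prime_pow Nat.prime_two).1 d
      rw [e] at iA this ⊢
      interval_cases k <;> first | rfl | omega | nlinarith
    obtain ⟨m, mA, mF⟩ := SetLike.not_le_iff_exists.1 nAF
    have hm : t m = m := mA
    have yA : σ m * σ⁻¹ m ∈ fx t := by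
      have a : t (σ m) = σ⁻¹ m := by
        rw [MulAut.inv_def, eq_comm, MulEquiv.symm_apply_eq, ts', hm]
      change t _ = _
      rw [map_mul, a, ← a, tt, mul_comm]
    have up : ∀ {y}, y ∈ fx σ → σ y ∈ fx σ := fun {y} hy => by rwa [show σ y = y from hy]
    by_cases c : σ m * σ⁻¹ m ∈ fx σ
    · refine mF (modF (a := 2) (by norm_num) ?_)
      simpa [pow_two] using up c
    · have := (mul_mem_iff_of_index_two (H := (fx σ).subgroupOf (fx t)) i2
        (a := ⟨_, yA⟩) (b := ⟨m, mA⟩)).2 (iff_of_false c mF)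
      have a := up (show σ m * σ⁻¹ m * m ∈ fx σ from this)
      have b := mul_mem (up a) a
      refine mF (modF (a := 3) (by norm_num) ?_)
      simp only [map_mul, MulAut.apply_inv_self] at b
      have e : σ (σ (σ m)) * σ m * σ (σ m) * (σ (σ m) * m * σ m) =
          σ (σ (σ m)) * m * ((σ m * σ m) * (σ (σ m) * σ (σ m))) := by ac_rfl
      rw [e, h2, h2, mul_one, mul_one] at b
      simpa [pow_succ] using b

/-- `x` or `1` -/
def pw (x : V) (b : Bool) : V := cond b x 1

theorem pw_xor (h2 : ∀ x : V, x * x = 1) (x : V) (a b : Bool) :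
    pw x (xor a b) = pw x a * pw x b := by
  cases a <;> cases b <;> simp [pw, h2]

theorem map_pw (f : MulAut V) (x : V) (b : Bool) : f (pw x b) = pw (f x) b := by
  cases b <;> simp [pw]

theorem pw_mul (x y : V) (b : Bool) : pw (x * y) b = pw x b * pw y b := by
  cases b <;> simp [pw]

theorem pw_pw (x : V) (a b : Bool) : pw (pw x a) b = pw x (a && b) := by
  cases a <;> cases b <;> simp [pw]

/-- the first map on coordinates -/
def mU (a b : Bool) (p : Bool × Bool × Bool) : Bool × Bool × Bool :=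
  (xor p.2.1 (a && p.2.2), xor (xor p.1 p.2.1) (b && p.2.2), p.2.2)

/-- the second map on coordinates -/
def mW (a b : Bool) (p : Bool × Bool × Bool) : Bool × Bool × Bool :=
  (xor p.2.2 (a && p.2.1), p.2.1, xor (xor p.1 p.2.2) (b && p.2.1))

theorem model : ∀ a b c d : Bool, (∀ p, (mU a b ∘ mW c d)^[28] p = p) ∨
    ∀ p, (mU a b ∘ mW c d ∘ mW c d)^[28] p = p := by decide +kernel

/-- The plane `[V, U]`. -/
theorem plane (h2 : ∀ x : V, x * x = 1) {U : MulAut V} (u3 : U ^ 3 = 1) {A : Subgroup V}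
    (hA : ∀ a, a ∈ A ↔ ∃ y, a = y⁻¹ * U y) (cA : Nat.card A = 4) {e : V} (he : e ∈ A)
    (e1 : e ≠ 1) : U (U e) = e * U e ∧ ∀ a ∈ A, ∃ i j, a = pw e i * pw (U e) j := by
  classical
  have inv : ∀ x : V, x⁻¹ = x := fun x => inv_eq_of_mul_eq_one_right (h2 x)
  have k : U (U e) = e * U e := by
    obtain ⟨y, rfl⟩ := (hA e).1 he
    have : U (U (U y)) = y := by simpa [pow_succ] using congrArg (fun f : MulAut V => f y) u3
    simp only [inv, map_mul, this]
    rw [show y * U y * (U y * U (U y)) = U (U y) * y * (U y * U y) by ac_rfl, h2, mul_one]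
  have m : U e ∈ A := by
    have := mul_mem he ((hA _).2 ⟨e, rfl⟩)
    rwa [mul_inv_cancel_left] at this
  have n1 : U e ≠ 1 := fun c => e1 (U.injective (c.trans (map_one U).symm))
  have n2 : e ≠ U e := fun c => e1 (by rw [← c, ← c, h2] at k; exact k)
  refine ⟨k, fun a ha => ?_⟩
  have s : ((({1, e, U e, e * U e} : Finset V) : Set V)) = A := by
    refine Set.eq_of_subset_of_ncard_le ?_ ?_
    · simp only [Finset.coe_insert, Finset.coe_singleton, Set.insert_subset_iff,
        Set.singleton_subset_iff]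
      exact ⟨one_mem _, he, m, mul_mem he m⟩
    · rw [Set.ncard_coe_finset, Finset.card_eq_four.2 ⟨_, _, _, _, e1.symm, n1.symm,
        fun c => n2 ((inv e).symm.trans (inv_eq_of_mul_eq_one_right c.symm)), n2,
        fun c => n1 (left_eq_mul.1 c), fun c => e1 (right_eq_mul.1 c), rfl⟩]
      exact cA.le
  have : a ∈ (({1, e, U e, e * U e} : Finset V) : Set V) := s ▸ ha
  simp only [Finset.coe_insert, Finset.coe_singleton, Set.mem_insert_iff,
    Set.mem_singleton_iff] at this
  rcases this with rfl | rfl | rfl | rfl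
  exacts [⟨false, false, by simp [pw]⟩, ⟨true, false, by simp [pw]⟩, ⟨false, true, by simp [pw]⟩,
    ⟨true, true, rfl⟩]

/-- Two planes that meet. -/
theorem planes (h2 : ∀ x : V, x * x = 1) {U W : MulAut V} (u3 : U ^ 3 = 1) (w3 : W ^ 3 = 1)
    {A B : Subgroup V} (hA : ∀ a, a ∈ A ↔ ∃ y, a = y⁻¹ * U y) (hB : ∀ a, a ∈ B ↔ ∃ y, a = y⁻¹ * W y)
    (cA : Nat.card A = 4) (cB : Nat.card B = 4) {e : V} (eA : e ∈ A) (eB : e ∈ B) (e1 : e ≠ 1)
    {n m : ℕ} (hn : Nat.Coprime 28 n) (hm : Nat.Coprime 28 m) (en : (U * W) ^ n = 1)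
    (em : (U * W⁻¹) ^ m = 1) : U * W = 1 ∨ U * W⁻¹ = 1 := by
  obtain ⟨kU, gA⟩ := plane h2 u3 hA cA eA e1
  obtain ⟨kW, gB⟩ := plane h2 w3 hB cB eB e1
  obtain ⟨a, b, e3⟩ := gA _ ((hA _).2 ⟨W e, rfl⟩)
  obtain ⟨c, d, e2⟩ := gB _ ((hB _).2 ⟨U e, rfl⟩)
  rw [inv_mul_eq_iff_eq_mul] at e2 e3
  let φ : Bool × Bool × Bool → V := fun p => pw e p.1 * pw (U e) p.2.1 * pw (W e) p.2.2
  have sU : ∀ p, U (φ p) = φ (mU a b p) := fun p => by
    simp only [φ, mU, map_mul, map_pw, kU, e3, pw_mul, pw_pw, pw_xor h2]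
    ac_rfl
  have sW : ∀ p, W (φ p) = φ (mW c d p) := fun p => by
    simp only [φ, mW, map_mul, map_pw, kW, e2, pw_mul, pw_pw, pw_xor h2]
    ac_rfl
  have fin : ∀ (X : MulAut V) (f : Bool × Bool × Bool → Bool × Bool × Bool) (k : ℕ),
      (∀ y, y⁻¹ * X y ∈ B) → (∀ p, (U * X) (φ p) = φ (f p)) → (∀ p, f^[28] p = p) →
      Nat.Coprime 28 k → (U * X) ^ k = 1 → U * X = 1 := fun X f k hX s r ck ek => by
    have it : ∀ j p, ((U * X) ^ j) (φ p) = φ (f^[j] p) := fun j => by
      induction j with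
      | zero => intro p; rfl
      | succ j ih => intro p; rw [pow_succ, MulAut.mul_apply, s, ih]; rfl
    have fx0 : ∀ p, φ p ∈ fx (U * X) := fun p =>
      mem_of_pow (H := MulAction.stabilizer (MulAut V) (φ p)) ((it 28 p).trans (congrArg φ (r p)))
        ek ck
    have l : A ⊔ B ≤ fx (U * X) := sup_le
      (fun y hy => by
        obtain ⟨i, j, rfl⟩ := gA y hy
        simpa [φ, pw] using fx0 (i, j, false))
      fun y hy => by
        obtain ⟨i, j, rfl⟩ := gB y hy
        simpa [φ, pw] using fx0 (i, false, j)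
    refine mem_bot.1 (mem_of_pow (a := 2) (mem_bot.2 (MulEquiv.ext fun y => ?_)) ek
      (Nat.Coprime.coprime_dvd_left (by norm_num) ck))
    have : y⁻¹ * (U * X) y ∈ A ⊔ B := by
      have := mul_mem (mem_sup_right (S := A) (hX y)) (mem_sup_left ((hA _).2 ⟨X y, rfl⟩))
      simpa [mul_assoc] using this
    have f1 : (U * X) (y⁻¹ * (U * X) y) = y⁻¹ * (U * X) y := l this
    rw [map_mul, map_inv, inv_mul_eq_iff_eq_mul, mul_left_comm, h2, mul_one,
      inv_eq_of_mul_eq_one_right (h2 y)] at f1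
    rw [pow_two]
    exact f1
  have wi : W⁻¹ = W * W := inv_eq_of_mul_eq_one_right (by rw [← w3, pow_three])
  refine (model a b c d).imp (fun r => fin W _ n (fun y => (hB _).2 ⟨y, rfl⟩)
    (fun p => by rw [MulAut.mul_apply, sW, sU]; rfl) r hn en)
    fun r => fin W⁻¹ _ m (fun y => ?_) (fun p => by
      rw [wi, MulAut.mul_apply, MulAut.mul_apply, sW, sW, sU]; rfl) r hm em
  simpa using inv_mem ((hB _).2 ⟨W⁻¹ y, rfl⟩)

/-- An element of order seven that is centralised or inverted. -/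
theorem exists_seven {X : Type*} [Group X] [Finite X] {P : Subgroup X} (hP : IsPGroup 7 P)
    (h1 : P ≠ ⊥) {t : X} (ht : t * t = 1) (hn : t ∈ normalizer (P : Set X)) :
    ∃ g ∈ P, orderOf g = 7 ∧ (t * g * t⁻¹ = g ∨ t * g * t⁻¹ = g⁻¹) := by
  haveI : Fact (Nat.Prime 7) := ⟨by norm_num⟩
  obtain ⟨h, hh, n1, e⟩ : ∃ h ∈ P, h ≠ 1 ∧ (t * h * t⁻¹ = h ∨ t * h * t⁻¹ = h⁻¹) := by
    obtain ⟨⟨y, hy⟩, y1⟩ := ne_bot_iff_exists_ne_one.1 h1
    by_cases c : t * y * t⁻¹ = y
    · exact ⟨y, hy, fun e => y1 (Subtype.ext e), .inl c⟩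
    · refine ⟨y⁻¹ * (t * y * t⁻¹), mul_mem (inv_mem hy) ((mem_normalizer_iff.1 hn y).1 hy),
        fun e => c (inv_mul_eq_one.1 e).symm, .inr ?_⟩
      calc _ = t * y⁻¹ * (t * t) * t⁻¹ * y * (t * t)⁻¹ := by group
        _ = _ := by rw [ht]; group
  obtain ⟨k, hk⟩ := IsPGroup.iff_orderOf.1 hP ⟨h, hh⟩
  rw [orderOf_mk] at hk
  have d : 7 ∣ orderOf h := by
    rcases k with _ | k
    · exact absurd (orderOf_eq_one_iff.1 hk) n1
    · exact hk ▸ dvd_pow_self 7 k.succ_ne_zero
  refine ⟨h ^ (orderOf h / 7), pow_mem hh _, orderOf_pow_orderOf_div (orderOf_pos h).ne' d, ?_⟩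
  rw [← conj_pow]
  exact e.imp (fun e => by rw [e]) fun e => by rw [e, inv_pow]

end Cfsg.Agent.GH3.Gam
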