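import Mathlib
import Cfsg.Agent.GH3.E3b
import Cfsg.Agent.GH3.E3c
import Cfsg.Agent.GH3.Gam

/-! The free configuration of section E3 in coordinates. -/

set_option autoImplicit false
set_option linter.unusedSectionVars false

namespace Cfsg.Agent.GH3.E3

open Cfsg.Agent.Inv.Fz Cfsg.Agent.NE Subgroup
open scoped commutatorElement

variable {G : Type*} [Group G] [Finite G] {S R T N H : Subgroup G} {x s y t g a b : G} {π : G → W} {φ ψ α : W → W}

theorem ac_cz (h : Cz g T) : Ac T π g fun u => u := ⟨norm_of_cz h, fun a ha => by rw [conj_eq_of_comm (h a ha)]⟩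

theorem Co.ac_of (c : Co T N π) (k : Ac T π g φ) (e : ∀ u, φ (φ u) = u) (h : g * a ∈ T) : Ac T π a φ := by
  simpa using (k.inv e).mul (c.ac_in h)

theorem Co.conj_mem_sup (c : Co T N π) (k : Ac T π g α) (k1 : Ac T π a φ) (k2 : Ac T π b ψ)
    (e : ∀ u, α (φ u) = ψ (α u)) (hb : b ∈ H) : g * a * g⁻¹ ∈ H ⊔ c.kr := by
  have := (conj_mem_norm (c.norm_kr k)).2 (c.mem_kr_of (k2.mul k) ((k.mul k1).congr e))
  convert mul_mem (mem_sup_left hb : b ∈ H ⊔ c.kr) (mem_sup_right this) using 1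
  group

theorem τ1τ1 (u : W) : τ1 (τ1 u) = u := rfl
theorem τ2τ2 (u : W) : τ2 (τ2 u) = u := rfl
theorem σσ (u : W) : σ (σ u) = u := rfl
theorem ησ : ∀ v u : W, η v (σ u) = σ (η v u) := by decide +kernel

/-- The action on `T / Φ(T)` in coordinates. -/
structure Fr (R : Subgroup G) (x y t : G) (π : G → W) (w w' v : W) : Prop where
  co : Co (supp R x) (phi (supp R x)) π
  k1 : Ac (supp R x) π (y * t * y⁻¹) τ1
  k2 : Ac (supp R x) π t τ2
  kx : Ac (supp R x) π x (ξ w w')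
  ky : Ac (supp R x) π y (η v)
  f1 : ξ w w' w' = e0
  f2 : ∀ u, ξ w w' u = u → u = 1
  f3 : ∀ u, ξ w w' (ξ w w' (ξ w w' u)) = u
  f4 : ∀ u, η v (η v u) = u

namespace Cf
variable (h : Cf S R x s y t) (hS : IsPGroup 2 S) (h4 : Rk 16 S)
include h

theorem TR : supp R x ≤ R := supp_le h.t2.tri.xn
theorem RP : R ≤ S ⊓ normalizer (R : Set G) := le_inf h.t2.crit.le le_normalizer
theorem tR' : t ∈ R := (mem_fix.1 h.tR).1
theorem memT : a ∈ supp R x ↔ a ∈ R ∧ a ∈ cj y R := by rw [h.eq]; rfl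
theorem yT : y ∈ normalizer (supp R x : Set G) := by
  rw [← cj_eq_iff, h.eq, cj_inf, cj_cj, cj_eq_of_mem h.yy, inf_comm]
theorem yyT : y * y ∈ supp R x := h.memT.2 ⟨h.yy, mem_cj.2 (by simpa [mul_assoc] using h.yy)⟩
theorem yR : y ∉ normalizer (R : Set G) := fun k => h.tn (by rw [cj_eq_iff.2 k]; exact h.tR')
theorem t1P : y * t * y⁻¹ ∈ S ⊓ normalizer (R : Set G) := (conj_mem_norm h.yP).2 (h.RP h.tR')
theorem t1R : y * t * y⁻¹ ∉ R := fun k => h.tn (mem_cj_of (le_normalizer h.yy) k)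
theorem pT : IsPGroup 2 (supp R x) := h.t2.tri.two.to_le h.TR
theorem derT : ⁅supp R x, supp R x⁆ ≤ phi (supp R x) := commutator_le.2 fun _ ha _ hb => comm_mem_phi ha hb
theorem tT : t ∉ supp R x := fun k => h.tn (h.memT.1 k).2

include hS h4

theorem ix₂ : Ix (S ⊓ normalizer (R : Set G)) (cj y R) (y * s * y⁻¹) := (loc_cj (h.t2.loc hS h4) h.yP).ix

theorem n₂ : S ⊓ normalizer (R : Set G) ≤ normalizer (cj y R : Set G) :=
  (h.ix₂ hS h4).norm (loc_cj (h.t2.loc hS h4) h.yP).le (loc_cj (h.t2.loc hS h4) h.yP).mem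

theorem ixR : Ix R (supp R x) t := fun r hr => (em (r ∈ cj y R)).imp (fun k => h.memT.2 ⟨hr, k⟩) fun k =>
  h.memT.2 ⟨mul_mem h.tR' hr, (h.ix₂ hS h4).mul_mem (h.RP h.tR') (h.RP hr) h.tn k⟩

theorem memR (r : G) : r ∈ R ↔ r ∈ supp R x ∨ t * r ∈ supp R x :=
  ⟨h.ixR hS h4 r, fun k => k.elim (fun e => h.TR e) fun e => by simpa using mul_mem (inv_mem h.tR') (h.TR e)⟩

theorem ttT : t * t ∈ supp R x := ((h.memR hS h4 t).1 h.tR').resolve_left h.tT

theorem ttN : t * t ∈ phi (supp R x) := h.derT (h.t2.tri.od.fix_le_comm ⟨h.ttT hS h4, mul_mem h.tR h.tR⟩)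

theorem exists_fr : ∃ π w w' v, Fr R x y t π w w' v := by
  obtain ⟨π₀, c₀⟩ := exists_co (phi_le (R := supp R x)) (fun _ => mem_phi) h.card
  have tn : t ∈ normalizer (supp R x : Set G) := le_norm_supp h.tR'
  have t1n : y * t * y⁻¹ ∈ normalizer (supp R x : Set G) := mul_mem (mul_mem h.yT tn) (inv_mem h.yT)
  obtain ⟨f, kf⟩ := c₀.exists_ac t1n (norm_phi t1n)
  obtain ⟨g, kg⟩ := c₀.exists_ac tn (norm_phi tn)
  have cm : ⁅y * t * y⁻¹, t⁆ ∈ supp R x := h.memT.2 ⟨mul_mem ((conj_mem_norm h.t1P.2).2 h.tR') (inv_mem h.tR'), by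
    have := mul_mem (conj_mem_cj.2 h.tR') ((conj_mem_norm (h.n₂ hS h4 (h.RP h.tR'))).2 (inv_mem (conj_mem_cj.2 h.tR')))
    convert this using 1
    simp only [commutatorElement_def]; group⟩
  obtain ⟨v₀, hv, fv⟩ := h.free
  obtain ⟨κ, hκ⟩ := rebase (c₀.hom kf) (c₀.hom kg)
    (c₀.uniq (kf.mul kf) (c₀.ac_in (by rw [← conj_mul']; exact (conj_mem_norm h.yT).2 (h.ttT hS h4))))
    (c₀.uniq (kg.mul kg) (c₀.ac_in (h.ttT hS h4)))
    (c₀.uniq ((c₀.ac_in cm).mul (kg.mul kf)) (by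
      convert kf.mul kg using 1
      simp only [commutatorElement_def]; group)) (p := π₀ v₀) fun e => fv (by
      have h1 := c₀.comm kg hv
      rw [c₀.comm_iff kf h1.1, h1.2, c₀.hom kf]
      have k : ∀ a b c d : W, a * (b * (c * d)) = 1 → d * b = c * a := by decide +kernel
      exact k _ _ _ _ e)
  have c := c₀.rebase κ
  have k1 := kf.rebase κ fun u => (hκ u).1
  have k2 := kg.rebase κ fun u => (hκ u).2
  generalize (fun a => κ.symm (π₀ a)) = π at c k1 k2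
  have xn : x ∈ normalizer (supp R x : Set G) := mem_norm_supp
  obtain ⟨φ, kx⟩ := c.exists_ac xn (norm_phi xn)
  obtain ⟨ψ, kx'⟩ := c.exists_ac (inv_mem xn) (norm_phi (inv_mem xn))
  obtain ⟨θ, ks⟩ := c.exists_ac h.t2.tri.s_supp (norm_phi h.t2.tri.s_supp)
  obtain ⟨ε, ky⟩ := c.exists_ac h.yT (norm_phi h.yT)
  have xt := (mem_fix.1 h.tR).2
  have a2 : ∀ u, φ (τ2 u) = τ2 (φ u) := c.uniq (kx.mul k2) (xt ▸ k2.mul kx)
  have a3 : ∀ u, ψ (τ2 u) = τ2 (ψ u) := c.uniq (kx'.mul k2) ((Commute.inv_left xt).eq ▸ k2.mul kx')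
  have a4 : ∀ u, θ (φ u) = ψ (θ u) := fun u => by
    obtain ⟨a, ha, rfl⟩ := c.surj u
    rw [← kx.2 a ha, ← ks.2 _ (kx.mem ha), h.t2.tri.conj_conj (h.TR ha), ← ks.2 a ha, ← kx'.2 _ (ks.mem ha), inv_inv]
  have a1 : ∀ u, φ (τ1 u) = τ1 (ψ u) := fun u => by
    rcases (h.memR hS h4 _).1 ((h.t2.two _ h.t1P).resolve_left h.t1R) with e | e
    · have e1 : ∀ u, θ u = τ1 u := fun u => c.uniq (ks.mul k1) (c.ac_in e) (τ1 u)
      have := a4 (τ1 u)
      rw [e1, e1] at this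
      exact congrArg τ1 this
    · have e1 : ∀ u, θ u = τ2 (τ1 u) := fun u => c.uniq (ks.mul k1) (c.ac_of k2 τ2τ2 e) (τ1 u)
      have := a4 (τ1 u)
      rw [e1, e1, a3] at this
      exact congrArg (fun u => τ1 (τ2 u)) this
  have b0 : ∀ u, ε (ε u) = u := c.uniq (ky.mul ky) (c.ac_in h.yyT)
  have b2 : ∀ u, ε (τ2 u) = τ1 (ε u) := c.uniq (ky.mul k2) (by simpa using k1.mul ky)
  have b1 : ∀ u, ε (τ1 u) = τ2 (ε u) := fun u => by rw [← b0 (τ2 _), b2, b0]
  have ex := eq_ξ (c.hom kx) a1 a2 a3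
  have ey := eq_η (c.hom ky) b1 b2
  refine ⟨π, φ e0, ψ e0, ε e0, c, k1, k2, kx.congr ex, ky.congr ey, ?_, fun u e => ?_, fun u => ?_, fun u => ?_⟩
  · rw [← ex]; exact c.uniq (kx.mul kx') (by simpa using c.ac_in (one_mem _)) e0
  · obtain ⟨a, ha, rfl⟩ := c.surj u
    obtain ⟨d, hd, k⟩ := (h.t2.tri.od.mono h.TR xn).lift phi_le (norm_phi xn) ha (norm_phi (le_normalizer ha))
      ((c.comm_iff kx ha).2 ((ex _).trans e))
    have := h.derT (h.t2.tri.od.fix_le_comm ⟨(mem_fix.1 hd).1, mem_fix.2 ⟨h.TR (mem_fix.1 hd).1, (mem_fix.1 hd).2⟩⟩)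
    exact (c.ker a ha).2 (by simpa using inv_mem (mul_mem k (inv_mem this)))
  · simp only [← ex]
    exact c.uniq (kx.mul (kx.mul kx)) (by
      rw [← pow_three]; exact ac_cz fun r hr => h.cube r (h.TR hr)) u
  · simp only [← ey, b0]

variable {w w' v : W} (F : Fr R x y t π w w' v)
include F

theorem card_der : Nat.card (⁅R, R⁆ : Subgroup G) = Nat.card (phi (supp R x)) * 4 := by
  rw [F.co.der F.k2 (h.ttT hS h4) h.der (h.memR hS h4), cnt_τ2]

theorem phiR : phi R = ⁅R, R⁆ := by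
  refine le_antisymm (phi_le_iff.2 fun r hr => ?_) (commutator_le.2 fun _ ha _ hb => comm_mem_phi ha hb)
  have k : phi (supp R x) ≤ ⁅R, R⁆ := h.der.trans (commutator_mono h.TR h.TR)
  rcases h.ixR hS h4 r hr with e | e
  · exact k (mem_phi e)
  · have := mul_mem (mul_mem (inv_mem (k (h.ttN hS h4))) (commutator_mem_commutator h.tR' (h.TR e))) (k (mem_phi e))
    convert this using 1
    simp only [commutatorElement_def]; group

theorem norm_le (hs : IsSylIn 2 S ⊤) : normalizer (R : Set G) ≤ normalizer (supp R x : Set G) := fun n hn => by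
  have e1 : supp R (n * x * n⁻¹) = cj n (supp R x) := by rw [cj_supp, cj_eq_iff.2 hn]
  have e2 : phi R ≤ supp R x := phi_le_iff.2 fun r hr => (em (r ∈ supp R x)).elim (fun k => mul_mem k k)
    fun k => (h.ixR hS h4).mul_mem hr hr k k
  have e3 : phi R ≤ cj n (supp R x) := by rw [← cj_eq_iff.2 (norm_phi hn)]; exact cj_mono e2
  have c1 : Nat.card (supp R x) = 4 * Nat.card (phi R) := by
    rw [h.phiR hS h4 F, h.card_der hS h4 F, h.card]; ring
  have p1 : 0 < Nat.card (phi R) := Nat.card_pos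
  rw [← cj_eq_iff, ← e1]
  refine (h.t2.gam_supp hs (h4.mono h.t2.crit.le) h.t2.tri.xn (mul_mem (mul_mem hn h.t2.tri.xn) (inv_mem hn)) h.cube
    (fun r hr => ?_) (by rw [sup_eq_left.2 e2, c1]) (by rw [e1, sup_eq_left.2 e3, card_cj, c1]) fun k => ?_).symm
  · rw [conj_pow]
    simpa [mul_assoc] using conj_comm n (h.cube _ ((conj_mem_norm (inv_mem hn)).2 hr))
  rw [e1, sup_eq_left.2 e2, sup_eq_left.2 e3] at k
  have c2 := card_le_of_le k
  by_cases e : supp R x ≤ cj n (supp R x)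
  · rw [inf_eq_left.2 e] at c2; omega
  obtain ⟨a, ha, an⟩ := SetLike.not_le_iff_exists.1 e
  have m : ∀ b ∈ supp R x, n⁻¹ * b * n ∈ R := fun b hb => by simpa using (conj_mem_norm (inv_mem hn)).2 (h.TR hb)
  have := Ix.card (S := supp R x) (K := supp R x ⊓ cj n (supp R x)) (s := a) (fun b hb =>
    (em (b ∈ cj n (supp R x))).imp (fun k => ⟨hb, k⟩) fun k => ⟨mul_mem ha hb, mem_cj.2 (by
      simpa [mul_assoc] using (h.ixR hS h4).mul_mem (m a ha) (m b hb) (fun e => an (mem_cj.2 e))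
        fun e => k (mem_cj.2 e))⟩) inf_le_left ha fun e => an e.2
  omega

theorem PK (hp : g ∈ S ⊓ normalizer (R : Set G)) (hk : g ∈ F.co.kr) : g ∈ supp R x := by
  have k := F.co.mem_kr.1 hk
  by_cases e : g ∈ R
  · exact (h.ixR hS h4 g e).elim id fun e => absurd (F.co.uniq (F.k2.mul k) (F.co.ac_in e) e0) (by decide)
  · rcases h.ixR hS h4 _ (h.t2.two.mul_mem h.t1P hp h.t1R e) with e | e
    · exact absurd (F.co.uniq (F.k1.mul k) (F.co.ac_in e) e0) (by decide)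
    · exact absurd (F.co.uniq (F.k2.mul (F.k1.mul k)) (F.co.ac_in e) e0) (by decide)

theorem syl (hs : IsSylIn 2 S ⊤) : IsSylIn 2 (supp R x) F.co.kr := by
  have nk : ∀ n ∈ normalizer (R : Set G), n ∈ normalizer (F.co.kr : Set G) := fun n hn => by
    obtain ⟨φ, k⟩ := F.co.exists_ac (h.norm_le hS h4 F hs hn) (norm_phi (h.norm_le hS h4 F hs hn))
    exact F.co.norm_kr k
  have Rk : R ≤ normalizer (F.co.kr : Set G) := fun r hr => nk r (le_normalizer hr)
  have s1 : IsSylIn 2 R (R ⊔ F.co.kr) := ⟨le_sup_left, h.t2.tri.two, fun Q hQ h1 h2 => by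
    by_contra ne
    obtain ⟨q, hq, q1⟩ := SetLike.exists_of_lt (lt_inf_normalizer hQ (lt_of_le_of_ne h2 (Ne.symm ne)))
    obtain ⟨r, hr, k, hk, rfl⟩ := (mem_sup_iff_of_le_normalizer Rk).1 (h1 hq.1)
    obtain ⟨n, hn, e⟩ := h.t2.crit.syl.exists_cj_le (hQ.to_inf_left (K := normalizer (R : Set G))) inf_le_right
    have kq : k ∈ Q ⊓ normalizer (R : Set G) := by
      simpa using mul_mem (inv_mem (⟨h2 hr, le_normalizer hr⟩ : r ∈ Q ⊓ normalizer (R : Set G))) hq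
    exact q1 (mul_mem hr ((conj_mem_norm hn).1
      (h.TR (h.PK hS h4 F (cj_le_iff.1 e k kq) ((conj_mem_norm (nk n hn)).2 hk)))))⟩
  have := s1.inf_of_le_normalizer le_sup_right (sup_le Rk le_normalizer)
  rwa [le_antisymm (fun g hg => h.PK hS h4 F (h.RP hg.1) hg.2) (le_inf h.TR F.co.le_kr)] at this

theorem kr_le (hs : IsSylIn 2 S ⊤) (hg : g ∈ F.co.kr) : ∃ a ∈ supp R x, Cz (a⁻¹ * g) (supp R x) := by
  obtain ⟨a, ha, b, hb, rfl⟩ := (h.syl hS h4 F hs).exists_mul_of_pow_mem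
    (K := F.co.kr ⊓ centralizer (supp R x : Set G)) inf_le_left (fun k hk => mem_normalizer_of_conj_mem fun b hb =>
      ⟨F.co.kr.mul_mem (F.co.kr.mul_mem hk hb.1) (F.co.kr.inv_mem hk),
        (conj_mem_norm (normalizer_le_normalizer_centralizer _ (F.co.mem_kr.1 hk).1)).2 hb.2⟩) (fun g hg => by
      obtain ⟨k, e⟩ := exists_pow_coprime (p := 2) g
      have k1 := F.co.mem_kr.1 (pow_mem hg (2 ^ k))
      exact ⟨k, pow_mem hg _, fun a ha => ((od_of_odd h.pT k1.1 (Nat.coprime_two_right.1 e)).cz_of_phi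
        (fun r hr => (F.co.comm_iff k1 hr).2 rfl) a ha).symm⟩) hg
  exact ⟨a, ha, fun r hr => by simpa using (hb.2 r hr).symm⟩

end Cf

end Cfsg.Agent.GH3.E3
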