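import Mathlib
import Cfsg.Agent.GH3.CIDefs
import Cfsg.Agent.GH3.Crit
import Cfsg.Agent.Inv.BenderCons
import Cfsg.Agent.Inv.SR4JB
import Cfsg.Agent.GT.TransferAbelian
import Cfsg.Agent.GT.MinNormal

/-! The normaliser of a critical subgroup modulo its odd core. See `stubs/Cfsg/Agent/GH/PLAN_CI.md`. -/

set_option autoImplicit false
set_option linter.unusedSectionVars false

namespace Cfsg.Agent.GH3

open Cfsg.Agent.Inv.Fz Cfsg.Agent.NE Subgroup
open scoped commutatorElement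

universe u
variable {G X : Type u} [Group G] [Finite G] [Group X] [Finite X] {S R : Subgroup G}

namespace CIa

open Inv.SE Inv.Bnd Perm.RankOne

theorem cent_le {N : Type*} [Group N] [Finite N] {T : Subgroup N} [T.Normal]
    (h : ∀ K ≤ centralizer (T : Set N), IsPGroup 2 K → K ≤ T) : centralizer (T : Set N) ≤ T ⊔ oddCore N := by
  obtain ⟨P⟩ : Nonempty (Sylow 2 (centralizer (T : Set N))) := inferInstance
  have h1 := h _ (map_subtype_le _) (P.2.map (centralizer (T : Set N)).subtype)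
  obtain ⟨K, hK, c⟩ := GT.Tr.exists_normal_complement_of_normalizer_le_centralizer
    (P : Subgroup (centralizer (T : Set N))) P.card_coprime_index fun g _ x hx =>
      Subtype.ext (mem_centralizer_iff.1 g.2 x (h1 (mem_map_of_mem _ hx)))
  have h2 : K ≤ pPrimeCore 2 _ := le_oddCore (by
    rw [← c.index_eq_card, ← Nat.not_even_iff_odd, even_iff_two_dvd]; exact P.not_dvd_index)
  have h3 : (pPrimeCore 2 (centralizer (T : Set N))).map (centralizer (T : Set N)).subtype ≤ oddCore N :=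
    le_oddCore (by rw [card_map_of_injective (subtype_injective _)]; exact odd_oddCore)
  intro g hg
  obtain ⟨⟨k, p⟩, e⟩ := c.2 ⟨g, hg⟩
  rw [show g = (k : centralizer (T : Set N)) * (p : centralizer (T : Set N)) from (congrArg Subtype.val e).symm]
  exact mul_mem (mem_sup_right (h3 (mem_map_of_mem _ (h2 k.2)))) (mem_sup_left (h1 (mem_map_of_mem _ p.2)))

theorem se_of {Q : Type*} [Group Q] {A I M : Subgroup G} (h : Fus.LiftSPE 2 A I M) (π : A →* Q)
    (hπ : Function.Surjective π) (hk : ∀ g, π g = 1 ↔ (g : G) ∈ I) : StrEmb 2 ((M.subgroupOf A).map π) := by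
  have hm : ∀ g, π g ∈ (M.subgroupOf A).map π → (g : G) ∈ M := by
    rintro g ⟨k, hk1, hk2⟩
    have h1 := (hk (k⁻¹ * g)).1 (by rw [map_mul, map_inv, hk2, inv_mul_cancel])
    simpa using M.mul_mem hk1 (h.le h1)
  refine ⟨fun e => h.lt.2 fun g hg => hm ⟨g, hg⟩ (e ▸ mem_top _), ?_, ?_⟩
  · obtain ⟨x, hxK, hxW, hxp⟩ := h.ex
    have ho : orderOf (π ⟨x, h.lt.le hxK⟩) = 2 :=
      orderOf_eq_prime (by rw [← map_pow]; exact (hk _).2 hxp) fun e => hxW ((hk _).1 e)
    exact ho ▸ orderOf_dvd_natCard _ (mem_map_of_mem π (mem_subgroupOf.2 hxK))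
  · intro g x hx hxM hg
    obtain ⟨g, rfl⟩ := hπ g
    obtain ⟨x, rfl⟩ := hπ x
    refine mem_map_of_mem π (h.mem_of_conj g g.2 x (hm x hxM) (fun e => ?_) ?_ (hm (g * x * g⁻¹) ?_))
    · rw [(hk _).2 e, orderOf_one] at hx
      omega
    · exact (hk (x ^ 2)).1 (by rw [map_pow, ← hx, pow_orderOf_eq_one])
    · rwa [map_mul, map_mul, map_inv]

variable {Y : Type*} [Group Y] [Finite Y] {M : Subgroup Y}

theorem cen0 (hM : StrEmb 2 M) (h2 : TwoRank Y) (hO : pPrimeCore 2 Y = ⊥) {T : Subgroup Y} (hT : IsPGroup 2 T)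
    {a y : Y} (ha : a ∈ T) (a2 : a * a = 1) (hy : y ∈ T) : a * y = y * a := by
  obtain ⟨R, hR⟩ := exists_split hM h2
  obtain ⟨P, rfl, -⟩ := hR.exists_sylow hM hO
  obtain ⟨z, hz, z2, zc⟩ := exists_central_orderOf_eq P.2 (P.ne_bot_of_dvd_card hM.dvd_card)
  obtain ⟨g, -, hg⟩ := exists_conj_le_sylow P le_top hT le_top
  by_cases a1 : a = 1
  · simp [a1]
  obtain ⟨m, hm, e⟩ := (Inv.SE.isStronglyEmbedded_iff.2 hM).exists_conj_mem (hR.le hz) z2 (hR.le (hg a ha))
    (by rw [orderOf_conj]; exact orderOf_eq_prime (by rw [pow_two, a2]) a1)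
  have k := zc _ (hR.conj _ (inv_mem hm) _ (hg y hy))
  calc a * y = g⁻¹ * (g * a * g⁻¹) * g * y := by group
    _ = g⁻¹ * m * (z * (m⁻¹ * (g * y * g⁻¹) * m⁻¹⁻¹)) * m⁻¹ * g := by rw [← e]; group
    _ = y * (g⁻¹ * (m * z * m⁻¹) * g) := by rw [← k]; group
    _ = _ := by rw [e]; group

theorem cen (hM : StrEmb 2 M) (h2 : TwoRank Y) {T : Subgroup Y} (hT : IsPGroup 2 T)
    {a y : Y} (ha : a ∈ T) (a2 : a * a = 1) (hy : y ∈ T) : a * y = y * a := by
  have k := cen0 (strEmb_bar hM h2) (TwoRank.quot h2 _ odd_oddCore) GT.pPrimeCore_quotient_pPrimeCore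
    (hT.map (QuotientGroup.mk' _)) (mem_map_of_mem _ ha) (by rw [← map_mul, a2, map_one]) (mem_map_of_mem _ hy)
  refine mul_inv_eq_one.1 (Inv.SR4J.eq_one_of_ker GT.coprime_card_ker_mk'_pPrimeCore hT
    (mul_mem (mul_mem ha hy) (inv_mem (mul_mem hy ha))) ?_)
  rw [map_mul, map_inv, map_mul, map_mul, k, mul_inv_cancel]

theorem not_solv (hM : StrEmb 2 M) (h2 : TwoRank Y) : ¬ Group.IsSolvable Y := fun hs => by
  have hb := strEmb_bar hM h2
  obtain ⟨x, -, x1, -⟩ := TwoRank.quot h2 _ odd_oddCore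
  have := nontrivial_of_ne x 1 x1
  obtain ⟨p, hp, k⟩ := GT.exists_pCore_ne_bot (Y ⧸ pPrimeCore 2 Y)
  have := Fact.mk hp
  by_cases e : p = 2
  · subst e
    exact k hb.pCore_eq_bot
  · obtain ⟨n, hn⟩ := IsPGroup.iff_card.1 (GT.isPGroup_pCore (G := Y ⧸ pPrimeCore 2 Y) p)
    exact k (le_bot_iff.1 ((le_oddCore (hn ▸ (hp.odd_of_ne_two e).pow)).trans GT.pPrimeCore_quotient_pPrimeCore.le))

theorem dih (hM : StrEmb 2 M) (h2 : TwoRank Y) {a y : Y} (a2 : a * a = 1) (y2 : y * y = 1)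
    (h4 : (a * y) ^ 2 ^ 2 = 1) : a * y = y * a := by
  have ai := inv_eq_of_mul_eq_one_right a2
  have e : a * (a * y) * a⁻¹ = (a * y)⁻¹ := by
    rw [← mul_assoc, a2, one_mul, mul_inv_rev, inv_eq_of_mul_eq_one_right y2]
  have zp : ∀ {b : Y}, b ^ 2 ^ 2 = 1 → IsPGroup 2 (zpowers b) := fun {b} hb => by
    obtain ⟨k, -, hk⟩ := (Nat.dvd_prime_pow Nat.prime_two).1 (orderOf_dvd_of_pow_eq_one hb)
    exact isPGroup_zpowers hk
  have hT := Loc.Mss.pg_sup (zp (b := a) (by rw [pow_mul, pow_two a, a2, one_pow] : a ^ (2 * 2) = 1)) (zp h4)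
    (zpowers_le.2 (mem_normalizer_of_conj_mem (by
      rintro _ ⟨k, rfl⟩
      rw [← conj_zpow, e]
      exact zpow_mem (inv_mem (mem_zpowers _)) k)))
  have k := cen hM h2 hT (mem_sup_left (mem_zpowers a)) a2 (mem_sup_right (mem_zpowers (a * y)))
  rw [mul_assoc] at k
  exact mul_left_cancel k

theorem l3 {F : Type*} [Field F] (t : (1 : F) + 1 = 0) :
    ∃ a y : Matrix.ProjectiveSpecialLinearGroup (Fin 3) F, a * a = 1 ∧ y * y = 1 ∧ (a * y) ^ 2 ^ 2 = 1 ∧
      a * y ≠ y * a := by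
  let A : Matrix.SpecialLinearGroup (Fin 3) F := ⟨!![1, 1, 0; 0, 1, 0; 0, 0, 1], by simp [Matrix.det_fin_three]⟩
  let B : Matrix.SpecialLinearGroup (Fin 3) F := ⟨!![1, 0, 0; 0, 1, 1; 0, 0, 1], by simp [Matrix.det_fin_three]⟩
  let Z : Matrix.SpecialLinearGroup (Fin 3) F := ⟨!![1, 0, 1; 0, 1, 0; 0, 0, 1], by simp [Matrix.det_fin_three]⟩
  have a2 : A * A = 1 := Subtype.ext (by
    rw [Matrix.SpecialLinearGroup.coe_mul]; simp [A, t, Matrix.one_fin_three])
  have b2 : B * B = 1 := Subtype.ext (by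
    rw [Matrix.SpecialLinearGroup.coe_mul]; simp [B, t, Matrix.one_fin_three])
  have z2 : Z * Z = 1 := Subtype.ext (by
    rw [Matrix.SpecialLinearGroup.coe_mul]; simp [Z, t, Matrix.one_fin_three])
  have ab : A * B * (A * B) = Z := Subtype.ext (by
    simp only [Matrix.SpecialLinearGroup.coe_mul]; simp [A, B, Z, t])
  let π := QuotientGroup.mk' (center (Matrix.SpecialLinearGroup (Fin 3) F))
  refine ⟨π A, π B, by rw [← map_mul, a2, map_one], by rw [← map_mul, b2, map_one], ?_, fun e => ?_⟩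
  · rw [← map_mul, ← map_pow, show 2 ^ 2 = 2 * 2 from rfl, pow_mul, pow_two (A * B), ab, pow_two, z2, map_one]
  · have h1 : π Z = 1 := by
      rw [← ab, map_mul, map_mul]
      nth_rw 2 [e]
      rw [mul_assoc, ← mul_assoc (π B), ← map_mul π B, b2, map_one, one_mul, ← map_mul, a2, map_one]
    obtain ⟨r, -, hr⟩ := Matrix.SpecialLinearGroup.mem_center_iff.1 ((QuotientGroup.eq_one_iff Z).1 h1)
    have := congrFun (congrFun hr 0) 2
    simp [Z] at this

end CIa

open CIa CrA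

theorem Crit.fr0 (h : Crit S R) (hS : IsPGroup 2 S) (h4 : SectionalPRankLE 2 4 G) :
    Fr0 R (QuotientGroup.mk' (oddCore (normalizer (R : Set G)))) := by
  set T := R.subgroupOf (normalizer (R : Set G)) with hT
  set f := QuotientGroup.mk' (oddCore (normalizer (R : Set G))) with hf
  have pR := hS.to_le h.le
  have pT : IsPGroup 2 T := pR.comap_subtype
  have hk : (Nat.card f.ker).Coprime 2 := GT.coprime_card_ker_mk'_pPrimeCore
  have fs : Function.Surjective f := QuotientGroup.mk'_surjective _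
  have cc : ∀ g : normalizer (R : Set G), g ∈ centralizer (T : Set (normalizer (R : Set G))) ↔ Cz (g : G) R := fun g =>
    ⟨fun k r hr => (congrArg Subtype.val (k ⟨r, le_normalizer hr⟩ hr)).symm, fun k r hr => Subtype.ext (k r hr).symm⟩
  have cz : ∀ g : normalizer (R : Set G), f g = 1 → Cz (g : G) R := fun g e r hr => by
    have k := Inv.SR4J.eq_one_of_ker hk pT (x := g * ⟨r, le_normalizer hr⟩ * g⁻¹ * (⟨r, le_normalizer hr⟩)⁻¹)
      (mul_mem (cn g.2 hr) (inv_mem hr)) (by simp [e])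
    exact mul_inv_eq_iff_eq_mul.1 (mul_inv_eq_one.1 (congrArg Subtype.val k))
  have c1 : centralizer (T : Set (normalizer (R : Set G))) ≤ T ⊔ f.ker := by
    rw [hf, QuotientGroup.ker_mk']
    exact cent_le fun K hK pK g hg => h.two_le hS (pK.map (normalizer (R : Set G)).subtype)
      (by rintro _ ⟨k, hk, rfl⟩; exact cz_I ((cc k).1 (hK hk))) (mem_map_of_mem _ hg)
  have se : ∀ (W : Subgroup _) [W.Normal], T.map f = W → ∃ M : Subgroup (_ ⧸ W), Inv.SE.StrEmb 2 M := by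
    rintro _ _ rfl
    obtain ⟨M, hM⟩ := h.se
    refine ⟨_, se_of hM ((QuotientGroup.mk' _).comp f) ((QuotientGroup.mk'_surjective _).comp fs) fun g => ?_⟩
    rw [MonoidHom.comp_apply, QuotientGroup.mk'_apply, QuotientGroup.eq_one_iff, ← mem_comap, comap_map_eq]
    refine ⟨fun k => ?_, fun k => ?_⟩
    · obtain ⟨a, ha, b, hb, rfl⟩ := mem_sup_of_normal_right.1 k
      exact mul_mem (mem_sup_left ha) (cz_I (cz b hb))
    · obtain ⟨a, ha, c, hc, e⟩ := mem_I.1 k
      have k1 : ((⟨a, le_normalizer ha⟩⁻¹ * g : normalizer (R : Set G)) : G) = c := by simp [e]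
      exact (mul_mem_cancel_left (inv_mem (mem_sup_left (show ⟨a, le_normalizer ha⟩ ∈ T from ha)))).1
        (c1 ((cc _).2 (k1 ▸ hc)))
  have nT : (T.map f).Normal := Normal.map inferInstance f fs
  have core : T.map f = pCore 2 _ := by
    refine le_antisymm (GT.le_pCore (pT.map f)) fun x hx => ?_
    obtain ⟨M, hM⟩ := se _ rfl
    have : ((pCore 2 _).map (QuotientGroup.mk' (T.map f))).Normal :=
      Normal.map inferInstance _ (QuotientGroup.mk'_surjective _)
    have e := hM.normal_pgroup_eq_bot ((GT.isPGroup_pCore 2).map (QuotientGroup.mk' (T.map f)))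
    exact (QuotientGroup.eq_one_iff x).1 (e.le (mem_map_of_mem _ hx))
  refine ⟨fs, hk, pR, core, GT.isPConstrained_of_charP ?_, GT.pPrimeCore_quotient_pPrimeCore,
    FG.SR.quotient (FG.SR.subgroup h4 _) _, cz, se _ core⟩
  rw [← core, ← GT.map_centralizer_of_coprime_ker fs hk pT, map_le_iff_le_comap, comap_map_eq]
  exact c1

theorem Fr0.fa {f : normalizer (R : Set G) →* X} (F : Fr0 R f) (h2 : Perm.RankOne.TwoRank (X ⧸ pCore 2 X)) :
    SR4.Fr R f ∧ FA X := by
  obtain ⟨M, hM⟩ := F.se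
  have ns : ¬ Group.IsSolvable X := fun _ => not_solv hM h2 inferInstance
  refine ⟨⟨F.surj, F.odd, F.pT, F.core, F.con, ns, F.oX, F.h4⟩,
    fun s t => (Inv.SE.isStronglyEmbedded_iff.2 hM).isConj_of_involutions,
    fun T hT a ha a2 y hy => cen hM h2 hT ha a2 hy, (Inv.SR4J.l32_or_a5 ns F.con F.oX F.h4).resolve_left ?_⟩
  rintro ⟨K, _, _, hK, ⟨e⟩⟩
  obtain ⟨a, y, a2, y2, h4, ne⟩ := l3 (F := K) (by
    have := FiniteField.cast_card_eq_zero K
    rwa [hK, Nat.cast_ofNat, ← one_add_one_eq_two] at this)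
  refine ne (e.symm.injective ?_)
  rw [map_mul, map_mul]
  exact dih hM h2 (by rw [← map_mul, a2, map_one]) (by rw [← map_mul, y2, map_one])
    (by rw [← map_mul, ← map_pow, h4, map_one])

end Cfsg.Agent.GH3
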