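import Mathlib
import Cfsg.Agent.GH3.CIDefs
import Cfsg.Agent.GH3.TriA
import Cfsg.Agent.GH3.FF
import Cfsg.Agent.Loc.BlkSec
import Cfsg.Agent.GT.PGroupChain

/-! The cyclic case: the action on sections, and on the Frattini subgroup. See `stubs/Cfsg/Agent/GH/PLAN_CI.md`. -/

set_option autoImplicit false
set_option linter.unusedSectionVars false

namespace Cfsg.Agent.GH3

open Cfsg.Agent.Inv.Fz Cfsg.Agent.NE Subgroup
open scoped commutatorElement

variable {G : Type*} [Group G] [Finite G] {P R K L : Subgroup G} {c a g y : G}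

namespace CIe

open Loc.Mss Loc.Blk TriA

section
variable {A : Type*} [AddCommGroup A] (h2 : ∀ m : A, m + m = 0)
include h2

theorem three (m : A) : m + m + m = m := by rw [h2, zero_add]

theorem vec {x y : AddMonoid.End A} (xy : ∀ m, x (y m) = y (x m)) {u : A} (u0 : u ≠ 0) (xu : x u = u)
    (yu : u + y u + y (y u) = 0) :
    ∃ f : Fin 4 → A, Function.Injective f ∧ ∀ i, x (f i) = f i ∧ f i + y (f i) + y (y (f i)) = 0 := by
  have a1 : y u ≠ 0 := fun e => u0 (by simpa [e] using yu)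
  have a3 : y u ≠ u := fun e => u0 (by rwa [e, e, three h2] at yu)
  have a2 : y (y u) ≠ 0 := fun e => a1 (by
    have := congrArg y yu
    rwa [map_add, map_add, e, map_zero, add_zero, add_zero] at this)
  have a4 : y (y u) ≠ u := fun e => a1 (by rwa [e, add_right_comm, h2, zero_add] at yu)
  have a5 : y (y u) ≠ y u := fun e => u0 (by rwa [e, add_assoc, h2, add_zero] at yu)
  have b1 : y u + y (y u) + y (y (y u)) = 0 := by rw [← map_add, ← map_add, yu, map_zero]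
  have b2 : y (y u) + y (y (y u)) + y (y (y (y u))) = 0 := by rw [← map_add, ← map_add, b1, map_zero]
  refine ⟨![0, u, y u, y (y u)], fun i j e => ?_, fun i => ?_⟩
  · fin_cases i <;> fin_cases j <;>
      first
      | rfl
      | exact absurd e (by simp [u0, a1, a2, a3, a4, a5, u0.symm, a1.symm, a2.symm, a3.symm, a4.symm, a5.symm])
  · fin_cases i
    · simp
    · exact ⟨xu, yu⟩
    · exact ⟨(xy u).trans (congrArg y xu), b1⟩
    · exact ⟨(xy _).trans (congrArg y ((xy u).trans (congrArg y xu))), b2⟩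

theorem k16 [Finite A] (h16 : Nat.card A ≤ 16) {x y : AddMonoid.End A} (xy : ∀ m, x (y m) = y (x m)) {u v : A}
    (u0 : u ≠ 0) (xu : x u = u) (yu : u + y u + y (y u) = 0) (v0 : v ≠ 0) (yv : y v = v)
    (xv : v + x v + x (x v) = 0) : Nat.card A = 16 ∧ ∀ m, x (y m) = m → m = 0 := by
  obtain ⟨f, fi, hf⟩ := vec h2 xy u0 xu yu
  obtain ⟨g, gi, hg⟩ := vec h2 (fun m => (xy m).symm) v0 yv xv
  let E : AddMonoid.End A := 1 + x + x * x
  have eE : ∀ m, E m = m + x m + x (x m) := fun m => rfl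
  have e1 : ∀ p, x p = p → E p = p := fun p e => by rw [eE, e, e, three h2]
  have inj : Function.Injective fun p : Fin 4 × Fin 4 => f p.1 + g p.2 := fun p q e => by
    have e' := congrArg E e
    simp only [map_add, e1 _ (hf _).1, (eE _).trans (hg _).2, add_zero] at e' e
    rw [e', add_right_inj] at e
    exact Prod.ext (fi e') (gi e)
  have c : Nat.card (Fin 4 × Fin 4) = 16 := by simp
  have c' := Nat.card_le_card_of_injective _ inj
  refine ⟨by omega, fun m e => ?_⟩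
  obtain ⟨⟨i, j⟩, rfl⟩ := (inj.bijective_of_nat_card_le (by omega)).2 m
  dsimp only at e ⊢
  have a1 : x (y (f i)) = y (f i) := by rw [xy, (hf i).1]
  rw [map_add, map_add, (hg j).1, a1] at e
  have e' := congrArg E e
  have a2 : E (x (g j)) = 0 := by rw [eE, ← map_add, ← map_add, (hg j).2, map_zero]
  rw [map_add, map_add, e1 _ a1, e1 _ (hf i).1, a2, (eE _).trans (hg j).2, add_left_inj] at e'
  rw [e', add_right_inj] at e
  have p := (hf i).2
  have q := (hg j).2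
  rw [e', e', three h2] at p
  rw [e, e, three h2] at q
  rw [p, q, add_zero]

theorem ex {x y : AddMonoid.End A} (xy : Commute x y) (x3 : x ^ 3 = 1) (y3 : y ^ 3 = 1) (x1 : x ≠ 1) :
    ∃ i : ℕ, ∃ u ≠ 0, (x ^ i * y) u = u ∧ u + x u + x (x u) = 0 := by
  have p3 : ∀ z : AddMonoid.End A, z ^ 3 = 1 → ∀ m, z (z (z m)) = m := fun z e m => by
    rw [← end_mul, ← end_mul, ← pow_three', e, end_one]
  obtain ⟨m, hm⟩ : ∃ m, x m ≠ m := by
    by_contra! e
    exact x1 (end_ext e)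
  have n0 : x m + m ≠ 0 := fun e => hm (by rw [← add_zero (x m), ← h2 m, ← add_assoc, e, zero_add])
  have n1 : x m + m + x (x m + m) + x (x (x m + m)) = 0 := by
    simp only [map_add, p3 x x3]
    rw [show x m + m + (x (x m) + x m) + (m + x (x m)) = x m + x m + (m + m) + (x (x m) + x (x m)) by abel]
    simp [h2]
  generalize x m + m = n at n0 n1
  have cm : ∀ z : AddMonoid.End A, Commute x z → ∀ m, x (z m) = z (x m) := fun z e m => by
    rw [← end_mul, e.eq, end_mul]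
  have k : ∀ z : AddMonoid.End A, Commute x z → ∀ m, m + x m + x (x m) = 0 → z m + x (z m) + x (x (z m)) = 0 :=
    fun z e m h => by rw [cm z e, cm z e, ← map_add, ← map_add, h, map_zero]
  by_contra! hn
  have key : ∀ i : ℕ, n + (x ^ i * y) n + (x ^ i * y) ((x ^ i * y) n) = 0 := fun i => by
    have c : Commute x (x ^ i * y) := ((Commute.refl x).pow_right i).mul_right xy
    have z3 : (x ^ i * y) ^ 3 = 1 := by rw [(xy.pow_left i).mul_pow, ← pow_mul, mul_comm i, pow_mul, x3, y3]; simp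
    by_contra e
    refine hn i _ e ?_ ?_
    · rw [map_add, map_add, p3 _ z3]; abel
    · have := congrArg₂ (· + ·) (congrArg₂ (· + ·) n1 (k _ c _ n1)) (k _ c _ (k _ c _ n1))
      simp only [add_zero] at this
      rw [← this]
      simp only [map_add]
      abel
  have k0 := key 0
  have k1 := key 1
  have k2 := key 2
  simp only [pow_zero, pow_one, one_mul, pow_two, end_mul, ← cm y xy, p3 x x3] at k0 k1 k2
  have := congrArg₂ (· + ·) (congrArg₂ (· + ·) k0 k1) k2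
  refine n0 ((three h2 n).symm.trans ?_)
  have e : n + n + n + (y n + x (y n) + x (x (y n))) + (y (y n) + x (y (y n)) + x (x (y (y n)))) = 0 + 0 + 0 := by
    rw [← this]; abel
  simpa [k y xy _ n1, k y xy _ (k y xy _ n1)] using e

theorem core [Finite A] (h16 : Nat.card A ≤ 16) {x y : AddMonoid.End A} (xy : Commute x y) (x3 : x ^ 3 = 1)
    (y3 : y ^ 3 = 1) (x1 : x ≠ 1) (y1 : ∀ i : ℕ, x ^ i * y ≠ 1) :
    Nat.card A = 16 ∧ ∃ i j : ℕ, ∀ m, (x ^ i * y ^ j) m = m → m = 0 := by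
  obtain ⟨i, u, u0, u1, u2⟩ := ex h2 xy x3 y3 x1
  have c : Commute (x ^ i * y) x := (((Commute.refl x).pow_right i).mul_right xy).symm
  obtain ⟨j, v, v0, v1, v2⟩ := ex h2 c
    (by rw [(xy.pow_left i).mul_pow, ← pow_mul, mul_comm i, pow_mul, x3, y3]; simp) x3 (y1 i)
  have c' : Commute (x ^ i * y) ((x ^ i * y) ^ j * x) := ((Commute.refl _).pow_right j).mul_right c
  have e : ∀ m, (x ^ i * y) m = m → ((x ^ i * y) ^ j * x) m = x m := fun m hm => by
    rw [(c.pow_left j).eq, end_mul]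
    congr 1
    rw [AddMonoid.End.coe_pow]
    exact Function.iterate_fixed hm j
  obtain ⟨h1, h3⟩ := k16 h2 h16 (fun m => by rw [← end_mul, c'.eq, end_mul]) u0 u1
    (by rw [e u u1, e _ (by rw [← end_mul, c.eq, end_mul, u1]), u2]) v0 v1 v2
  refine ⟨h1, i * (j + 1) + 1, j + 1, fun m hm => h3 m ?_⟩
  rw [← end_mul, ← mul_assoc, ← pow_succ', (xy.pow_left i).mul_pow, ← pow_mul, mul_assoc, ← (xy.pow_right _).eq,
    ← mul_assoc, ← pow_succ, hm]

end

theorem grp {H : Type*} [Group H] {α β σ : H} (c : Commute α β) (a3 : α ^ 3 = 1) (b3 : β ^ 3 = 1)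
    (sa : σ * α * σ⁻¹ * α = 1) (sb : σ * β * σ⁻¹ * β = 1) (i j : ℕ) :
    (α ^ i * β ^ j) ^ 3 = 1 ∧ σ * (α ^ i * β ^ j) * σ⁻¹ * (α ^ i * β ^ j) = 1 := by
  refine ⟨by rw [(c.pow_pow i j).mul_pow, ← pow_mul, ← pow_mul, mul_comm i, mul_comm j, pow_mul, pow_mul, a3, b3]; simp, ?_⟩
  rw [← conj_mul, ← conj_pow, ← conj_pow, eq_inv_of_mul_eq_one_left sa, eq_inv_of_mul_eq_one_left sb, inv_pow, inv_pow,
    ← mul_inv_rev, (c.pow_pow i j).eq, inv_mul_cancel]

theorem grp2 {H : Type*} [Group H] {α γ : H} (a3 : α ^ 3 = 1) (sa : γ * γ * α * (γ * γ)⁻¹ * α = 1) {i : ℕ}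
    (h : α ^ i * (γ * α * γ⁻¹) = 1) : α = 1 := by
  have e : (γ * α * γ⁻¹) ^ i * (γ * γ * α * (γ * γ)⁻¹) = 1 := by
    rw [conj_pow, show γ * α ^ i * γ⁻¹ * (γ * γ * α * (γ * γ)⁻¹) = γ * (α ^ i * (γ * α * γ⁻¹)) * γ⁻¹ by group, h]
    simp
  rw [eq_inv_of_mul_eq_one_right h, eq_inv_of_mul_eq_one_left sa, inv_pow, ← mul_inv_rev, inv_eq_one, ← pow_mul,
    ← pow_succ'] at e
  have d1 := orderOf_dvd_of_pow_eq_one a3
  have d2 := orderOf_dvd_of_pow_eq_one e
  rcases (Nat.dvd_prime Nat.prime_three).1 d1 with e1 | e1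
  · exact orderOf_eq_one_iff.1 e1
  · rw [e1] at d2
    have : i % 3 = 0 ∨ i % 3 = 1 ∨ i % 3 = 2 := by omega
    have m := Nat.mul_mod i i 3
    rcases this with e | e | e <;> rw [e] at m <;> omega

theorem cz_conj (hg : g ∈ normalizer (K : Set G)) (h : Cz a K) : Cz (g * a * g⁻¹) K := by
  have := (BsA.cz_cj (g := g)).2 h
  rwa [Inv.Fz.cj_eq_iff.2 hg] at this

theorem trib (h : Cy P R c a) : Tri R (c * a * c⁻¹) (c * c) := by
  have := h.tri.cj c
  rwa [Inv.Fz.cj_eq_iff.2 (h.nm h.mem), mul_assoc c (c * c), mul_inv_cancel_right] at this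

theorem tri_pow {x s : G} (h1 : Tri R x s) (h2 : Tri R y s) (x3 : Cz (x ^ 3) R) (y3 : Cz (y ^ 3) R) (xy : Cz ⁅x, y⁆ R)
    (i j : ℕ) (ne : ¬ Cz (x ^ i * y ^ j) R) : Tri R (x ^ i * y ^ j) s := by
  have k : ∀ g : normalizer (R : Set G), normalizerMonoidHom R g = 1 ↔ Cz (g : G) R := fun g => by
    rw [← MonoidHom.mem_ker, normalizerMonoidHom_ker, mem_subgroupOf, cz_iff]
  let x' : normalizer (R : Set G) := ⟨x, h1.xn⟩
  let y' : normalizer (R : Set G) := ⟨y, h2.xn⟩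
  let s' : normalizer (R : Set G) := ⟨s, h1.sn⟩
  obtain ⟨e1, e2⟩ := grp (α := normalizerMonoidHom R x') (β := normalizerMonoidHom R y') (σ := normalizerMonoidHom R s')
    (by rw [← commutatorElement_eq_one_iff_commute, ← map_commutatorElement, k]; exact xy)
    (by rw [← map_pow, k]; exact x3) (by rw [← map_pow, k]; exact y3)
    (by simp only [← map_inv, ← map_mul, k]; exact h1.inv) (by simp only [← map_inv, ← map_mul, k]; exact h2.inv) i j
  simp only [← map_inv, ← map_mul, ← map_pow, k] at e1 e2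
  exact ⟨h1.two, mul_mem (pow_mem h1.xn i) (pow_mem h2.xn j), h1.sn, h1.s_not, h1.ss,
    (((show Commute x (s * s) from h1.sx).pow_left i).mul_left ((show Commute y (s * s) from h2.sx).pow_left j)).eq,
    e2, .inl e1, ne⟩

/-- `⟨a, a ^ c⟩` centralises the sections that `a` centralises. -/
theorem cl_le (cK : c ∈ normalizer (K : Set G)) (cL : c ∈ normalizer (L : Set G)) (h : a ∈ cmod K L) :
    closure {a, c * a * c⁻¹} ≤ cmod K L := by
  rw [closure_le, Set.insert_subset_iff, Set.singleton_subset_iff]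
  exact ⟨h, conj_mem_of_norm (norm_cmod (zpowers_le.2 cK) (zpowers_le.2 cL) (mem_zpowers c)) h⟩

/-- One step down. -/
def st (R K : Subgroup G) : Subgroup G := ⁅K, R⁆ ⊔ phi K

theorem st_le (h : R ≤ normalizer (K : Set G)) : st R K ≤ K := sup_le (comm_le_left h) phi_le

theorem st_norm (h1 : g ∈ normalizer (R : Set G)) (h2 : g ∈ normalizer (K : Set G)) : g ∈ normalizer (st R K : Set G) :=
  norm_sup (norm_comm (zpowers_le.2 h2) (zpowers_le.2 h1)) (zpowers_le.2 (norm_phi h2)) (mem_zpowers g)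

theorem st_sq : ∀ k ∈ K, k * k ∈ st R K := fun _ hk => mem_sup_right (mem_phi hk)

theorem st_comm : ∀ r ∈ R, ∀ k ∈ K, ⁅r, k⁆ ∈ st R K := fun _ hr _ hk =>
  cinv.1 (mem_sup_left (commutator_mem_commutator hk hr))

theorem st_lt (hR : IsPGroup 2 R) (hK : K ≤ R) (h : R ≤ normalizer (K : Set G)) (ne : K ≠ ⊥) : ¬ K ≤ st R K := fun e =>
  haveI : Fact (Nat.Prime 2) := ⟨Nat.prime_two⟩
  (GT.PG.commutator_lt_of_isPGroup (hR.to_le hK) hR h ne).not_ge (le_of_sup_phi (hR.to_le hK) (comm_le_left h) e)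

end CIe

open CIe Loc.Mss Loc.Blk TriA in
/-- A section moved by `a` has order 16 and some element of `⟨a, a ^ c⟩` has no fixed points on it. -/
theorem Cy.sec (h : Cy P R c a) (hL : L ≤ K) (hK : K ≤ R) (aK : a ∈ normalizer (K : Set G))
    (aL : a ∈ normalizer (L : Set G)) (cK : c ∈ normalizer (K : Set G)) (cL : c ∈ normalizer (L : Set G))
    (hs : ∀ k ∈ K, k * k ∈ L) (hm : ∃ k ∈ K, ⁅a, k⁆ ∉ L) :
    Nat.card K = 16 * Nat.card L ∧ ∃ w ∈ closure {a, c * a * c⁻¹}, Tri R w (c * c) ∧ ∀ k ∈ K, ⁅w, k⁆ ∈ L → k ∈ L := by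
  have r4 : Rk 16 R := h.r4.mono h.le
  have ma : a ∈ closure {a, c * a * c⁻¹} := subset_closure (by simp)
  have mb : c * a * c⁻¹ ∈ closure {a, c * a * c⁻¹} := subset_closure (by simp)
  rcases h.typ with h5 | ⟨h3, hab⟩
  · rcases h.tri.sec r4 hL hK aK aL hs hm with ⟨-, h3⟩ | ⟨e, -, f⟩
    · refine (h.tri.ne (cz_iff.2 ?_)).elim
      have := mul_mem (mul_mem (cz_iff.1 h3) (cz_iff.1 h3)) (inv_mem (cz_iff.1 h5))
      rwa [← pow_add, show 3 + 3 = 1 + 5 from rfl, pow_add, pow_one, mul_inv_cancel_right] at this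
    · exact ⟨e, a, ma, h.tri, f⟩
  obtain ⟨A, _, φ, ρ, D⟩ := exists_sec_of_comm hL
    (commutator_le.2 fun u hu v hv => phi_le_iff.2 hs (comm_mem_phi hu hv))
  have := D.finite
  have h2 : ∀ m : A, m + m = 0 := fun m => by
    obtain ⟨k, hk, rfl⟩ := D.surj m
    rw [← D.mul k hk k hk, D.of_mem (hs k hk)]
  have cA := D.card
  have h16 : Nat.card A ≤ 16 := Nat.le_of_mul_le_mul_right (cA ▸ r4 L K hL hK hs) Nat.card_pos
  have cz : ∀ g, Cz g R → g ∈ cmod K L := fun g e => ⟨cent_le_norm _ (cent_anti (hL.trans hK) (cz_iff.1 e)),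
    fun k hk => by rw [commutatorElement_eq_one_iff_mul_comm.2 (e k (hK hk)).symm]; exact one_mem _⟩
  have one : ∀ g, Cz g R → ρ g = 1 := fun g e => (D.a_eq_one_iff (D.cmod_le (cz g e))).2 (cz g e)
  have na : a ∈ normalizer (K : Set G) ⊓ normalizer (L : Set G) := ⟨aK, aL⟩
  have nc : c ∈ normalizer (K : Set G) ⊓ normalizer (L : Set G) := ⟨cK, cL⟩
  have nb := mul_mem (mul_mem nc na) (inv_mem nc)
  have b3 : Cz ((c * a * c⁻¹) ^ 3) R := conj_pow (a := c) (b := a) ▸ cz_conj (h.nm h.mem) h3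
  have a1 : a ∉ cmod K L := fun e => by
    obtain ⟨k, hk, e'⟩ := hm
    exact e' (cinv.1 (e.2 k hk))
  obtain ⟨e, i, j, f⟩ := core h2 h16 (x := ρ a) (y := ρ (c * a * c⁻¹))
    (by
      rw [Commute, SemiconjBy, ← D.a_mul na nb, ← D.a_mul nb na, ← one_mul (ρ (c * a * c⁻¹ * a)), ← one _ hab,
        ← D.a_mul (D.cmod_le (cz _ hab)) (mul_mem nb na)]
      congr 1
      rw [commutatorElement_def]; group)
    (by rw [← D.a_pow na, one _ h3]) (by rw [← D.a_pow nb, one _ b3]) (fun e => a1 ((D.a_eq_one_iff na).1 e))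
    (fun i e => by
      rw [← D.a_pow na, ← D.a_mul (pow_mem na i) nb, D.a_eq_one_iff (mul_mem (pow_mem na i) nb)] at e
      obtain ⟨q, -, hq⟩ := exists_quo (cmod K L)
      let a' : normalizer (cmod K L : Set G) := ⟨a, norm_cmod (zpowers_le.2 aK) (zpowers_le.2 aL) (mem_zpowers a)⟩
      let c' : normalizer (cmod K L : Set G) := ⟨c, norm_cmod (zpowers_le.2 cK) (zpowers_le.2 cL) (mem_zpowers c)⟩
      refine a1 ((hq a').1 (grp2 (γ := q c') (i := i) ?_ ?_ ?_)) <;> simp only [← map_inv, ← map_mul, ← map_pow, hq]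
      exacts [cz _ h3, cz _ h.tri.inv, e])
  have nw := mul_mem (pow_mem na i) (pow_mem nb j)
  have f' : ∀ k ∈ K, ⁅a ^ i * (c * a * c⁻¹) ^ j, k⁆ ∈ L → k ∈ L := fun k hk e =>
    (D.ker k hk).1 (f _ (by
      rw [← D.a_pow na, ← D.a_pow nb, ← D.a_mul (pow_mem na i) (pow_mem nb j)]
      exact (D.comm_mem_iff nw hk).1 e))
  refine ⟨by rw [cA, e], _, mul_mem (pow_mem ma i) (pow_mem mb j), tri_pow h.tri (trib h) h3 b3 hab i j fun e => ?_, f'⟩
  refine a1 ⟨aL, fun k hk => ?_⟩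
  have := f' k hk (cinv.1 ((cz _ e).2 k hk))
  exact cinv.1 (mul_mem (conj_mem_of_norm aL this) (inv_mem this))

/-- The case `K / L = R / Φ(R)`. -/
theorem Cy.top (h : Cy P R c a) : Nat.card R = 16 * Nat.card (phi R) ∧
    (∃ w ∈ closure {a, c * a * c⁻¹}, Tri R w (c * c) ∧ ∀ k ∈ R, ⁅w, k⁆ ∈ phi R → k ∈ phi R) ∧
    ∀ r ∈ R, ⁅c * c, r⁆ ∈ phi R → ∃ u ∈ R, r⁻¹ * ⁅c * c, u⁆ ∈ phi R := by
  obtain ⟨e, w, hw, t, f⟩ := h.sec phi_le le_rfl h.tri.xn (norm_phi h.tri.xn) (h.nm h.mem) (norm_phi (h.nm h.mem))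
    (fun k hk => mem_phi hk) (by
      by_contra! e
      exact h.tri.ne (h.tri.od.cz_of_phi e))
  exact ⟨e, ⟨w, hw, t, f⟩, fun r hr e => (t.free (b := c * c) (by simp) phi_le le_rfl t.xn (norm_phi t.xn) t.sn
    (norm_phi t.sn) (fun r hr k hk => comm_mem_phi hr hk) f).1 r hr e (mem_phi hr)⟩

open CIe Loc.Mss TriA in
theorem CIe.down (h : Cy P R c a) (n : ℕ) : ∀ K : Subgroup G, Nat.card K < n → K ≤ R → R ≤ normalizer (K : Set G) →
    a ∈ normalizer (K : Set G) → c ∈ normalizer (K : Set G) → (∀ k ∈ K, ⁅a, k⁆ ∈ st R K) → Cz a K := by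
  induction n with
  | zero => exact fun K e => absurd e (Nat.not_lt_zero _)
  | succ n ih =>
  intro K hn hK RK aK cK hz
  by_cases ne : K = ⊥
  · intro r hr
    rw [mem_bot.1 (ne.le hr), mul_one, one_mul]
  have cR := h.nm h.mem
  have lt := st_lt h.tri.two hK RK ne
  have le := st_le RK
  have RK' : R ≤ normalizer (st R K : Set G) := fun r hr => st_norm (le_normalizer hr) (RK hr)
  have aK' := st_norm h.tri.xn aK
  have cK' := st_norm cR cK
  have c1 : Nat.card (st R K) < Nat.card K :=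
    lt_of_le_of_ne (card_le_of_le le) fun e => lt (eq_of_le_of_card_ge le e.ge).ge
  refine (h.tri.od.mono hK aK).cz_of_chain le (ih _ (by omega) (le.trans hK) RK' aK' cK' ?_) hz
  by_contra! hm
  obtain ⟨e, w, hw, t, f⟩ := h.sec (st_le RK') (le.trans hK) aK' (st_norm h.tri.xn aK') cK' (st_norm cR cK') st_sq hm
  have wz := cl_le cK cK' ⟨aK', fun k hk => cinv.1 (hz k hk)⟩ hw
  obtain ⟨k, hk, hk'⟩ := SetLike.not_le_iff_exists.1 lt
  have wK : w ∈ normalizer (K : Set G) := norm_of le_rfl fun r hr => le (cinv.1 (wz.2 r hr))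
  obtain ⟨d, hd, e'⟩ := (t.od.mono hK wK).lift le wz.1 hk (RK' (hK hk)) (cinv.1 (wz.2 k hk))
  obtain ⟨d1, d2⟩ := mem_fix.1 hd
  refine hk' ?_
  have := (h.r4.mono h.le).five (le.trans hK) (st_le RK') st_sq e (hK d1)
    (f _ (st_sq d d1) (by
      rw [commutatorElement_eq_one_iff_commute.2 ((show Commute w d from d2).mul_right d2)]; exact one_mem _))
    (st_comm d (hK d1))
  simpa using inv_mem ((mul_mem_cancel_right this).1 e')

open CIe in
theorem Cy.cz_phi (h : Cy P R c a) : Cz a (phi R) := by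
  have cR := h.nm h.mem
  have RK : R ≤ normalizer (phi R : Set G) := fun r hr => norm_phi (le_normalizer hr)
  refine down h _ _ (Nat.lt_succ_self _) phi_le RK (norm_phi h.tri.xn) (norm_phi cR) ?_
  by_contra! hm
  obtain ⟨e, w, hw, t, f⟩ := h.sec (st_le RK) phi_le (norm_phi h.tri.xn) (st_norm h.tri.xn (norm_phi h.tri.xn))
    (norm_phi cR) (st_norm cR (norm_phi cR)) st_sq hm
  exact ff h.r4 h.le (mul_mem h.mem h.mem) (st_le RK) phi_le e h.top.1 st_sq (fun _ => mem_phi) st_comm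
    (st_norm t.sn (norm_phi t.sn)) (norm_phi t.sn) t.sn t.ss
    (fun k hk e => (t.free (b := c * c) (by simp) (st_le RK) phi_le (norm_phi t.xn) (st_norm t.xn (norm_phi t.xn))
      (norm_phi t.sn) (st_norm t.sn (norm_phi t.sn)) st_comm f).1 k hk e (st_sq k hk)) h.top.2.2

open CIe Loc.Mss TriA in
theorem CIe.exw (h : Cy P R c a) : ∃ w, Od R w ∧ R ≤ supp R w ∧ Cz w (phi R) := by
  obtain ⟨-, ⟨w, hw, t, f⟩, -⟩ := h.top
  refine ⟨w, t.od, le_of_sup_phi t.two (supp_le t.xn) fun r hr => ?_, fun k hk => ?_⟩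
  · obtain ⟨u, hu, d, hd, rfl⟩ := t.od.decomp hr
    refine mul_mem (mem_sup_left hu) (mem_sup_right (f d hd.1 ?_))
    rw [commutatorElement_eq_one_iff_mul_comm.2 (mem_fix.1 hd).2]
    exact one_mem _
  · exact (commutatorElement_eq_one_iff_mul_comm.1 (mem_bot.1 ((cl_le (L := ⊥) (norm_phi (h.nm h.mem))
      (le_normalizer_of_normal (mem_top c)) ⟨le_normalizer_of_normal (mem_top a), fun k hk => mem_bot.2
        (commutatorElement_eq_one_iff_mul_comm.2 (h.cz_phi k hk).symm)⟩ hw).2 k hk))).symm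

theorem Cy.phi_cen (h : Cy P R c a) : ∀ u ∈ phi R, Cz u R := fun u hu r hr => by
  obtain ⟨w, o, h1, h2⟩ := CIe.exw h
  exact (commutatorElement_eq_one_iff_mul_comm.1 (mem_bot.1 (supp_triv o.xn (fun r hr => norm_phi (le_normalizer hr))
    le_normalizer_of_normal bot_le (fun k hk => mem_bot.2 (commutatorElement_eq_one_iff_mul_comm.2 (h2 k hk)))
    r (h1 hr) u hu))).symm

theorem Cy.phi_le_comm (h : Cy P R c a) : phi R ≤ ⁅R, R⁆ := fun u hu => by
  obtain ⟨w, o, h1, h2⟩ := CIe.exw h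
  exact commutator_mono (supp_le o.xn) (supp_le o.xn)
    (o.fix_le_comm ⟨h1 (phi_le hu), mem_fix.2 ⟨phi_le hu, h2 u hu⟩⟩)

theorem Cy.phi_sq (h : Cy P R c a) : ∀ u ∈ phi R, u * u = 1 := fun u hu => by
  let Z : Subgroup G :=
    { carrier := {u | u ∈ phi R ∧ u * u = 1}
      one_mem' := ⟨one_mem _, mul_one 1⟩
      mul_mem' := fun {x y} hx hy => ⟨mul_mem hx.1 hy.1, by
        rw [mul_assoc, ← mul_assoc y, h.phi_cen y hy.1 x (phi_le hx.1), mul_assoc, hy.2, mul_one, hx.2]⟩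
      inv_mem' := fun {x} hx => ⟨inv_mem hx.1, by rw [← mul_inv_rev, hx.2, inv_one]⟩ }
  refine (show ⁅R, R⁆ ≤ Z from commutator_le.2 fun x hx y hy => ⟨comm_mem_phi hx hy, ?_⟩) (h.phi_le_comm hu) |>.2
  have := commutatorElement_eq_one_iff_mul_comm.2 (h.phi_cen _ (mem_phi hx) y hy)
  rwa [commutatorElement_mul_left_eq_conj_mul, ← h.phi_cen _ (comm_mem_phi hx hy) x hx, mul_inv_cancel_right] at this

end Cfsg.Agent.GH3
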