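import Mathlib
import Cfsg.Agent.GH3.Defs3
import Cfsg.Agent.GH3.EB
import Cfsg.Agent.GH3.FF
import Cfsg.Agent.GH3.UPa

/-! All triples of index two: the conjugates of `F` generate a group of order 32. See `stubs/Cfsg/Agent/GH/PLAN2.md`. -/

set_option autoImplicit false
set_option linter.unusedSectionVars false

namespace Cfsg.Agent.GH3

open Cfsg.Agent.Inv.Fz Cfsg.Agent.NE Subgroup
open scoped commutatorElement

variable {G : Type*} [Group G] [Finite G] {S R₁ R₂ F : Subgroup G} {ρ s₁ z u x s₂ f v w a : G}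

namespace E4

/-- The commutator only depends on the cosets of a central subgroup. -/
theorem cm_eq {a b v w : G} (h1 : v * a = a * v) (h2 : v * b = b * v) (h3 : w * a = a * w) (h4 : w * b = b * w)
    (h5 : v * w = w * v) : ⁅v * a, w * b⁆ = ⁅a, b⁆ := by
  have e : ∀ y, w * y = y * w → ⁅y, w * b⁆ = ⁅y, b⁆ := fun y hy => by
    rw [h4, UPL.cm_mul, UPL.cm1.2 hy.symm, mul_one, mul_inv_cancel, mul_one]
  rw [UPL.mul_cm, e a h3, e v h5.symm, UPL.cm1.2 h2, mul_one, UPL.cj_cm, conj_eq_of_comm h1, conj_eq_of_comm h2]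

theorem cube (h : EC S R₁ ρ s₁ z u) (hv : v ∈ R₁) : ρ * (ρ * (ρ * v * ρ⁻¹) * ρ⁻¹) * ρ⁻¹ = v :=
  (by rw [pow_three]; group : _ = ρ ^ 3 * v * (ρ ^ 3)⁻¹).trans (conj_eq_of_comm (h.cube v hv))

/-- The conjugates of `f` are central modulo `U`. -/
theorem comm_cj (h : EC S R₁ ρ s₁ z u) (hv : ∀ r ∈ R₁, ⁅r, v⁆ ∈ closure {z, u}) :
    ∀ r ∈ R₁, ⁅r, ρ * v * ρ⁻¹⁆ ∈ closure {z, u} := fun r hr => by
  have := (conj_mem_norm h.normU.2).2 (hv _ ((conj_mem_norm (inv_mem h.bas.tri.xn)).2 hr))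
  rwa [UPL.cj_cm, show ρ * (ρ⁻¹ * r * ρ⁻¹⁻¹) * ρ⁻¹ = r by group] at this

/-- `s₁` interchanges `f'` and `f''` modulo `U`. -/
theorem swap (h : EF S R₁ ρ s₁ z u R₂ x s₂ f F) :
    (∃ v ∈ closure {z, u}, s₁ * (ρ * f * ρ⁻¹) * s₁⁻¹ = v * (ρ * (ρ * f * ρ⁻¹) * ρ⁻¹)) ∧
      ∃ v ∈ closure {z, u}, s₁ * (ρ * (ρ * f * ρ⁻¹) * ρ⁻¹) * s₁⁻¹ = v * (ρ * f * ρ⁻¹) := by
  have fF : f ∈ F := h.F_eq ▸ subset_closure (by simp)
  have fR := (h.F_le fF).1
  have t := h.bas.tri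
  have k := h.commF h.bas.mem fF
  have n := fun {y} => (conj_mem_norm (x := y) (inv_mem h.normU.2)).2
  have e1 : s₁ * (ρ * f * ρ⁻¹) * s₁⁻¹ = ρ⁻¹ * ⁅s₁, f⁆ * ρ⁻¹⁻¹ * (ρ * (ρ * f * ρ⁻¹) * ρ⁻¹) := by
    rw [t.conj_conj fR]
    conv_lhs => rw [show s₁ * f * s₁⁻¹ = ⁅s₁, f⁆ * f by group]
    conv_lhs => arg 1; arg 2; arg 2; rw [← cube h.toEC fR]
    group
  refine ⟨⟨_, n k, e1⟩, _, n (n k), ?_⟩
  rw [t.conj_conj ((conj_mem_norm t.xn).2 fR), e1]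
  group

end E4

theorem EF.e4 (h : EF S R₁ ρ s₁ z u R₂ x s₂ f F) (hS : IsPGroup 2 S) (h4 : Rk 16 S) (hne : ρ * f * ρ⁻¹ ∉ F)
    (hr : f * (ρ * f * ρ⁻¹) * (ρ * (ρ * f * ρ⁻¹) * ρ⁻¹) ∉ closure {z, u}) :
    Nat.card S = 64 ∨ ∃ a, T128 R₁ ρ a := by
  obtain ⟨⟨v₁, hv₁, sw₁⟩, v₂, hv₂, sw₂⟩ := E4.swap h
  have t := h.bas.tri
  have od := t.od
  have RS := h.bas.crit.le
  have loc := h.bas.toT1.loc hS h4 h.ix
  have fF : f ∈ F := h.F_eq ▸ subset_closure (by simp)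
  have FR : F ≤ R₁ := h.F_le.trans inf_le_left
  have q0 := h.elF.sq f fF
  have m0 := h.commf
  have m1 := E4.comm_cj h.toEC m0
  have m2 := E4.comm_cj h.toEC m1
  have q1 := UPL.sq_conj q0 ρ
  have q2 := UPL.sq_conj q1 ρ
  have r0 := FR fF
  have r1 := (conj_mem_norm t.xn).2 r0
  have r2 := (conj_mem_norm t.xn).2 r1
  have e2 := E4.cube h.toEC r0
  have aT : f * (ρ * f * ρ⁻¹) ∈ supp R₁ ρ := by simpa only [inv_of_sq q0] using (comm_mem_supp r0).2.2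
  generalize e1 : ρ * (ρ * f * ρ⁻¹) * ρ⁻¹ = f₂ at *
  generalize e0 : ρ * f * ρ⁻¹ = f₁ at *
  have zU : z ∈ closure {z, u} := subset_closure (by simp)
  have uU : u ∈ closure {z, u} := subset_closure (by simp)
  have cU := h.el.card
  have sU := h.el.sq
  have ρU := h.normU.2
  have SU := h.normU.1
  have UF : closure {z, u} ≤ F := fun v hv => h.memF.2 (.inl hv)
  have memF := fun v => h.memF (v := v)
  have czU := fun w => h.czU (w := w)
  have fpf := fun v => h.fpfU (v := v)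
  have memU := fun v => h.memU (v := v)
  have om := h.om
  have Ule := h.U_le
  have fU := h.f_not
  have jl := fun w => h.jlem (w := w) h4
  have cF := fun w v => h.commF (w := w) (v := v)
  have UU := fun v => h.UU (v := v)
  generalize (closure {z, u} : Subgroup G) = U at *
  have UR := UF.trans FR
  obtain ⟨E, hE, UE, -⟩ := UPL.exists_omz UR (RS.trans SU)
  have EE : ⁅E, E⁆ ≤ U := commutator_le.2 fun a ha b hb => ((hE b).1 hb).2.2 a ((hE a).1 ha).1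
  have E0 : f ∈ E := (hE _).2 ⟨r0, q0 ▸ one_mem _, m0⟩
  have E1 : f₁ ∈ E := (hE _).2 ⟨r1, q1 ▸ one_mem _, m1⟩
  have E2 : f₂ ∈ E := (hE _).2 ⟨r2, q2 ▸ one_mem _, m2⟩
  have FE : F ≤ E := fun v hv => (memF v).1 hv |>.elim (fun k => UE k) fun k => (mul_mem_cancel_left E0).1 (UE k)
  obtain ⟨a1, a2, a3, a4⟩ := TriB.step EE UF FE (fun g hg => h.elF.sq g hg ▸ one_mem _) E1 (q1 ▸ one_mem _)
  have n2 : f₂ ∉ ext F f₁ := fun k => by
    rcases (a1 _).1 k with k | k <;> rcases (memF _).1 k with k | k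
    · exact fU (e2 ▸ (conj_mem_norm ρU).2 k)
    · refine hne ((mul_mem_cancel_right fF).1 (UF ?_))
      have := (conj_mem_norm ρU).2 k
      rwa [conj_mul', e0, e2] at this
    · refine hne ((mul_mem_cancel_left fF).1 (UF ((conj_mem_norm ρU).1 ?_)))
      rwa [conj_mul', e0, e1]
    · exact hr (by rwa [mul_assoc])
  obtain ⟨b1, b2, b3, b4⟩ := TriB.step EE (UF.trans (le_ext _ _)) a2 a3 E2 (q2 ▸ one_mem _)
  have cB := b4 n2
  rw [a4 hne, h.elF.card] at cB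
  have FB : F ≤ ext (ext F f₁) f₂ := (le_ext _ _).trans (le_ext _ _)
  have B1 : f₁ ∈ ext (ext F f₁) f₂ := le_ext _ _ (self_mem_ext _ _)
  have B2 : f₂ ∈ ext (ext F f₁) f₂ := self_mem_ext _ _
  have ρB : ρ ∈ normalizer (ext (ext F f₁) f₂ : Set G) := cj_eq_iff.1 (cj_eq_of_le (by
    rw [cj_ext, cj_ext, ext_le, ext_le, e1, e2]
    refine ⟨⟨cj_le_iff.2 fun y hy => ?_, B2⟩, FB fF⟩
    exact ((memF y).1 hy).elim (fun k => FB (UF ((conj_mem_norm ρU).2 k))) fun k =>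
      (mul_mem_cancel_left B1).1 (by
        have := FB (UF ((conj_mem_norm ρU).2 k))
        rwa [conj_mul', e0] at this)))
  have SB : S ≤ normalizer (ext (ext F f₁) f₂ : Set G) := UPL.norm_P loc
    (norm_of_comm fun r hr y hy => FB (UF (((hE y).1 (b2 hy)).2.2 r hr))) (cj_eq_iff.1 (cj_eq_of_le (by
      rw [cj_ext, cj_ext, ext_le, ext_le, sw₁, sw₂, cj_eq_iff.2 (h.nF h.bas.mem)]
      exact ⟨⟨FB, mul_mem (FB (UF hv₁)) B2⟩, mul_mem (FB (UF hv₂)) B1⟩)))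
  have k1 : ⁅f₁, f₂⁆ = z := by
    have e : s₁ * ⁅f₁, f₂⁆ * s₁⁻¹ = ⁅f₁, f₂⁆ := by
      rw [UPL.cj_cm, sw₁, sw₂, E4.cm_eq (czU _ r2 _ hv₁).symm (czU _ r1 _ hv₁).symm (czU _ r2 _ hv₂).symm
        (czU _ r1 _ hv₂).symm (comm_of_sq sU hv₁ hv₂), ← commutatorElement_inv, inv_of_sq (sU _ (m2 _ r1))]
    rcases (memU _).1 (m2 _ r1) with k | k | k | k
    · have c1 := UPL.cm1.1 k
      have c0 : f * f₁ = f₁ * f := comm_of_conj (g := ρ) (by rwa [e0, e1])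
      have c2 : f₂ * f = f * f₂ := by simpa only [e1, e2] using conj_comm ρ c1
      have cF : ∀ {w}, w ∈ R₁ → w * f = f * w → ∀ a ∈ F, w * a = a * w := fun hw e =>
        TriA.cz_iff.2 ((h.memC hw).2 e).2
      obtain ⟨d1, d2, d3⟩ := ext_elem h.elF.sq q1 (cF r1 c0.symm)
      refine (n2 (h4.mem_el16 ⟨by rw [d3 hne, h.elF.card], d2⟩ (ext_le.2 ⟨FR.trans RS, RS r1⟩) (RS r2) q2
        (TriA.cz_iff.2 (le_centralizer_iff.1 (ext_le.2 ⟨fun a ha => ?_, ?_⟩) (mem_zpowers f₂))))).elim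
      · exact mem_centralizer_iff.2 fun y hy => (comm_zpowers (cF r2 c2 a ha).symm hy).symm
      · exact mem_centralizer_iff.2 fun y hy => (comm_zpowers c1 hy).symm
    · exact k
    · rw [k, h.su] at e
      exact absurd (mul_eq_left.1 e) h.z_ne
    · rw [k, conj_mul', h.su, conj_eq_of_comm (h.cz _ h.bas.mem).symm, mul_assoc, sU z zU, mul_one] at e
      exact absurd (mul_eq_left.1 e.symm) h.z_ne
  have k2 : ⁅f₂, f⁆ = u := by rw [← h.rz, ← k1, UPL.cj_cm, e1, e2]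
  have k0 : ⁅f, f₁⁆ = u * z := by rw [← h.ru, ← k2, UPL.cj_cm, e2, e0]
  have u1 : u ≠ 1 := fun e => h.z_ne (conj_eq_one_iff.1 (h.rz.trans e))
  have uz : u * z ∉ zpowers z := fun e => by
    rcases (UPL.mem_zp2 (sU z zU)).1 e with e | e
    · exact u1 (conj_eq_one_iff.1 (h.ru.trans e))
    · exact u1 (mul_eq_right.1 e)
  have n0 : f * f₁ ≠ f₁ * f := fun e => uz (k0 ▸ UPL.cm1.2 e ▸ one_mem _)
  have n1 : f₁ * f₂ ≠ f₂ * f₁ := fun e => h.z_ne (k1 ▸ UPL.cm1.2 e)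
  have n3 : f₂ * f ≠ f * f₂ := fun e => u1 (k2 ▸ UPL.cm1.2 e)
  generalize ext (ext F f₁) f₂ = B at *
  have BR : B ≤ R₁ := fun y hy => ((hE y).1 (b2 hy)).1
  have UC : U ≤ R₁ ⊓ centralizer (B : Set G) := fun v hv =>
    ⟨UR hv, mem_centralizer_iff.2 fun y hy => czU y (BR hy) v hv⟩
  have cC : ∀ {w}, w ∈ R₁ ⊓ centralizer (B : Set G) → f * w = w * f ∧ f₁ * w = w * f₁ ∧ f₂ * w = w * f₂ := fun k =>
    ⟨k.2 _ (FB fF), k.2 _ B1, k.2 _ B2⟩
  have BC : ∀ y ∈ R₁ ⊓ centralizer (B : Set G), y ∈ B → y ∈ U := fun y hy k => by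
    have nc : ∀ {w}, w * y ∈ U → f * w = w * f ∧ f₁ * w = w * f₁ ∧ f₂ * w = w * f₂ := fun k =>
      cC ((mul_mem_cancel_right hy).1 (UC k))
    rcases (b1 _).1 k with k | k <;> rcases (a1 _).1 k with k | k <;> rcases (memF _).1 k with k | k <;>
      try simp only [← mul_assoc] at k
    · exact k
    · exact absurd (nc k).2.1.symm n0
    · exact absurd (nc k).1 n0
    · exact absurd (mul_left_cancel (a := f) (by simpa only [mul_assoc] using (nc k).1)) n0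
    · exact absurd (nc k).2.1 n1
    · exact absurd (mul_left_cancel (a := f) (by simpa only [mul_assoc] using (nc k).1.symm)) n3
    · exact absurd (mul_left_cancel (a := f₁) (by simpa only [mul_assoc] using (nc k).2.1)) n1
    · refine absurd ?_ h.z_ne
      have e := UPL.cm1.2 (nc k).1
      rw [UPL.cm_mul, UPL.cm_mul, commutatorElement_self, one_mul, k0, ← commutatorElement_inv f₂ f, k2,
        inv_of_sq (sU u uU), conj_eq_of_comm (czU _ r0 _ (mul_mem uU zU)),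
        conj_eq_of_comm (czU _ (mul_mem r0 r1) _ uU), comm_of_sq sU uU zU, mul_assoc, sU u uU, mul_one] at e
      exact e
  have nC : ∀ g ∈ normalizer (R₁ : Set G), g ∈ normalizer (B : Set G) →
      g ∈ normalizer ((R₁ ⊓ centralizer (B : Set G) : Subgroup G) : Set G) := fun g h1 h2 =>
    mem_normalizer_of_conj_mem fun y hy => ⟨(conj_mem_norm h1).2 hy.1, TriA.cz_iff.1 (Cz.conj (TriA.cz_iff.2 hy.2) h2)⟩
  have CU : R₁ ⊓ centralizer (B : Set G) ≤ U := by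
    by_contra k
    obtain ⟨ζ, z1, z2, z3, z4⟩ := exists_central_mod hS SU (inf_le_left.trans RS)
      (fun g hg => nC g (UPL.nR loc hg) (SB hg)) k
    have Eζ : ζ ∈ E := (hE _).2 ⟨z1.1, z3, fun r hr => z4 r (RS hr)⟩
    obtain ⟨d1, d2, d3, d4⟩ := TriB.step EE (UF.trans FB) b2 b3 Eζ z3
    have z5 := (conj_mem_norm (nC ρ t.xn ρB)).2 z1
    have z6 : ρ * ζ * ρ⁻¹ ∈ ext B ζ := h4.five (ext_le.2 ⟨BR.trans RS, RS z1.1⟩) ((UF.trans FB).trans (le_ext _ _)) d3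
      (by rw [d4 fun k => z2 (BC _ z1 k), cB, cU]) (RS z5.1) (conj_mul' ρ ζ ζ ▸ (conj_mem_norm ρU).2 z3) fun y hy => by
        have := (conj_mem_norm ρU).2 (TriA.cinv.1 (z4 _ (RS ((conj_mem_norm (inv_mem t.xn)).2 ((hE y).1 (d2 hy)).1))))
        rwa [UPL.cj_cm, show ρ * (ρ⁻¹ * y * ρ⁻¹⁻¹) * ρ⁻¹ = y by group] at this
    have z7 : ⁅ρ, ζ⁆ ∈ U := by
      rcases (d1 _).1 z6 with k | k
      · exact absurd ((conj_mem_norm ρU).1 (BC _ z5 k)) z2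
      · have := (conj_mem_norm (SU (RS (inv_mem z1.1)))).2 (mul_mem (BC _ (mul_mem z1 z5) k) (inv_mem z3))
        rwa [show ζ⁻¹ * (ζ * (ρ * ζ * ρ⁻¹) * (ζ * ζ)⁻¹) * ζ⁻¹⁻¹ = ⁅ρ, ζ⁆ by group] at this
    obtain ⟨d, hd, e⟩ := od.lift UR ρU z1.1 (SU (RS z1.1)) z7
    obtain ⟨dR, dρ⟩ := mem_fix.1 hd
    have dC : d ∈ R₁ ⊓ centralizer (B : Set G) := (mul_mem_cancel_left (inv_mem z1)).1 (UC e)
    have dU : d ∉ U := fun k => z2 (inv_mem_iff.1 ((mul_mem_cancel_right k).1 e))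
    have dE : d ∈ E := (mul_mem_cancel_left (inv_mem Eζ)).1 (UE e)
    have d2 : d * d = 1 := fpf _ ((hE d).1 dE).2.1 (by rw [← mul_assoc, dρ, mul_assoc, dρ, mul_assoc])
    have dS : ∀ y ∈ S, ⁅y, d⁆ ∈ U := fun y hy => by
      rw [show d = ζ * (ζ⁻¹ * d) by group, UPL.cm_mul]
      exact mul_mem (z4 y hy) ((conj_mem_norm (SU (RS z1.1))).2 (mul_mem ((conj_mem_norm (SU hy)).2 e) (inv_mem e)))
    have xA := jl d (RS dR) d2 (fun a ha => (dC.2 a (FB ha)).symm) (fun k => dU (BC d dC (FB k))) fun y hy _ => dS y hy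
    have SA : ∀ y ∈ S, ∀ a ∈ F ⊔ zpowers d, ⁅y, a⁆ ∈ U := fun y hy a ha => by
      rcases ((ext_elem h.elF.sq d2 fun a ha => (dC.2 a (FB ha)).symm).1 a).1 ha with k | k
      · exact cF y a hy k
      · rw [← sq_cancel d2 a, UPL.cm_mul]
        exact mul_mem (dS y hy) ((conj_mem_norm (SU (RS dR))).2 (cF y _ hy k))
    have R2S := h.bas₂.crit.le
    have g1 : ∀ r ∈ R₂, ⁅r, d⁆ ∈ zpowers z := fun r hr => UU _ (dS r (R2S hr)) (UPL.cj_cm x r d ▸ SA _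
      (R2S ((conj_mem_norm h.bas₂.tri.xn).2 hr)) _ ((conj_mem_norm xA).2 (mem_sup_right (mem_zpowers d))))
    have g2 : f₁ ∉ R₂ := fun k => uz (k0 ▸ TriA.cinv.1 ((h.mem₂ _ (RS r1)).1 k f fF))
    have g3 : ∀ r ∈ R₁, ⁅r, d⁆ ∈ zpowers z := fun r hr => by
      by_cases k : r ∈ R₂
      · exact g1 r k
      · have := g1 _ (h.ix₂.mul_mem (RS hr) (RS r1) k g2)
        rwa [UPL.mul_cm, UPL.cm1.2 (dC.2 _ B1), mul_one, mul_inv_cancel, one_mul] at this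
    refine dU (om d dR d2 fun r hr => (UPL.cm1.1 ?_).symm)
    rcases (UPL.mem_zp2 (sU z zU)).1 (g3 r hr) with k | k
    · exact k
    · have := g3 _ ((conj_mem_norm t.xn).2 hr)
      rw [← conj_eq_of_comm dρ, ← UPL.cj_cm, k, h.rz] at this
      exact absurd (mul_mem this (mem_zpowers z)) uz
  have sq : ∀ r ∈ R₁, r * r ∈ U := fun r hr => CU ⟨mul_mem hr hr, mem_centralizer_iff.2 fun y hy => by
    have k := ((hE y).1 (b2 hy)).2.2 r hr
    exact (UPL.cm1.1 (by rw [UPL.mul_cm, conj_eq_of_comm (czU r hr _ k), sU _ k])).symm⟩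
  have c64 := h4 U R₁ UR RS sq
  have c32 := card_le_of_le BR
  have cT : Nat.card (supp R₁ ρ) = 16 := by
    rcases t.sec (h4.mono RS) UR le_rfl t.xn ρU sq ⟨f, r0, fun k => hne ((mul_mem_cancel_right (inv_mem fF)).1
      (UF (e0 ▸ k)))⟩ with k | k
    · rw [sup_eq_left.2 Ule, cU] at k
      exact k.1
    · refine absurd (k.2.2 _ (mul_mem (mul_mem r0 r1) r2) ?_) hr
      have := TriA.cinv.1 (m0 _ (mul_mem r1 r2))
      rw [commutatorElement_def, conj_mul', conj_mul', e0, e1, e2]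
      rwa [TriA.cinv, show ⁅f₁ * f₂, f⁆ = f₁ * f₂ * f * (f * f₁ * f₂)⁻¹ by group] at this
  obtain ⟨d, k⟩ := h.t16 cT
  obtain ⟨a, k⟩ := k.resolve_left fun k => n0 (by
    have := k.sq _ aT
    rw [← inv_of_sq this, mul_inv_rev, inv_of_sq q0, inv_of_sq q1])
  have e : supp R₁ ρ ⊔ fix R₁ ρ = R₁ := le_antisymm (sup_le (supp_le t.xn) inf_le_left) fun r hr => by
    obtain ⟨p, hp, q, hq, rfl⟩ := od.decomp hr
    exact mul_mem_sup hp hq
  have cD := GT.PG.card_sup_of_inf_eq_bot (H := fix R₁ ρ) (inf_le_left.trans le_norm_supp) ((inf_comm _ _).trans d)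
  rw [sup_comm, e, cT] at cD
  have cS := h.ix.card RS h.bas.mem t.s_not
  have sD : ∀ y ∈ fix R₁ ρ, y * y = 1 := fun y hy => fpf _ (sq y hy.1) (mem_fix.1 (mul_mem hy hy)).2
  obtain ⟨n, hn⟩ := (isPGroup_of_sq sD).exists_card_eq
  have : Nat.card (fix R₁ ρ) = 2 ∨ Nat.card (fix R₁ ρ) = 4 := by
    have : Nat.card (fix R₁ ρ) ≠ 3 := fun e => by
      rw [hn] at e
      rcases n with _ | n <;> omega
    omega
  refine this.imp (fun e => by omega) fun c => ⟨a, k, ⟨c, sD⟩, fun y hy e => fpf y (om y hy.1 (sD y hy) fun r hr => ?_)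
    (mem_fix.1 hy).2⟩
  obtain ⟨p, hp, q, hq, rfl⟩ := od.decomp hr
  rw [← mul_assoc, e p hp, mul_assoc, comm_of_sq sD hy hq, mul_assoc]

end Cfsg.Agent.GH3
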