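import Mathlib
import Cfsg.Agent.GH3.Defs3
import Cfsg.Agent.GH3.GoodQa

/-! Good quaternion groups. See `stubs/Cfsg/Agent/GH/PLAN2.md`. -/

set_option autoImplicit false
set_option linter.unusedSectionVars false

namespace Cfsg.Agent.GH3

open Cfsg.Agent.Inv.Fz Cfsg.Agent.NE Subgroup
open scoped commutatorElement

variable {G : Type*} [Group G] [Finite G] {S R K N Θ Θ' H : Subgroup G} {x s g v a b a' b' y : G} {n n' : ℕ}

open BsA YA UPL TriA in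
theorem T2.goodQ (h : T2 S R x s) (hS : IsPGroup 2 S) (h4 : Rk 16 S) (h8 : Q8 (supp R x)) :
    ∃ Θ a b n, TQ S R x s Θ a b n ∧ (XT S Θ a b ∨ (∃ y, YX S Θ a b y) ∨ ∃ y, YO S Θ a b n y) := by
  obtain ⟨Θ, a, b, n, q, k⟩ := h.q_cases hS h4 h8
  refine ⟨Θ, a, b, n, q, ?_⟩
  have hq := q.dq
  have mc : ∀ g, g ∈ S ⊓ centralizer {zz a n} ↔ g ∈ S ∧ g * zz a n = zz a n * g := fun g =>
    and_congr_right fun _ => mem_centralizer_singleton_iff
  by_cases hl : S ≤ centralizer {zz a n}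
  · rw [inf_eq_left.2 hl] at k
    exact k.imp_right .inr
  have : Fact (Nat.Prime 2) := ⟨Nat.prime_two⟩
  obtain ⟨t, ⟨ht, tn⟩, t1⟩ := SetLike.exists_of_lt (lt_inf_normalizer hS (inf_lt_left.2 hl))
  obtain ⟨w, m, w1, w2⟩ := exists_pow_not_mem hS ht t1
  have hw := zpowers_le.2 ht m
  have wn := zpowers_le.2 tn m
  have e : w * zz a n * w⁻¹ ≠ zz a n := fun r => w1 ((mc w).2 ⟨hw, comm_of_conj_eq r⟩)
  have cz : Cz (zz a n) (S ⊓ centralizer {zz a n}) := fun r hr => ((mc r).1 hr).2.symm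
  rcases k with t | ⟨y, k⟩
  · have eN : S ⊓ normalizer (Θ : Set G) = S ⊓ centralizer {zz a n} := by
      refine le_antisymm (fun g hg => (mc g).2 ⟨hg.1, comm_of_conj_eq ?_⟩) (le_inf inf_le_left t.norm)
      have := (hq.cen q.two ((conj_mem_norm hg.2).2 (zmem hq))).2.1 (hq.zz_ne.2.2.conj hg.2)
      rw [mem_zpowers_sq hq.zz_ne.2.1, Rec.conj_eq_one] at this
      exact this.resolve_left hq.zz_ne.1
    have t' := t.cj wn
    have hd : Θ ⊓ Inv.Fz.cj w Θ = ⊥ := by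
      by_contra ne
      have := t'.center (hq.cj w) (t.zz_mem hq (hS.to_le inf_le_left) t'.norm ne) cz
      rw [mem_zpowers_sq (hq.cj w).zz_ne.2.1] at this
      exact this.elim hq.zz_ne.1 fun r => e (conj_pow.symm.trans r.symm)
    have hc : ∀ u ∈ Θ, ∀ v ∈ Inv.Fz.cj w Θ, u * v = v * u := fun _ hu _ hv =>
      cm1.1 (mem_bot.1 (hd.le ⟨cinv.1 (cmem (t.norm (t'.le hv)) hu), cmem (t'.norm (t.le hu)) hv⟩))
    obtain ⟨u, hu, eu⟩ := t.swap
    have i : ∀ {g}, g ∈ S → g ∈ normalizer (Θ : Set G) → g ∈ S ⊓ centralizer {zz a n} := fun h1 h2 => eN.le ⟨h1, h2⟩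
    refine .inr (.inl ⟨w, yx_mk hS hq (t.le.trans inf_le_left) hw (eN ▸ wn) (fun r => w1 (i hw r)) (t.norm w2)
      (eN ▸ t.na) ⟨u, hu.1, t.norm hu, eu⟩ (fun g hg gn => hq.k0 (hq.cj w) q.two q.two hS h4 (t.le.trans inf_le_left)
      (t'.le.trans inf_le_left) hc hd hg (t.na (i hg gn)) (t'.na (i hg gn))) hd (.inl q.two)
      fun r hr _ c => t.norm ((mc r).2 ⟨hr, c⟩)⟩)
  · have := (k.z1 _ ((conj_mem_norm wn).2 (k.le (zmem hq)))).1 (cz.conj wn)
    rw [mem_zpowers_sq hq.zz_ne.2.1, Rec.conj_eq_one] at this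
    exact absurd (this.resolve_left hq.zz_ne.1) e

end Cfsg.Agent.GH3
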