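import Mathlib
import Cfsg.Agent.GH3.Defs3
import Cfsg.Agent.GH3.YBb
import Cfsg.Agent.GH3.TriB

/-! The configuration `Y×`: triples of index two. See `stubs/Cfsg/Agent/GH/PLAN2.md`. -/

set_option autoImplicit false
set_option linter.unusedSectionVars false

namespace Cfsg.Agent.GH3

open Cfsg.Agent.Inv.Fz Cfsg.Agent.NE Subgroup
open scoped commutatorElement

variable {G : Type*} [Group G] [Finite G] {S R K N Θ Θ' H : Subgroup G} {x s g v a b a' b' y : G} {n n' : ℕ}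

namespace Y2

open BsA UPL TriA YA
open DihA hiding bm

theorem m1 {p q : G} : p ∈ (closure {p, q} : Subgroup G) := subset_closure (by simp)
theorem m2 {p q : G} : q ∈ (closure {p, q} : Subgroup G) := subset_closure (by simp)
theorem cle {p q : G} (h1 : p ∈ K) (h2 : q ∈ K) : closure {p, q} ≤ K := (closure_le _).2 (by
  rintro _ (rfl | rfl); exacts [h1, h2])

theorem adj (hq : DQ Θ a b n) (h2 : 2 ≤ n) (hg : g ∈ normalizer (zpowers a : Set G)) :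
    ∃ c ∈ Θ, c * g * jj a n = jj a n * (c * g) := by
  rcases (mem_zpowers_sq hq.zz_ne.2.1).1 (cj_j hq h2 hg (mem_zpowers _)) with e | e
  · exact ⟨1, one_mem _, by rw [one_mul]; exact cm1.1 e⟩
  · refine ⟨b, bm hq, comm_of_conj_eq ?_⟩
    rw [← NE.conj_conj, mul_inv_eq_iff_eq_mul.1 e, conj_mul', (hq.jj_sq h2).2.1,
      conj_eq_of_comm (hq.zz_ne.2.2 b (bm hq)).symm, ← jj2 hq h2, mul_inv_cancel_right]

theorem om1 (hq : DQ Θ a b n) (h2 : 2 ≤ n) (hv : v ∈ zpowers a) (e : v * v * (v * v) = 1) : v ∈ zpowers (jj a n) :=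
  mem_j hq h2 hv ((mem_zpowers_sq hq.zz_ne.2.1).2 (two_cases hq (mul_mem hv hv) e))

theorem om2 (hq : DQ Θ a b n) (h2 : 2 ≤ n) (hv : v ∈ zpowers (jj a n)) : v ^ 4 = 1 := by
  obtain ⟨i, rfl⟩ := hv
  have : jj a n ^ 4 = 1 := by
    rw [show 4 = 2 * 2 from rfl, pow_mul, pow_two, pow_two, jj2 hq h2, hq.zz_ne.2.1]
  show (jj a n ^ i) ^ 4 = 1
  rw [← zpow_natCast, ← zpow_mul, mul_comm, zpow_mul, zpow_natCast, this, one_zpow]

theorem sqb (hq : DQ Θ a b n) {d u : G} (hc : ⁅d, b⁆ ∈ zpowers a) (hu : u ∈ zpowers a) (k : u ∈ phi Θ ↔ ⁅d, b⁆ ∈ phi Θ)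
    (e : d * d = u * v) : ∃ p ∈ phi Θ, b * d * (b * d) = p * v := by
  refine ⟨b * ⁅d, b⁆ * b * u, ?_, by rw [mul_assoc _ u, ← e, commutatorElement_def]; group⟩
  have n1 : b ∈ normalizer (phi Θ : Set G) := norm_phi (le_normalizer (bm hq))
  have bb := mem_phi (bm hq)
  by_cases c : u ∈ phi Θ
  · have := mul_mem (mul_mem ((conj_mem_norm n1).2 (k.1 c)) bb) c
    convert this using 1; group
  · have m : b * ⁅d, b⁆ * b⁻¹ ∈ zpowers a := (conj_mem_norm (hq.le_norm_a (bm hq))).2 hc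
    have := mul_mem (odd_mul hq m hu (mt (conj_mem_norm n1).1 (mt k.2 c)) c) bb
    rw [mul_assoc _ u, cA hu (BsA.bb hq)] at this
    convert this using 1; group

variable (h : YX S Θ a b y) (hq : DQ Θ a b n) (h2 : 2 ≤ n)
include h hq h2

theorem zz2 : zz a n * (y * zz a n * y⁻¹) * (zz a n * (y * zz a n * y⁻¹)) = 1 := (four0 h hq).1.sq _ (mul_mem m1 m2)

theorem xz_of (ho : Od K x) (lZ : (closure {zz a n, y * zz a n * y⁻¹} : Subgroup G) ≤ K)
    (n2 : x ∈ normalizer ((closure {zz a n, y * zz a n * y⁻¹} : Subgroup G) : Set G))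
    (f1 : x * (zz a n * (y * zz a n * y⁻¹)) * x⁻¹ = zz a n * (y * zz a n * y⁻¹)) :
    Cz x (closure {zz a n, y * zz a n * y⁻¹}) := by
  have z4 := four0 h hq
  have zz2 := zz2 h hq h2
  have n1 : x ∈ normalizer (zpowers (zz a n * (y * zz a n * y⁻¹)) : Set G) := cj_eq_iff.1 (by rw [cj_zpowers, f1])
  have l1 : zpowers (zz a n * (y * zz a n * y⁻¹)) ≤ closure {zz a n, y * zz a n * y⁻¹} := zpowers_le.2 (mul_mem m1 m2)
  refine (ho.mono lZ n2).cz_of_chain l1 (fun r hr => comm_zpowers (comm_of_conj_eq f1) hr) fun r hr =>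
    supp_le_idx n2 l1 n1 (fun u hu v hv u1 v1 => ?_) (comm_mem_supp hr).1
  rw [mem_zpowers_sq zz2, not_or] at u1 v1
  rw [mem_zpowers_sq zz2]
  rcases (z4.2 u).1 hu with e | rfl | rfl | e <;> rcases (z4.2 v).1 hv with e' | e' | e' | e' <;>
    first | exact absurd e u1.1 | exact absurd e u1.2 | exact absurd e' v1.1 | exact absurd e' v1.2 | rw [e']
  exacts [.inl hq.zz_ne.2.1, .inr rfl, .inr (zc h hq).symm, .inl (Rec.conj_sq hq.zz_ne.2.1)]

theorem JA : (closure {jj a n, y * jj a n * y⁻¹} : Subgroup G) ≤ closure {a, y * a * y⁻¹} :=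
  cle (pow_mem m1 _) (by rw [jj, ← conj_pow]; exact pow_mem m2 _)

theorem ZA : (closure {zz a n, y * zz a n * y⁻¹} : Subgroup G) ≤ closure {a, y * a * y⁻¹} :=
  cle (pow_mem m1 _) (by rw [zz, ← conj_pow]; exact pow_mem m2 _)

theorem nJ_of (h1 : (closure {jj a n, y * jj a n * y⁻¹} : Subgroup G) ≤ K) (h3 : K ≤ closure {a, y * a * y⁻¹})
    (hx : x ∈ normalizer (K : Set G)) : x ∈ normalizer ((closure {jj a n, y * jj a n * y⁻¹} : Subgroup G) : Set G) := by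
  have hq' := hq.cj y
  have ej : jj (y * a * y⁻¹) n = y * jj a n * y⁻¹ := conj_pow
  have mj := aL hq (jA hq)
  have mj' : y * jj a n * y⁻¹ ∈ cj y Θ := conj_mem_cj.2 mj
  refine mem_normalizer_of_conj_mem fun g k => ?_
  have e : (x * g * x⁻¹) ^ 4 = 1 := by
    obtain ⟨u, hu, v, hv, rfl⟩ := (pair h mj mj').1 k
    rw [conj_pow, Commute.mul_pow (h.comm u (zpowers_le.2 mj hu) v (zpowers_le.2 mj' hv)), om2 hq h2 hu,
      om2 hq' h2 (ej ▸ hv), mul_one, mul_one, mul_inv_cancel]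
  obtain ⟨u, hu, v, hv, e1⟩ := (pair h (am hq) (am hq')).1 (h3 ((conj_mem_norm hx).2 (h1 k)))
  rw [e1, Commute.mul_pow (h.comm u (aL hq hu) v (aL hq' hv))] at e
  have := uniq h (aL hq (pow_mem hu 4)) (aL hq' (pow_mem hv 4)) (one_mem _) (one_mem _) (e.trans (mul_one _).symm)
  have p : ∀ w : G, w ^ 4 = w * w * (w * w) := fun w => by rw [show 4 = 2 * 2 from rfl, pow_mul, pow_two, pow_two]
  exact (pair h mj mj').2 ⟨u, om1 hq h2 hu (p u ▸ this.1), v, ej ▸ om1 hq' h2 hv (p v ▸ this.2), e1⟩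

/-- An automorphism of `N_S(Θ)` does not map the centre of a factor to `z z'`. -/
theorem no_move {b₀ z₀ : G} (hx : x ∈ normalizer ((S ⊓ normalizer (Θ : Set G) : Subgroup G) : Set G))
    (hJ : x ∈ normalizer ((closure {jj a n, y * jj a n * y⁻¹} : Subgroup G) : Set G))
    (hb : b₀ ∈ S ⊓ normalizer (Θ : Set G)) (k : ∀ v ∈ closure {jj a n, y * jj a n * y⁻¹}, ⁅b₀, v⁆ ∈ zpowers z₀)
    (e : x * z₀ * x⁻¹ = zz a n * (y * zz a n * y⁻¹)) : Cz b₀ (closure {jj a n, y * jj a n * y⁻¹}) := by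
  have q := (conj_mem_norm hx).2 hb
  have k' : ∀ v ∈ closure {jj a n, y * jj a n * y⁻¹}, ⁅x * b₀ * x⁻¹, v⁆ ∈ zpowers (zz a n * (y * zz a n * y⁻¹)) :=
    (allS hJ).2 fun v hv => by rw [← cj_cm, ← e, ← cj_zpowers, conj_mem_cj]; exact k v hv
  have mj := aL hq (jA hq)
  have c := czp (cm1.1 (triv h hq (.inl (cmem q.2 mj)) (k' _ m1)))
    (cm1.1 (triv h hq (.inr (cmem ((xt' h hq).norm q) (conj_mem_cj.2 mj))) (k' _ m2)))
  rwa [← cj_eq_iff.2 hJ, cz_cj] at c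

theorem case1 (ho : Od (S ⊓ normalizer (Θ : Set G)) x) : Cz x (S ⊓ normalizer (Θ : Set G)) := by
  have hq' := hq.cj y
  have ez : zz (y * a * y⁻¹) n = y * zz a n * y⁻¹ := conj_pow
  have ej : jj (y * a * y⁻¹) n = y * jj a n * y⁻¹ := conj_pow
  have mj := aL hq (jA hq)
  have mj' : y * jj a n * y⁻¹ ∈ cj y Θ := conj_mem_cj.2 mj
  have lA := (leY h hq).trans (sup_le (xt h).le (xt' h hq).le)
  have lZ := (ZA h hq h2).trans lA
  have lJ := (JA h hq h2).trans lA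
  have n2 : x ∈ normalizer ((closure {zz a n, y * zz a n * y⁻¹} : Subgroup G) : Set G) :=
    mem_normalizer_of_conj_mem fun g k => (cQ h hq ((conj_mem_norm ho.xn).2 (lZ k)).1).1
      (((cQ h hq (lZ k).1).2 k).conj ho.xn)
  have nJ : x ∈ normalizer ((closure {jj a n, y * jj a n * y⁻¹} : Subgroup G) : Set G) :=
    mem_normalizer_of_conj_mem fun g k => (h.z2Q hq h2 ((conj_mem_norm ho.xn).2 (lJ k)).1).1 fun w hw wn => by
      refine (allS (p := fun w => ⁅x * g * x⁻¹, w⁆ ∈ closure {zz a n, y * zz a n * y⁻¹}) ho.xn).2 (fun w hw => ?_) w ⟨hw, wn⟩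
      rw [← cj_cm, conj_mem_norm n2]
      exact (h.z2Q hq h2 (lJ k).1).2 k w hw.1 hw.2
  have b1 := (xt h).le (bm hq)
  have b2 := (xt' h hq).le (bm hq')
  have f1 : x * (zz a n * (y * zz a n * y⁻¹)) * x⁻¹ = zz a n * (y * zz a n * y⁻¹) := by
    have e0 : x * (x⁻¹ * (zz a n * (y * zz a n * y⁻¹)) * x⁻¹⁻¹) * x⁻¹ = zz a n * (y * zz a n * y⁻¹) := by group
    rcases ((four0 h hq).2 _).1 ((conj_mem_norm (inv_mem n2)).2 (mul_mem m1 m2)) with e | e | e | e <;> rw [e] at e0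
    · rw [mul_one, mul_inv_cancel, eq_comm, mul_eq_one_iff_inv_eq, inv_of_sq hq.zz_ne.2.1] at e0
      exact absurd e0.symm (zne h hq)
    · refine absurd ((hq.jj_sq h2).2.2.symm.trans (cm1.2 (no_move h hq h2 ho.xn nJ b1 (fun v k => ?_) e0 _ m1).symm))
        hq.zz_ne.1
      obtain ⟨u, hu, v, hv, rfl⟩ := (pair h mj mj').1 k
      rw [cm2 h hq (zpowers_le.2 mj hu) (zpowers_le.2 mj' hv) b1, cm1.2 (h.comm _ (bm hq) _ (zpowers_le.2 mj' hv)), mul_one]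
      exact cj_j hq h2 (h.na b1) hu
    · refine absurd ((hq'.jj_sq h2).2.2.symm.trans (cm1.2 (no_move h hq h2 ho.xn nJ b2 (fun v k => ?_) e0 _
        (ej ▸ m2)).symm)) hq'.zz_ne.1
      obtain ⟨u, hu, v, hv, rfl⟩ := (pair h mj mj').1 k
      rw [cm2 h hq (zpowers_le.2 mj hu) (zpowers_le.2 mj' hv) b2,
        cm1.2 (h.comm _ (zpowers_le.2 mj hu) _ (bm hq')).symm, one_mul]
      exact ez ▸ cj_j hq' h2 ((xt' h hq).na b2) (ej ▸ hv)
    · exact e0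
  have xz := xz_of h hq h2 ho lZ n2 f1
  exact h.c1 hq h2 ho lA le_rfl (xz _ m1) (xz _ m2) nJ

theorem inv_mem0 (hg : g ∈ S) (g2 : g * g = 1)
    (k : ∀ r ∈ closure {a, y * a * y⁻¹}, ⁅g, r⁆ ∈ zpowers (zz a n * (y * zz a n * y⁻¹))) :
    g ∈ closure {zz a n, y * zz a n * y⁻¹} := by
  have hq' := hq.cj y
  have t : g ∈ normalizer (Θ : Set G) := by
    by_contra t
    have m : g * a * g⁻¹ ∈ cj y Θ := (h.toYB.cj_out hg t).1 ▸ conj_mem_cj.2 (am hq)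
    have k1 := zpowers_le.2 (mul_mem m1 m2 : _ ∈ closure {zz a n, y * zz a n * y⁻¹}) (k a m1)
    rw [commutatorElement_def, ← h.comm _ (inv_mem (am hq)) _ m] at k1
    have := (par hq (-1)).1 (by simpa using zphi hq h2 (split h (zmem hq) (zm' h hq) (inv_mem (am hq)) m k1).1)
    exact absurd this (by decide)
  have c := czp (cm1.1 (triv h hq (.inl (cmem t (am hq))) (k _ m1)))
    (cm1.1 (triv h hq (.inr (cmem ((h.toYB.norm' hg).2 t) (am hq'))) (k _ m2)))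
  refine omA h hq ((h.memA hq h2 hg (c _ (JA h hq h2 m1)) (c _ (JA h hq h2 m2))).2.2 ?_) g2
  obtain ⟨m, rfl⟩ : ∃ m, n = m + 1 := ⟨n - 1, by omega⟩
  rw [pow_succ', pow_mul, pow_two, g2, one_pow]

theorem exists_d : ∃ d ∈ S, d * jj a n = jj a n * d ∧ d * (y * jj a n * y⁻¹) = y * jj a n * y⁻¹ * d ∧ d ∉ Θ ⊔ cj y Θ := by
  obtain ⟨w, hw, wn, e⟩ := h.swap
  have hq' := hq.cj y
  have ej : jj (y * a * y⁻¹) n = y * jj a n * y⁻¹ := conj_pow
  obtain ⟨c, hc, e1⟩ := adj hq h2 (h.na ⟨hw, wn⟩)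
  have q := mul_mem ((xt h).le hc) (show w ∈ S ⊓ normalizer (Θ : Set G) from ⟨hw, wn⟩)
  obtain ⟨c', hc', e2⟩ := adj hq' h2 ((xt' h hq).na q)
  refine ⟨_, mul_mem ((xt' h hq).le hc').1 q.1, Commute.mul_left (h.comm _ (aL hq (jA hq)) _ hc').symm e1, ej ▸ e2,
    fun k => hq.not_cls_of_swap e ?_⟩
  rw [mul_mem_cancel_left (mem_sup_right hc'), mul_mem_cancel_left (mem_sup_left hc)] at k
  obtain ⟨u, hu, v, hv, rfl⟩ := (h.memY hq).1 k
  rw [mul_cm, cm1.2 (h.comm _ (bm hq) v hv).symm, mul_one, mul_inv_cancel, one_mul]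
  exact comm_mem_phi hu (bm hq)

end Y2

open BsA UPL TriA YA Y2 in
open DihA hiding bm in
theorem YX.e2 (h : YX S Θ a b y) (hq : DQ Θ a b n) (h2 : 2 ≤ n) (hl : Loc S R x s) :
    supp R x ≤ Θ ⊔ Inv.Fz.cj y Θ ∧ x * zz a n = zz a n * x ∧ x * (y * zz a n * y⁻¹) = y * zz a n * y⁻¹ * x := by
  have hq' := hq.cj y
  have ej : jj (y * a * y⁻¹) n = y * jj a n * y⁻¹ := conj_pow
  have ho := hl.tri.od
  have nR := nR hl
  have lQ := (leY h hq).trans (sup_le (xt h).le (xt' h hq).le)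
  have b1 := (xt h).le (bm hq)
  have b2 := (xt' h hq).le (bm hq')
  have aR : a ∈ R := by
    obtain ⟨w, hw, -, e⟩ := h.swap
    rw [← inv_mul_cancel_left b a, ← e]
    by_cases c : b ∈ R
    · exact mul_mem (inv_mem c) ((conj_mem_norm (nR hw)).2 c)
    · exact hl.ix.mul_mem (inv_mem b1.1) (mul_mem (mul_mem hw b1.1) (inv_mem hw)) (ninv c) (mt (conj_mem_norm (nR hw)).1 c)
  have AR : (closure {a, y * a * y⁻¹} : Subgroup G) ≤ R := cle aR ((conj_mem_norm (nR h.mem)).2 aR)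
  by_cases hR : R ≤ normalizer (Θ : Set G)
  · have e : R = S ⊓ normalizer (Θ : Set G) := le_antisymm (le_inf hl.le hR) fun g k => by_contra fun c =>
      h.not_norm ((mul_mem_cancel_right (show g ∈ normalizer (Θ : Set G) from k.2)).1
        (hR (hl.ix.mul_mem h.mem k.1 (fun r => h.not_norm (hR r)) c)))
    exact absurd (e ▸ case1 h hq h2 (e ▸ ho)) hl.tri.ne
  obtain ⟨σ, sR, sn⟩ := SetLike.not_le_iff_exists.1 hR
  have o := h.toYB.out hq (hl.le sR) sn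
  have ZR := (ZA h hq h2).trans AR
  have cz : Cz (zz a n * (y * zz a n * y⁻¹)) R := cz_mono (czz h hq) hl.le
  have f1 : x * (zz a n * (y * zz a n * y⁻¹)) * x⁻¹ = zz a n * (y * zz a n * y⁻¹) := by
    have c := cz.conj ho.xn
    rcases ((four0 h hq).2 _).1 (inv_mem0 h hq h2 (hl.le ((conj_mem_norm ho.xn).2 (ZR (mul_mem m1 m2))))
      (Rec.conj_sq (zz2 h hq h2)) fun r hr => cm1.2 (c r (AR hr)) ▸ one_mem _) with e | e | e | e
    · rw [Rec.conj_eq_one, mul_eq_one_iff_inv_eq, inv_of_sq hq.zz_ne.2.1] at e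
      exact absurd e.symm (zne h hq)
    · exact absurd (o.1.symm.trans (conj_eq_of_comm (e ▸ c σ sR).symm)) (zne h hq)
    · exact absurd ((conj_eq_of_comm (e ▸ c σ sR).symm).symm.trans o.2.1) (zne h hq)
    · exact e
  have n2 : x ∈ normalizer ((closure {zz a n, y * zz a n * y⁻¹} : Subgroup G) : Set G) :=
    mem_normalizer_of_conj_mem fun g k => inv_mem0 h hq h2 (hl.le ((conj_mem_norm ho.xn).2 (ZR k)))
      (Rec.conj_sq ((four0 h hq).1.sq g k)) fun r hr => by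
        refine (allS (p := fun w => ⁅x * g * x⁻¹, w⁆ ∈ zpowers (zz a n * (y * zz a n * y⁻¹))) ho.xn).2
          (fun w hw => ?_) r (AR hr)
        rw [← cj_cm, ← f1, ← cj_zpowers, conj_mem_cj]
        exact (h.z2 hq (.inl h2) (hl.le (ZR k))).2 k w (hl.le hw)
  have xz := xz_of h hq h2 ho ZR n2 f1
  refine ⟨?_, xz _ m1, xz _ m2⟩
  set X := R ⊓ normalizer (Θ : Set G) with hX
  have XQ : X ≤ S ⊓ normalizer (Θ : Set G) := inf_le_inf_right _ hl.le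
  have AX : (closure {a, y * a * y⁻¹} : Subgroup G) ≤ X := le_inf AR (lQ.trans inf_le_right)
  have nX : x ∈ normalizer (X : Set G) := mem_normalizer_of_conj_mem fun g k => by
    have g1 := (conj_mem_norm ho.xn).2 k.1
    refine ⟨g1, (h.norm_iff hq (hl.le g1)).2 ?_⟩
    conv => rw [← conj_eq_of_comm (xz _ m1)]
    exact conj_comm x ((h.norm_iff hq (hl.le k.1)).1 k.2)
  have TX : supp R x ≤ X := supp_le_idx ho.xn inf_le_left nX fun u hu v hv u1 v1 => ⟨mul_mem hu hv,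
    h.ix.mul_mem (hl.le hu) (hl.le hv) (fun k => u1 ⟨hu, k⟩) fun k => v1 ⟨hv, k⟩⟩
  have nJ : ∀ K : Subgroup G, closure {jj a n, y * jj a n * y⁻¹} ≤ K → K ≤ closure {a, y * a * y⁻¹} →
      x ∉ normalizer (K : Set G) := fun K k1 k2 k3 => hl.tri.ne (ho.cz_of_chain inf_le_left
    (h.c1 hq h2 (ho.mono inf_le_left nX) AX XQ (xz _ m1) (xz _ m2) (nJ_of h hq h2 k1 k2 k3))
    fun r hr => TX (comm_mem_supp hr).1)
  have PA : phi X ≤ closure {a, y * a * y⁻¹} := phi_le_iff.2 fun r hr => h.sqQ hq h2 (hl.le hr.1) hr.2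
  have sX : σ ∈ normalizer (phi X : Set G) := norm_phi (mem_normalizer_of_conj_mem fun g k =>
    mem_inf.2 ⟨R.mul_mem (R.mul_mem sR k.1) (R.inv_mem sR), by
      rw [← cj_eq_iff.2 (show σ * y ∈ normalizer (Θ : Set G) from h.ix.mul_mem (hl.le sR) h.mem sn h.not_norm), ← cj_cj,
        norm_cj]
      exact (h.toYB.norm' (hl.le k.1)).2 k.2⟩)
  have jn : jj a n ∉ phi X ∧ y * jj a n * y⁻¹ ∉ phi X := by
    have i1 : jj a n ∈ phi X → y * jj a n * y⁻¹ ∈ phi X := fun k => by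
      refine zpowers_le.2 ((conj_mem_norm sX).2 k) ?_
      rw [← ej, show σ * jj a n * σ⁻¹ = jj (σ * a * σ⁻¹) n from conj_pow.symm, (hq'.regen o.2.2.1).2.2]
      exact mem_zpowers _
    have i2 : y * jj a n * y⁻¹ ∈ phi X → jj a n ∈ phi X := fun k => by
      refine zpowers_le.2 ((conj_mem_norm sX).2 k) ?_
      rw [← ej, show σ * jj (y * a * y⁻¹) n * σ⁻¹ = jj (σ * (y * a * y⁻¹) * σ⁻¹) n from conj_pow.symm,
        (hq.regen o.2.2.2).2.2]
      exact mem_zpowers _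
    exact ⟨fun k => nJ _ (cle k (i1 k)) PA (norm_phi nX), fun k => nJ _ (cle (i2 k) k) PA (norm_phi nX)⟩
  have p1 : phi Θ ≤ phi X := hq.phi_eq ▸ zpowers_le.2 (mem_phi (AX m1))
  have p2 : phi (Inv.Fz.cj y Θ) ≤ phi X := hq'.phi_eq ▸ zpowers_le.2 (mem_phi (AX m2))
  have k1 : ∀ {u}, u ∈ zpowers a → u ∈ phi X → u ∈ phi Θ := fun hu k => by_contra fun c =>
    jn.1 (zpowers_le.2 k ((hq.gen_of_not hu c).ge (jA hq)))
  have k2 : ∀ {u}, u ∈ zpowers (y * a * y⁻¹) → u ∈ phi X → u ∈ phi (Inv.Fz.cj y Θ) := fun hu k => by_contra fun c =>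
    jn.2 (ej ▸ zpowers_le.2 k ((hq'.gen_of_not hu c).ge (jA hq')))
  have c1 : ∀ {g}, g ∈ S ⊓ normalizer (Θ : Set G) → ⁅g, b⁆ ∈ zpowers a := fun k => ((xt h).comm hq k).1
  have c2 : ∀ {g}, g ∈ S ⊓ normalizer (Θ : Set G) → ⁅g, y * b * y⁻¹⁆ ∈ zpowers (y * a * y⁻¹) := fun k =>
    ((xt' h hq).comm hq' k).1
  refine TX.trans fun β hβ => ?_
  by_cases bR : b ∈ R
  · exact h.k0 β (XQ hβ).1 hβ.2 (k1 (c1 (XQ hβ)) (comm_mem_phi hβ ⟨bR, b1.2⟩))
      (k2 (c2 (XQ hβ)) (comm_mem_phi hβ ⟨(conj_mem_norm (nR h.mem)).2 bR, b2.2⟩))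
  exfalso
  have bR' : y * b * y⁻¹ ∉ R := mt (conj_mem_norm (nR h.mem)).1 bR
  obtain ⟨d, hd, d1, d2, dY⟩ := exists_d h hq h2
  have dQ := inQ h hq h2 hd d1
  obtain ⟨u, hu, v, hv, e, e1, e2, -⟩ := h.bsq hq h2 hd d1 d2
  have cuv := h.comm u (aL hq hu) v (aL hq' hv)
  have dR : d ∈ R := by
    by_contra c
    obtain ⟨p, hp, ep⟩ := sqb hq (c1 dQ) hu e1 e
    obtain ⟨p', hp', ep'⟩ := sqb hq' (c2 dQ) hv e2 (e.trans cuv)
    have r1 : b * d ∈ X := ⟨hl.ix.mul_mem b1.1 hd bR c, (mul_mem b1 dQ).2⟩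
    have r2 : y * b * y⁻¹ * d ∈ X := ⟨hl.ix.mul_mem b2.1 hd bR' c, (mul_mem b2 dQ).2⟩
    exact dY (h.k0 d hd dQ.2 (e1.1 (k1 hu ((mul_mem_cancel_left (p2 hp')).1 (ep' ▸ mem_phi r2))))
      (e2.1 (k2 hv ((mul_mem_cancel_left (p1 hp)).1 (ep ▸ mem_phi r1)))))
  have dP : u * v ∈ phi X := e ▸ mem_phi (show d ∈ X from ⟨dR, dQ.2⟩)
  have u1 : u ∉ phi Θ := fun k => dY (h.k0 d hd dQ.2 (e1.1 k) (e2.1 (k2 hv ((mul_mem_cancel_left (p1 k)).1 dP))))
  have v1 : v ∉ phi (Inv.Fz.cj y Θ) := fun k => u1 (k1 hu ((mul_mem_cancel_right (p2 k)).1 dP))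
  refine nJ _ (JA h hq h2) le_rfl (mem_normalizer_of_conj_mem fun g k => ?_)
  have gX := (conj_mem_norm nX).2 (AX k)
  have gq := XQ gX
  have c : Cz (x * g * x⁻¹) (phi X) := Cz.conj (fun r hr => commA h hq k (PA hr)) (norm_phi nX)
  have c' := uniq h ((conj_mem_norm gq.2).2 (aL hq hu)) ((conj_mem_norm ((xt' h hq).norm gq)).2 (aL hq' hv))
    (aL hq hu) (aL hq' hv) (by rw [← conj_mul', conj_eq_of_comm (c _ dP)])
  have g0 := lQ k
  refine (h.memA hq h2 gq.1 (comm_zpowers (comm_of_conj_eq c'.1) ((hq.gen_of_not hu u1).ge (jA hq)))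
    (ej ▸ comm_zpowers (comm_of_conj_eq c'.2) ((hq'.gen_of_not hv v1).ge (jA hq')))).2.2 ?_
  rw [conj_pow, (h.memA hq h2 g0.1 (commA h hq k (JA h hq h2 m1)) (commA h hq k (JA h hq h2 m2))).2.1 k, mul_one,
    mul_inv_cancel]

end Cfsg.Agent.GH3
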