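import Mathlib
import Cfsg.Agent.GH3.Defs3
import Cfsg.Agent.GH3.Y3
import Cfsg.Agent.GH3.YBa
import Cfsg.Agent.GH3.DihB
import Cfsg.Agent.GH3.HamC

/-! The configuration `Y×` with `|S : Y| = 8`. See `stubs/Cfsg/Agent/GH/PLAN2.md`. -/

set_option autoImplicit false
set_option linter.unusedSectionVars false

namespace Cfsg.Agent.GH3

open Cfsg.Agent.Inv.Fz Cfsg.Agent.NE Subgroup
open scoped commutatorElement

variable {G : Type*} [Group G] [Finite G] {S R K N Θ Θ' H : Subgroup G} {x s g v a b a' b' y : G} {n n' : ℕ}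

namespace Y4

theorem mul_iff (hK : ∀ u ∈ N, ∀ v ∈ N, u ∉ K → v ∉ K → u * v ∈ K) {u : G} (hu : u ∈ N) (hv : v ∈ N) :
    u * v ∈ K ↔ (u ∈ K ↔ v ∈ K) := by
  by_cases h1 : u ∈ K
  · rw [K.mul_mem_cancel_left h1]; tauto
  · by_cases h2 : v ∈ K
    · rw [K.mul_mem_cancel_right h2]; tauto
    · have := hK u hu v hv h1 h2; tauto

/-- The elements on which the two characters agree. -/
def M0 (hK : ∀ u ∈ N, ∀ v ∈ N, u ∉ K → v ∉ K → u * v ∈ K) (hy : ∀ u ∈ N, y * u * y⁻¹ ∈ N) : Subgroup G where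
  carrier := {q | q ∈ N ∧ (q ∈ K ↔ y * q * y⁻¹ ∈ K)}
  one_mem' := ⟨one_mem _, by simp⟩
  mul_mem' {u v} hu hv := ⟨mul_mem hu.1 hv.1, by
    rw [conj_mul', mul_iff hK hu.1 hv.1, mul_iff hK (hy u hu.1) (hy v hv.1), hu.2, hv.2]⟩
  inv_mem' {u} hu := ⟨inv_mem hu.1, by
    rw [show y * u⁻¹ * y⁻¹ = (y * u * y⁻¹)⁻¹ by group, inv_mem_iff, inv_mem_iff]; exact hu.2⟩

theorem exM (hK : ∀ u ∈ N, ∀ v ∈ N, u ∉ K → v ∉ K → u * v ∈ K) (hy : ∀ u ∈ N, y * u * y⁻¹ ∈ N)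
    (y2 : y * y = 1) (yN : y ∉ N) (hi : Ix S N y) {d : G} (hd : d ∈ N) (d1 : d ∉ K) (d2 : y * d * y⁻¹ ∈ K) :
    ∃ M : Subgroup G, (∀ q ∈ N, q ∈ M ↔ (q ∈ K ↔ y * q * y⁻¹ ∈ K)) ∧ Ix S M d ∧
      ∀ τ ∈ S, τ ∉ N → τ * τ = 1 → τ ∈ M := by
  have yy : ∀ u : G, y * (y * u * y⁻¹) * y⁻¹ = u := fun u => by rw [conj_conj, y2]; simp
  have hn : y ∈ normalizer (M0 hK hy : Set G) := mem_normalizer_of_conj_mem fun u hu =>
    ⟨hy u hu.1, by rw [yy]; exact hu.2.symm⟩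
  have hm : ∀ g, g ∈ ext (M0 hK hy) y ↔ g ∈ M0 hK hy ∨ y * g ∈ M0 hK hy := fun g =>
    mem_ext hn (by rw [y2]; exact one_mem _)
  have h0 : ∀ u ∈ N, ∀ v ∈ N, u ∉ M0 hK hy → v ∉ M0 hK hy → u * v ∈ M0 hK hy := fun u hu v hv h1 h2 =>
    ⟨mul_mem hu hv, by
      have k1 : ¬ (u ∈ K ↔ y * u * y⁻¹ ∈ K) := fun k => h1 ⟨hu, k⟩
      have k2 : ¬ (v ∈ K ↔ y * v * y⁻¹ ∈ K) := fun k => h2 ⟨hv, k⟩
      rw [conj_mul', mul_iff hK hu hv, mul_iff hK (hy u hu) (hy v hv)]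
      tauto⟩
  have hd0 : d ∉ M0 hK hy := fun k => d1 (k.2.2 d2)
  refine ⟨ext (M0 hK hy) y, fun q hq => ?_, fun g hg => ?_, fun τ hτ h1 h2 => ?_⟩
  · rw [hm]
    exact ⟨fun k => k.elim (fun k => k.2) fun k => (yN ((N.mul_mem_cancel_right hq).1 k.1)).elim,
      fun k => Or.inl ⟨hq, k⟩⟩
  · rw [hm, hm]
    rcases hi g hg with k | k
    · by_cases k1 : g ∈ M0 hK hy
      · exact Or.inl (Or.inl k1)
      · exact Or.inr (Or.inl (h0 d hd g k hd0 k1))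
    · by_cases k1 : y * g ∈ M0 hK hy
      · exact Or.inl (Or.inr k1)
      · have := h0 _ (hy d hd) _ k (fun k2 => hd0 (conj_mem_norm hn |>.1 k2)) k1
        exact Or.inr (Or.inr (by simpa only [mul_assoc, inv_mul_cancel_left] using this))
  · refine (hm τ).2 (Or.inr ⟨(hi τ hτ).resolve_left h1, ?_⟩)
    rw [show y * (y * τ) * y⁻¹ = (y * τ)⁻¹ by rw [sq_cancel y2, mul_inv_rev, inv_of_sq h2], inv_mem_iff]

theorem cz_sup {A B : Subgroup G} (h1 : Cz g A) (h2 : Cz g B) : Cz g (A ⊔ B) := fun r hr =>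
  (mem_centralizer_singleton_iff.1 ((sup_le (fun u hu => mem_centralizer_singleton_iff.2 (h1 u hu).symm)
    fun u hu => mem_centralizer_singleton_iff.2 (h2 u hu).symm : A ⊔ B ≤ centralizer {g}) hr)).symm

theorem main (c : Ctx G) (h : YC c.S Θ a b n y) (y2 : y * y = 1) (hc : Nat.card c.S = 2 ^ (2 * n + 5)) : False := by
  have hq := h.gd.dq
  have hx := h.yx
  have yi : y⁻¹ = y := inv_of_sq y2
  have yy : ∀ u : G, y * (y * u * y⁻¹) * y⁻¹ = u := fun u => by rw [conj_conj, y2]; simp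
  have cjy : ∀ (X : Subgroup G) (u : G), u ∈ cj y X ↔ y * u * y⁻¹ ∈ X := fun X u => by rw [mem_cj, yi]
  have bΘ : b ∈ Θ := YA.bm hq
  set Q : Subgroup G := c.S ⊓ normalizer (Θ : Set G) with hQ
  have hK : ∀ u ∈ Q, ∀ v ∈ Q, u ∉ cls Θ b → v ∉ cls Θ b → u * v ∈ cls Θ b := fun u hu v hv h1 h2 =>
    (hq.ix_cls inf_le_right hx.na hu h1).mul_mem hu hv h1 h2
  have hy : ∀ u ∈ Q, y * u * y⁻¹ ∈ Q := fun u hu =>
    ⟨c.S.mul_mem (c.S.mul_mem hx.mem hu.1) (c.S.inv_mem hx.mem), by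
      have := (hx.toYB.norm' hu.1).2 hu.2
      rwa [← cj_normalizer, cjy] at this⟩
  have hi : Ix c.S Q y := fun g hg => (hx.ix g hg).imp (fun k => ⟨hg, k⟩) fun k => ⟨mul_mem hx.mem hg, k⟩
  have k' : ∀ u ∈ Q, y * u * y⁻¹ ∈ cls Θ b ↔ ⁅u, y * b * y⁻¹⁆ ∈ phi (cj y Θ) := fun u hu => by
    rw [← cjy, cj_cls, mem_cls ((hx.toYB.norm' hu.1).2 hu.2)]
  have cK : ∀ u ∈ Q, u * b = b * u → u ∈ cls Θ b := fun u hu e =>
    (mem_cls hu.2).2 (by rw [commutatorElement_eq_one_iff_mul_comm.2 e]; exact one_mem _)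
  have cK' : ∀ u ∈ Q, Cz u (cj y Θ) → y * u * y⁻¹ ∈ cls Θ b := fun u hu e =>
    (k' u hu).2 (by rw [commutatorElement_eq_one_iff_mul_comm.2 (e _ (conj_mem_cj.2 bΘ))]; exact one_mem _)
  have ΘQ : Θ ≤ Q := le_inf hx.le le_normalizer
  obtain ⟨d, dS, dN, d1, d2⟩ : ∃ g ∈ c.S, g ∈ normalizer (Θ : Set G) ∧ ⁅g, b⁆ ∉ phi Θ ∧
      ⁅g, y * b * y⁻¹⁆ ∈ phi (cj y Θ) := by
    rcases hx.card hq with ⟨e, -⟩ | ⟨-, e⟩
    · rw [hc] at e
      have := Nat.pow_right_injective le_rfl e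
      omega
    · exact e
  have d1' : d ∉ cls Θ b := fun k => d1 ((mem_cls dN).1 k)
  have d2' := (k' d ⟨dS, dN⟩).2 d2
  obtain ⟨M, m1, m2, m3⟩ := exM hK hy y2 (fun k => hx.not_norm k.2) hi ⟨dS, dN⟩ d1' d2'
  have ΘM : Θ ≤ M := fun u hu => (m1 u (ΘQ hu)).2 (iff_of_true (hq.le_cls hu) (cK' u (ΘQ hu) (hx.comm u hu)))
  have hY : Θ ⊔ cj y Θ ≤ M := sup_le ΘM fun v hv => by
    have v1 := (cjy _ _).1 hv
    have v2 : v ∈ Q := by simpa only [yy] using hy _ (ΘQ v1)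
    exact (m1 v v2).2 (iff_of_true (cK v v2 (hx.comm b bΘ v hv).symm) (hq.le_cls v1))
  rcases c.yx_span h hY m2 (fun k => d1' (((m1 d ⟨dS, dN⟩).1 (k dS)).2 d2')) with
    ⟨Θ', a', b', y', h', ez, hM⟩ | ⟨V, g, hV, hM⟩
  swap
  · have zΘ := YA.zmem hq
    refine hM ((M.mul_mem_cancel_right (ΘM zΘ)).1 (m3 _ (mul_mem hV.mem (hx.le zΘ)) (fun k => hV.swap ?_) hV.sq))
    exact (Subgroup.mul_mem_cancel_right _ (le_normalizer zΘ)).1 k.2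
  obtain ⟨-, sN, sC⟩ := h.same h' ez
  have hq' := h'.gd.dq
  have Θ'Q : Θ' ≤ Q := fun u hu => ⟨h'.yx.le hu, (sN u (h'.yx.le hu)).1 (le_normalizer hu)⟩
  obtain ⟨u, hu, uM⟩ := SetLike.not_le_iff_exists.1 hM
  have uK : u ∉ cls Θ b := fun k => uM ((m1 u (Θ'Q hu)).2 (iff_of_true k (cK' u (Θ'Q hu) (sC u hu))))
  have aK : zpowers a ≤ cls Θ b := (DihA.aL hq).trans hq.le_cls
  have hA : zpowers a ≤ Θ' := by
    rw [← hq.gen_of_not (hq.conj_b (Θ'Q hu).2 (hx.na (Θ'Q hu))).2 fun k => uK ((mem_cls (Θ'Q hu).2).2 k),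
      zpowers_le, commutatorElement_def, mul_assoc, mul_assoc, ← mul_assoc b]
    exact mul_mem hu ((conj_mem_norm ((sN b (hx.le bΘ)).2 (le_normalizer bΘ))).2 (inv_mem hu))
  have e : zpowers a' = zpowers a := by
    obtain ⟨g, gS, gN, eg⟩ := h'.yx.swap
    rcases hq'.normal_cases Θ'Q (g := g) ⟨gS, (sN g gS).1 gN⟩ eg hA hx.na with k | k
    · exact (eq_of_le_of_card_ge k (by rw [Nat.card_zpowers, Nat.card_zpowers, hq.ord, hq'.ord])).symm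
    · exact (uK (aK (k.ge hu))).elim
  have b'Θ : b' ∈ Θ' := YA.bm hq'
  have b'Q := Θ'Q b'Θ
  have b'K : b' ∉ cls Θ b := fun k => uK (by
    rcases hq'.mem.1 hu with k1 | k1
    · exact aK (e ▸ k1)
    · exact (Subgroup.mul_mem_cancel_left _ (inv_mem k)).1 (aK (e ▸ k1)))
  obtain ⟨-, z1, hH, -⟩ := hq.double hq' e (hq.conj_b b'Q.2 (hx.na b'Q)).2 fun k => b'K ((mem_cls b'Q.2).2 k)
  have hx' := h'.yx.alt hq' hx.mem fun k => hx.not_norm ((sN y hx.mem).1 k)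
  have cm : ∀ u ∈ Θ ⊔ Θ', Cz u (cj y (Θ ⊔ Θ')) := fun u hu w hw => by
    refine (cz_sup (g := w) (fun r hr => ?_) (fun r hr => ?_) u hu).symm
    · refine (cz_sup (g := r) (hx.comm r hr) (fun v hv => ?_) w (cj_sup y Θ Θ' ▸ hw)).symm
      refine comm_of_conj (g := y) ?_
      exact (sC _ ((cjy _ _).1 hv) _ (conj_mem_cj.2 hr)).symm
    · exact (cz_sup (g := r) (sC r hr) (hx'.comm r hr) w (cj_sup y Θ Θ' ▸ hw)).symm
  have cenH : ∀ k ∈ Θ ⊔ Θ', k ∈ cj y (Θ ⊔ Θ') → k ∈ Θ := fun k h1 h2 => by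
    have := (hH.center h1).1 fun r hr => (cm r hr k h2).symm
    rw [z1] at this
    exact zpowers_le.2 (YA.zmem hq) this
  refine c.not_wr hH ⟨sup_le hx.le h'.yx.le, hx.mem, y2, cm, eq_bot_iff.2 fun k hk => ?_, fun g hg => ?_⟩
  · rw [← hx.disj]
    exact ⟨cenH k hk.1 hk.2, (cjy _ _).2 (cenH _ ((cjy _ _).1 hk.2) (conj_mem_cj.2 hk.1))⟩
  · set L := Θ ⊔ Θ' ⊔ cj y (Θ ⊔ Θ') ⊔ zpowers y
    have l1 : Θ ⊔ Θ' ≤ L := le_sup_of_le_left le_sup_left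
    have l2 : cj y (Θ ⊔ Θ') ≤ L := le_sup_of_le_left le_sup_right
    have bL : b' ∈ L := l1 (mem_sup_right b'Θ)
    have s1 : ∀ q ∈ Q, q ∈ cls Θ b → y * q * y⁻¹ ∈ cls Θ b → q ∈ L := fun q hq1 h1 h2 =>
      sup_le (le_sup_left.trans l1) ((cj_mono le_sup_left).trans l2)
        (hx.k0 q hq1.1 hq1.2 ((mem_cls hq1.2).1 h1) ((k' q hq1).1 h2))
    have yL : y ∈ L := mem_sup_right (mem_zpowers y)
    have b2 := cK' b' b'Q (sC b' b'Θ)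
    have s2 : ∀ q ∈ Q, y * q * y⁻¹ ∈ cls Θ b → q ∈ L := fun q hq1 h2 => by
      by_cases h1 : q ∈ cls Θ b
      · exact s1 q hq1 h1 h2
      · exact (L.mul_mem_cancel_left bL).1 (s1 _ (mul_mem b'Q hq1) (hK _ b'Q _ hq1 b'K h1)
          (by rw [conj_mul']; exact mul_mem b2 h2))
    have s3 : ∀ q ∈ Q, q ∈ L := fun q hq1 => by
      by_cases h2 : y * q * y⁻¹ ∈ cls Θ b
      · exact s2 q hq1 h2
      · refine (L.mul_mem_cancel_left (mul_mem (mul_mem yL bL) (inv_mem yL))).1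
          (s2 _ (mul_mem (hy _ b'Q) hq1) ?_)
        rw [conj_mul', yy]
        exact hK _ b'Q _ (hy _ hq1) b'K h2
    exact (hi g hg).elim (s3 g) fun k => (L.mul_mem_cancel_left yL).1 (s3 _ k)

end Y4

theorem Ctx.y4 (c : Ctx G) (h : YC c.S Θ a b n y) (hc : Nat.card c.S = 2 ^ (2 * n + 5)) : False := by
  have hq := h.gd.dq
  rcases c.yx_span h (sup_le le_normalizer (YA.nn h.yx).2) h.yx.ix (fun k => h.yx.not_norm (k h.yx.mem)) with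
    ⟨Θ', a', b', y', h', ez, hM⟩ | ⟨V, g, hV, -⟩
  · exact hM fun u hu => ((h.same h' ez).2.1 u (h'.yx.le hu)).1 (le_normalizer hu)
  · have zΘ := YA.zmem hq
    exact Y4.main c ⟨h.gd, h.two, h.yx.alt hq (mul_mem hV.mem (h.yx.le zΘ)) fun k =>
      hV.swap ((Subgroup.mul_mem_cancel_right _ (le_normalizer zΘ)).1 k)⟩ hV.sq hc

end Cfsg.Agent.GH3
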