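import Mathlib
import Cfsg.Agent.GH3.Defs3
import Cfsg.Agent.GH3.HamP
import Cfsg.Agent.GH3.Y6a
import Cfsg.Agent.GH3.Y6b

/-! Two good quaternion groups that generate an extraspecial group. See `stubs/Cfsg/Agent/GH/PLAN2.md`. -/

set_option autoImplicit false
set_option linter.unusedSectionVars false

namespace Cfsg.Agent.GH3

open Cfsg.Agent.Inv.Fz Cfsg.Agent.NE Subgroup UPL Y6
open scoped commutatorElement

variable {G : Type*} [Group G] [Finite G] {S R K N Θ Θ' H : Subgroup G} {x s g v a b a' b' y : G} {n n' : ℕ}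


theorem Ctx.pair (c : Ctx G) {g₁ g₂ t : G} (hH : DQ H (g₁ * g₂) g₁ n) (h3 : 3 ≤ n) (hb : g₁ * g₁ = zz (g₁ * g₂) n)
    (ht : t * t = 1) (hc : ∀ u ∈ H, ∀ v ∈ cj t H, ⁅u, v⁆ ∈ zpowers (zz (g₁ * g₂) n))
    (hd : H ⊓ cj t H = zpowers (zz (g₁ * g₂) n)) (hS : c.S = H ⊔ cj t H ⊔ zpowers t)
    (c₁ : g₁ * (t * g₁ * t⁻¹) = t * g₁ * t⁻¹ * g₁) (c₂ : g₂ * (t * g₂ * t⁻¹) = t * g₂ * t⁻¹ * g₂)
    (v₁ : ∃ R x s, T2 c.S R x s ∧ Q8 (supp R x) ∧ supp R x = closure {jj (g₁ * g₂) n, g₁})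
    (v₂ : ∃ R x s, T2 c.S R x s ∧ Q8 (supp R x) ∧ supp R x = closure {jj (g₁ * g₂) n, g₂}) : False := by
  obtain ⟨β, hβ⟩ : ∃ β, β = g₁ * g₂ := ⟨_, rfl⟩
  rw [← hβ] at hH hb hc hd v₁ v₂
  obtain ⟨z, hz⟩ : ∃ z, zz β n = z := ⟨_, rfl⟩
  rw [hz] at hb hc hd
  have tt : ∀ y, t * (t * y * t⁻¹) * t⁻¹ = y := fun y => by rw [NE.conj_conj, ht]; simp
  have tH : cj t (cj t H) = H := by rw [cj_cj, ht, cj_one]
  have z12 := hz ▸ hH.zz_ne
  have zm : z ∈ H ⊓ cj t H := hd ▸ mem_zpowers _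
  have tz : t * z * t⁻¹ = z := ((mem_zp2 z12.2.1).1 (hd ▸ (⟨tH ▸ conj_mem_cj.2 zm.2, conj_mem_cj.2 zm.1⟩ :
    t * z * t⁻¹ ∈ H ⊓ cj t H))).resolve_left (by simpa using z12.1)
  have hH' := hH.cj t
  have hz' : zz (t * β * t⁻¹) n = z := by rw [zz, conj_pow, ← tz, ← hz]
  have ej : jj (t * β * t⁻¹) n = t * jj β n * t⁻¹ := by rw [jj, conj_pow]
  have tS : t ∈ c.S := hS ▸ mem_sup_right (mem_zpowers _)
  have cz : Cz z c.S := TriA.cz_iff.2 (by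
    have : c.S ≤ centralizer {z} := hS ▸ sup_le (sup_le
      (fun r hr => mem_centralizer_singleton_iff.2 (z12.2.2 r hr).symm)
      fun r hr => mem_centralizer_singleton_iff.2 ((hz' ▸ hH'.zz_ne.2.2) r hr).symm)
      (zpowers_le.2 (mem_centralizer_singleton_iff.2 (comm_of_conj_eq tz)))
    exact mem_centralizer_iff.2 fun r hr => mem_centralizer_singleton_iff.1 (this hr))
  have lH : H ≤ c.S := hS ▸ le_sup_left.trans le_sup_left
  have lH' : cj t H ≤ c.S := hS ▸ le_sup_right.trans le_sup_left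
  have p : Pr c.S H (cj t H) z β g₁ n := ⟨hH, by omega, hz, hb, hc, hd.le, zm.2, cz, lH, lH'⟩
  have p' : Pr c.S (cj t H) H z (t * β * t⁻¹) (t * g₁ * t⁻¹) n := ⟨hH', by omega, hz', by rw [← conj_mul', hb, tz],
    fun u hu v hv => p.hc' hv hu, inf_comm H _ ▸ hd.le, zm.1, cz, lH', lH⟩
  have βm : β ∈ zpowers β := mem_zpowers _
  have g2 : g₂ = g₁⁻¹ * β := by rw [hβ, inv_mul_cancel_left]
  have g2H : g₂ ∈ H := g2 ▸ mul_mem (inv_mem p.aA) (p.αA βm)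
  have g2n : g₂ ∉ zpowers β := fun m => hH.not_mem (by simpa [g2] using mul_mem βm (inv_mem m))
  have jm : jj β n ∈ zpowers β := pow_mem βm _
  have jH := p.αA jm
  have jz : jj β n * jj β n = z := hz ▸ (hH.jj_sq p.two).1
  have ji : (jj β n)⁻¹ = jj β n * z := by rw [inv_eq_iff_mul_eq_one, ← mul_assoc, jz, p.z2]
  have gj : ∀ {u}, u ∈ H → u ∉ zpowers β → u * jj β n = jj β n * u * z := fun hu h1 => by
    rw [mul_inv_eq_iff_eq_mul.1 (p.inv_out hu h1 jm), ji, mul_assoc, mul_assoc, cz _ (lH hu)]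
  have jc : ∀ {v}, v ∈ cj t H → v * jj β n = jj β n * v := fun hv => (p.j_comm (p.j_phi h3) hv).symm
  have jc' : ∀ {v}, v ∈ H → t * jj β n * t⁻¹ * v = v * (t * jj β n * t⁻¹) := fun hv => p'.j_comm (ej ▸ p'.j_phi h3) hv
  have nY : t ∈ normalizer ((H ⊔ cj t H : Subgroup G) : Set G) := cj_eq_iff.1 (by rw [cj_sup, tH, sup_comm])
  have hi : Ix c.S (H ⊔ cj t H) t := fun y hy => (mem_ext nY (ht ▸ one_mem _)).1 (hS ▸ hy : y ∈ H ⊔ cj t H ⊔ zpowers t)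
  rcases (mem_zp2 p.z2).1 (p.hc' p.aA (conj_mem_cj.2 g2H)) with e | e
  · have e1 : g₁ * (t * g₂ * t⁻¹) = t * g₂ * t⁻¹ * g₁ := (cm1.1 e).symm
    have e2 : g₂ * (t * g₁ * t⁻¹) = t * g₁ * t⁻¹ * g₂ := by simpa only [tt] using (conj_comm t e1).symm
    have gen : ∀ {X : Subgroup G}, g₁ ∈ X → g₂ ∈ X → H ≤ X := fun a b => TriB.le_of_gen hH.eq (hβ ▸ mul_mem a b) a
    have k : ∀ {u}, u * (t * g₁ * t⁻¹) = t * g₁ * t⁻¹ * u → u * (t * g₂ * t⁻¹) = t * g₂ * t⁻¹ * u →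
        u ∈ centralizer (cj t H : Set G) := fun {u} a b => mem_centralizer_iff.2 fun v hv =>
      mem_centralizer_singleton_iff.1 ((cj_le_iff.2 fun w hw => mem_cj.1 (gen (X := cj t⁻¹ (centralizer {u}))
        (mem_cj.2 (mem_centralizer_singleton_iff.2 (by simpa using a.symm)))
        (mem_cj.2 (mem_centralizer_singleton_iff.2 (by simpa using b.symm))) hw) |> fun a => by simpa using a :
          cj t H ≤ centralizer {u}) hv)
    exact c.not_qq hH h3 (hz ▸ hb) ht (fun u hu v hv => (mem_centralizer_iff.1 (gen (k c₁ e1) (k e2 c₂) hu) v hv).symm)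
      (hz ▸ hd) hS
  obtain ⟨R₁, x₁, s₁, t₁, q₁, e₁⟩ := v₁
  obtain ⟨R₂, x₂, s₂, t₂, q₂, e₂⟩ := v₂
  have t₂' := t₂.cj (le_normalizer tS)
  have e₂' : supp (cj t R₂) (t * x₂ * t⁻¹) = closure {t * jj β n * t⁻¹, t * g₂ * t⁻¹} := by rw [← cj_supp, e₂, BsA.cj_pair]
  have l₁ : supp R₁ x₁ ≤ H := TriB.le_of_gen e₁ jH p.aA
  have l₂ : supp (cj t R₂) (t * x₂ * t⁻¹) ≤ cj t H := TriB.le_of_gen e₂' (conj_mem_cj.2 jH) (conj_mem_cj.2 g2H)
  have jz' : t * jj β n * t⁻¹ * (t * jj β n * t⁻¹) = z := by rw [← conj_mul', jz, tz]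
  have sj : ∀ {X : Subgroup G} {u v : G}, X = closure {u, v} → u * u = z → z ∈ X := fun {X u v} a b =>
    have : u ∈ X := a ▸ subset_closure (by simp)
    b ▸ mul_mem this this
  have l : Y6.Lt (supp R₁ x₁) (supp (cj t R₂) (t * x₂ * t⁻¹)) z (jj β n) g₁ (t * jj β n * t⁻¹) (t * g₂ * t⁻¹) :=
    ⟨q₁.qz_of (sj e₁ jz) p.z1 p.z2, (cj_supp t R₂ x₂ ▸ q₂.cj t).qz_of (sj e₂' jz') p.z1 p.z2, e₁, e₂',
      (inf_le_inf l₁ l₂).trans hd.le, fun u hu v hv => hc u (l₁ hu) v (l₂ hv), jz, hb, jz',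
      by rw [← conj_mul', p.sq_out g2H g2n, tz], gj p.aA hH.not_mem,
      by rw [← conj_mul', gj g2H g2n, conj_mul', conj_mul', tz], jc' jH, jc (conj_mem_cj.2 g2H), jc' p.aA,
      by rw [← cz _ (mul_mem (lH p.aA) (lH' (conj_mem_cj.2 g2H))), ← e, commutatorElement_def]; group⟩
  obtain ⟨π, bs⟩ := l.exists_bs
  have lW := sup_le (l₁.trans lH) (l₂.trans lH')
  have Zq : ∀ {u v}, u ∈ supp R₁ x₁ ⊔ supp (cj t R₂) (t * x₂ * t⁻¹) → v ∈ supp R₁ x₁ ⊔ supp (cj t R₂) (t * x₂ * t⁻¹) →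
      ⁅u, v⁆ ∈ zpowers z := fun hu hv => phi_le_iff.2 l.sq (comm_mem_phi hu hv)
  obtain ⟨a1, a2, a3⟩ := tri_act t₁ c.pS l.q lW le_sup_left fun u hu v hv => Zq hu (mem_sup_left hv)
  obtain ⟨y₁, hy₁⟩ := l.ac1 bs a1 mem_norm_supp a2 a3
  obtain ⟨a1, a2, a3⟩ := tri_act t₂' c.pS l.q' lW le_sup_right fun u hu v hv => Zq hu (mem_sup_right hv)
  obtain ⟨y₂, hy₂⟩ := l.ac2 bs a1 mem_norm_supp a2 a3
  have km : β ^ 2 ^ (n - 3) ∈ zpowers β := pow_mem βm _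
  have kj : β ^ 2 ^ (n - 3) * jj β n = jj β n * β ^ 2 ^ (n - 3) := (Commute.refl β).pow_pow _ _
  have kg : ∀ {u}, u ∈ H → u ∉ zpowers β → β ^ 2 ^ (n - 3) * u * (β ^ 2 ^ (n - 3))⁻¹ = u * (jj β n)⁻¹ := fun {u} hu h1 => by
    have := p.inv_out (inv_mem hu) (by simpa using h1) km
    rw [jj, show n - 2 = n - 3 + 1 by omega, pow_succ, pow_mul, pow_two, mul_inv_rev]
    nth_rewrite 2 [← this]
    group
  have hk := l.ac3 bs (n := β ^ 2 ^ (n - 3)) (cm1.2 kj ▸ one_mem _) (kg p.aA hH.not_mem)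
    (hc _ (p.αA km) _ (conj_mem_cj.2 jH)) (hc _ (p.αA km) _ (conj_mem_cj.2 g2H))
  have hk' := l.ac4 bs (n := t * β ^ 2 ^ (n - 3) * t⁻¹) (p.hc' jH (conj_mem_cj.2 (p.αA km)))
    (p.hc' p.aA (conj_mem_cj.2 (p.αA km))) (cm1.2 (conj_comm t kj) ▸ one_mem _) (by
      rw [conj_inv, ← conj_mul', ← conj_mul', kg g2H g2n, conj_mul', conj_inv])
  obtain ⟨P, pP, lP, nP, cP⟩ := big bs.co (c.pS.to_le lW) (by rw [l.card, l.q.cardZ]) hk hk' hy₁ hy₂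
  obtain ⟨w, wz, wP⟩ := c.extremal (lH zm.1) cz (IsConj.refl z) pP fun r hr => (l.nz (nP hr)).symm
  have wZ : ∀ {u}, w * u * w⁻¹ ∈ zpowers z ↔ u ∈ zpowers z := conj_mem_norm (cj_eq_iff.1 (by rw [cj_zpowers, wz]))
  have x : Sx c.S (cj w (supp R₁ x₁ ⊔ supp (cj t R₂) (t * x₂ * t⁻¹))) z := ⟨c.r4, (cj_mono lP).trans wP,
    wz ▸ conj_mem_cj.2 (mem_sup_left l.q.mem), BsA.all_cj.2 fun u hu => by rw [← conj_mul', wZ]; exact l.sq u hu,
    by rw [card_cj, l.card]⟩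
  have nP' : cj w P ≤ normalizer (cj w (supp R₁ x₁ ⊔ supp (cj t R₂) (t * x₂ * t⁻¹)) : Set G) :=
    cj_le_iff.2 fun r hr => BsA.norm_cj.2 (nP hr)
  have hW := p.le_base h3 x hi rfl
  by_cases hP : cj w P ≤ H ⊔ cj t H
  · have := p.card_le p' x hW hP nP'
    rw [card_cj, x.card, l.q.cardZ] at this
    omega
  obtain ⟨r, hr, r1⟩ := SetLike.not_le_iff_exists.1 hP
  have r2 := (hi r (wP hr)).resolve_left r1
  obtain ⟨u, hu, uH, u1⟩ := p.exists_e x hW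
  have m2 : t * r * u * (t * r)⁻¹ ∈ H := (conj_mem_norm (p.nY r2)).2 uH
  have n2 : t * r * u * (t * r)⁻¹ ∉ zpowers β := by rwa [conj_mem_norm (p.nα r2)]
  have f2 : t * r * u * (t * r)⁻¹ * u⁻¹ ∈ phi H := by
    obtain ⟨d, hd, d', hd', e⟩ := p.mem.1 r2
    rw [← commutatorElement_def, e, mul_cm]
    exact mul_mem ((conj_mem_norm (norm_phi (le_normalizer hd))).2 (zpowers_le.2 (jz ▸ mem_phi jH) (p.hc' uH hd')))
      (comm_mem_phi hd uH)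
  have W2 : t * (t * r * u * (t * r)⁻¹) * t⁻¹ ∈ cj w (supp R₁ x₁ ⊔ supp (cj t R₂) (t * x₂ * t⁻¹)) := by
    rw [← NE.conj_conj, tt]
    exact (conj_mem_norm (nP' hr)).2 hu
  generalize t * r * u * (t * r)⁻¹ = u₂ at m2 n2 f2 W2
  have cm : Commute u (t * u₂ * t⁻¹) := by
    have k : ∀ {g φ}, g ∈ H → φ ∈ phi H → g * (t * g * t⁻¹) = t * g * t⁻¹ * g → u = g * φ → Commute u (t * u₂ * t⁻¹) :=
      fun {g φ} hg hφ a b => by
        have d : ∀ {ψ v}, ψ ∈ phi H → v ∈ H → Commute v (t * ψ * t⁻¹) := fun hψ hv =>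
          (p'.j_comm (cj_phi t H ▸ conj_mem_cj.2 hψ) hv).symm
        rw [show u₂ = u₂ * u⁻¹ * g * φ by rw [b]; group, conj_mul', conj_mul']
        exact ((d f2 uH).mul_right (b ▸ Commute.mul_left a (p.j_comm hφ (conj_mem_cj.2 hg)))).mul_right (d hφ uH)
    have m := (hH.mem.1 uH).resolve_left u1
    by_cases a : g₁⁻¹ * u ∈ phi H
    · exact k p.aA a c₁ (by group)
    · refine k g2H (φ := g₂⁻¹ * u) ?_ c₂ (by group)
      rw [show g₂⁻¹ * u = β⁻¹ * (g₁ * g₁) * β * (β⁻¹ * (g₁⁻¹ * u)) by rw [g2]; group]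
      refine mul_mem (by simpa using (conj_mem_norm (norm_phi (le_normalizer (inv_mem (p.αA βm))))).2 (mem_phi p.aA)) ?_
      obtain ⟨i, e⟩ := m
      rw [← e, hH.phi_eq] at a ⊢
      obtain ⟨k, rfl | rfl⟩ := Int.even_or_odd' i
      · exact absurd ⟨k, by simp only [← pow_two, ← zpow_natCast, ← zpow_mul]; rfl⟩ a
      · exact ⟨k, by simp only [← pow_two, ← zpow_natCast, ← zpow_mul]; group⟩
  have j1 := p.j_mem x hW
  have j2 := p'.j_mem x (by rw [sup_comm (cj t H)]; exact hW)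
  rw [ej] at j2
  have no : ∀ {p q}, p ∈ cj w (supp R₁ x₁ ⊔ supp (cj t R₂) (t * x₂ * t⁻¹)) →
      q ∈ cj w (supp R₁ x₁ ⊔ supp (cj t R₂) (t * x₂ * t⁻¹)) → p * p = 1 → q * q = 1 → p * q * (p * q) = 1 →
      p ∈ zpowers z ∨ q ∈ zpowers z ∨ p * q ∈ zpowers z := by
    intro p q hp hq a b d
    have k : ∀ y, w * (w⁻¹ * y * w) * w⁻¹ = y := fun y => by group
    have m : ∀ y y', w⁻¹ * y * w * (w⁻¹ * y' * w) = w⁻¹ * (y * y') * w := fun y y' => by group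
    have := l.no8 (mem_cj.1 hp) (mem_cj.1 hq) (by rw [m, a]; group) (by rw [m, b]; group) (by rw [m, m, d]; group)
    rwa [m, ← wZ, k, ← wZ (u := w⁻¹ * q * w), k, ← wZ (u := w⁻¹ * (p * q) * w), k] at this
  have sq : ∀ {d d'}, Commute d d' → d * d = z → d' * d' = z → d' * d * (d' * d) = 1 := fun a b e => by
    rw [a.mul_mul_mul_comm, b, e, p.z2]
  have s2 : t * u₂ * t⁻¹ * (t * u₂ * t⁻¹) = z := by rw [← conj_mul', p.sq_out m2 n2, tz]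
  have ju : jj β n * u ∉ zpowers β := by rwa [mul_mem_cancel_left jm]
  have ju2 : jj β n * u₂ ∉ zpowers β := by rwa [mul_mem_cancel_left jm]
  have e3 : t * jj β n * t⁻¹ * jj β n * (t * u₂ * t⁻¹ * u) = t * (jj β n * u₂) * t⁻¹ * (jj β n * u) := by
    rw [conj_mul', (show Commute (jj β n) (t * u₂ * t⁻¹) from (jc (conj_mem_cj.2 m2)).symm).mul_mul_mul_comm]
  rcases no (mul_mem j2 j1) (mul_mem W2 hu) (sq (jc' jH).symm jz jz') (sq cm (p.sq_out uH u1) s2) (by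
    rw [e3]
    refine sq ?_ (p.sq_out (mul_mem jH uH) ju) (by rw [← conj_mul', p.sq_out (mul_mem jH m2) ju2, tz])
    rw [conj_mul']
    exact Commute.mul_right (jc' (mul_mem jH uH)).symm (Commute.mul_left (jc (conj_mem_cj.2 m2)).symm cm)) with a | a | a
  · exact l.nZ bs jz (p.split jH (conj_mem_cj.2 jH) a)
  · exact u1 (p.Zα (p.split uH (conj_mem_cj.2 m2) a))
  · exact ju (p.Zα (p.split (mul_mem jH uH) (conj_mem_cj.2 (mul_mem jH m2)) (e3 ▸ a)))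

end Cfsg.Agent.GH3
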