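import Mathlib
import Cfsg.Agent.GH3.Y4
import Cfsg.Agent.GH3.Y5a
import Cfsg.Agent.GH3.Y5b
import Cfsg.Agent.GH3.YO
import Cfsg.Agent.GH3.XQ
import Cfsg.Agent.GH3.XE
import Cfsg.Agent.GH3.E1
import Cfsg.Agent.GH3.E2
import Cfsg.Agent.GH3.E64
import Cfsg.Agent.GH3.E7
import Cfsg.Agent.GH3.E4
import Cfsg.Agent.GH3.E5a
import Cfsg.Agent.GH3.E5b
import Cfsg.Agent.GH3.E6

/-! Simple groups of sectional 2-rank at most four: there is no counterexample. -/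

set_option autoImplicit false
set_option linter.unusedSectionVars false

namespace Cfsg.Agent.GH3.Ctx

open Cfsg.Agent.Inv.Fz Cfsg.Agent.NE Subgroup
open scoped commutatorElement

variable {G : Type*} [Group G] [Finite G] (c : Ctx G)

theorem noYX (Θ : Subgroup G) (a b : G) (n : ℕ) (y : G) : ¬ YC c.S Θ a b n y := fun h => by
  rcases h.yx.card h.gd.dq with ⟨hc, -⟩ | ⟨hc, -⟩
  · obtain ⟨hb, V₁, V₂, g₁, g₂, h₁, h₂, hne⟩ := c.y5a h hc
    exact c.y5b h hc hb h₁ h₂ hne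
  · exact c.y4 h hc

theorem allX : c.AllX := fun R x s h => ⟨fun h4 => by
    obtain ⟨Θ, a, b, n, h1, h2 | ⟨h2, y, h3⟩⟩ := c.goodD h h4
    · exact ⟨Θ, a, b, n, h1, h2⟩
    · exact (c.noYX Θ a b n y ⟨⟨R, x, s, Or.inl h1⟩, h2, h3⟩).elim, fun h8 => by
    obtain ⟨Θ, a, b, n, h1, h2 | ⟨y, h2⟩ | ⟨y, h2⟩⟩ := h.goodQ c.pS c.r4 h8
    · exact ⟨Θ, a, b, n, h1, h2⟩
    · exact (c.noYX Θ a b n y ⟨⟨R, x, s, Or.inr h1⟩, h1.two, h2⟩).elim
    · exact (c.noYO c.noYX h1 h2).elim⟩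

theorem allE : c.AllE := by
  have hD : ∀ R x s Θ a b n, XD c.S R x s Θ a b n → n = 1 := fun R x s Θ a b n h => by
    by_contra e
    obtain ⟨Θ', a', b', k⟩ := c.exists_xh c.allX h (by have := h.td.dq.pos; omega)
    exact c.noXH c.allX k
  intro R x s h
  have hq : ¬ Q8 (supp R x) := fun h8 => by
    obtain ⟨Θ, a, b, n, h1, h2⟩ := (c.allX R x s h.toT2).2 h8
    exact c.noXQ c.allX hD h1 h2
  refine ⟨?_, hq⟩
  rcases h.kind with k | k | k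
  · exact k
  · obtain ⟨Θ, a, b, n, h1, h2⟩ := (c.allX R x s h.toT2).1 k
    obtain rfl := hD R x s Θ a b n ⟨h1, h2⟩
    exact XD.ix ⟨h1, h2⟩ c.pS
  · exact (hq k).elim

include c in
theorem false : False := by
  obtain ⟨R₁, ρ, s₁, z, u, h1⟩ := c.exists_ec c.allX c.allE
  obtain ⟨R₂, x, s₂, h2⟩ := c.exists_eh c.allE h1
  obtain ⟨f, F, h⟩ := c.exists_ef h2
  by_cases he : ρ * f * ρ⁻¹ ∈ F
  · rcases c.e5a h he with k | k
    · exact c.not64 h k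
    · obtain ⟨a, hT⟩ := c.e5b h he k
      exact c.not128 c.allE h1 hT
  · by_cases hr : f * (ρ * f * ρ⁻¹) * (ρ * (ρ * f * ρ⁻¹) * ρ⁻¹) ∈ closure {z, u}
    · exact c.e7 h he hr
    · rcases h.e4 c.pS c.r4 he hr with k | ⟨a, hT⟩
      · exact c.not64 h k
      · exact c.not128 c.allE h1 hT

end Cfsg.Agent.GH3.Ctx
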